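import Mathlib

/-!
# Fixed-point-free actions on abelian groups (helper34)

Abstract setting: a finite group `E` acting (`MulDistribMulAction`) on a commutative group `V`
so that no nonidentity element of `E` fixes a nonidentity element of `V`.

Main results: `nrm_eq_one` (the norm over a nontrivial subgroup is trivial),
`prod_orderOf_mul_pow` (partition of the elements of prime order `p` into subgroups of order `p`),
`isCyclic_of_card_eq_mul` (`|E| = p * q` forces `E` cyclic),
`isCyclic_of_comm` (`E` abelian forces `E` cyclic).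
-/

set_option autoImplicit false

namespace Cfsg.Agent.Lib.Helper34

open scoped Classical

section abstract

variable {E : Type*} [Group E] [Fintype E] {V : Type*} [CommGroup V] [MulDistribMulAction E V]

/-- The norm of `v` over the subgroup `H`. -/
noncomputable def nrm (H : Subgroup E) (v : V) : V :=
  ∏ g ∈ Finset.univ.filter (fun g : E => g ∈ H), g • v

/-- Fixed-point-free action. -/
def Fpf (E : Type*) [Group E] (V : Type*) [CommGroup V] [MulDistribMulAction E V] : Prop :=
  ∀ g : E, g ≠ 1 → ∀ v : V, g • v = v → v = 1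

theorem nrm_eq_one (hf : Fpf E V) (H : Subgroup E) (hH : H ≠ ⊥) (v : V) : nrm H v = 1 := by
  obtain ⟨h, hh, h1⟩ := H.bot_or_exists_ne_one.resolve_left hH
  apply hf h h1
  unfold nrm
  rw [Finset.smul_prod']
  apply Finset.prod_equiv (Equiv.mulLeft h)
  · intro g
    simp only [Finset.mem_filter, Finset.mem_univ, true_and, Equiv.coe_mulLeft]
    exact (H.mul_mem_cancel_left hh).symm
  · intro g _
    simp [mul_smul]

/-- The set of subgroups of order `p`. -/
noncomputable def SS (E : Type*) [Group E] [Fintype E] (p : ℕ) : Finset (Subgroup E) :=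
  (Set.toFinite {H : Subgroup E | Nat.card H = p}).toFinset

theorem mem_SS {p : ℕ} {H : Subgroup E} : H ∈ SS E p ↔ Nat.card H = p := by
  simp [SS]

/-- The elements of order `p`. -/
noncomputable def TT (E : Type*) [Group E] [Fintype E] (p : ℕ) : Finset E :=
  Finset.univ.filter (fun g : E => orderOf g = p)

theorem mem_TT {p : ℕ} {g : E} : g ∈ TT E p ↔ orderOf g = p := by
  simp [TT]

theorem zpowers_eq_of_mem {p : ℕ} (hp : p.Prime) {H : Subgroup E} (hH : Nat.card H = p) {g : E}
    (hg : g ∈ H) (hg1 : g ≠ 1) : orderOf g = p ∧ Subgroup.zpowers g = H := by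
  have hle : Subgroup.zpowers g ≤ H := by
    rw [Subgroup.zpowers_le]; exact hg
  have hdvd : orderOf g ∣ p := by
    rw [← hH, ← Nat.card_zpowers]
    exact Subgroup.card_dvd_of_le hle
  have ho : orderOf g = p := by
    rcases (Nat.dvd_prime hp).mp hdvd with h | h
    · exact absurd (orderOf_eq_one_iff.mp h) hg1
    · exact h
  refine ⟨ho, ?_⟩
  apply Subgroup.eq_of_le_of_card_ge hle
  rw [hH, Nat.card_zpowers, ho]

theorem filter_mem_eq {p : ℕ} (hp : p.Prime) {H : Subgroup E} (hH : Nat.card H = p) :
    Finset.univ.filter (fun g : E => g ∈ H) =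
      insert 1 ((TT E p).filter (fun g => Subgroup.zpowers g = H)) := by
  ext g
  simp only [Finset.mem_filter, Finset.mem_univ, true_and, Finset.mem_insert, mem_TT]
  constructor
  · intro hg
    by_cases hg1 : g = 1
    · exact Or.inl hg1
    · exact Or.inr (zpowers_eq_of_mem hp hH hg hg1)
  · rintro (rfl | ⟨_, h⟩)
    · exact H.one_mem
    · rw [← h]; exact Subgroup.mem_zpowers g

theorem one_not_mem_fiber {p : ℕ} (hp : p.Prime) (H : Subgroup E) :
    (1 : E) ∉ (TT E p).filter (fun g => Subgroup.zpowers g = H) := by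
  simp only [Finset.mem_filter, mem_TT, orderOf_one, not_and]
  intro h
  exact absurd h.symm hp.one_lt.ne'

theorem maps_TT_SS {p : ℕ} : ∀ g ∈ TT E p, Subgroup.zpowers g ∈ SS E p := by
  intro g hg
  rw [mem_SS, Nat.card_zpowers]
  exact mem_TT.mp hg

/-- Partition of the elements of order `p` into the subgroups of order `p`: products. -/
theorem prod_orderOf_mul_pow {p : ℕ} (hp : p.Prime) (v : V) :
    (∏ g ∈ TT E p, g • v) * v ^ (SS E p).card = ∏ H ∈ SS E p, nrm H v := by
  rw [← Finset.prod_fiberwise_of_maps_to (maps_TT_SS (E := E) (p := p)) (fun g => g • v)]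
  rw [← Finset.prod_const, ← Finset.prod_mul_distrib]
  apply Finset.prod_congr rfl
  intro H hH
  unfold nrm
  rw [filter_mem_eq hp (mem_SS.mp hH), Finset.prod_insert (one_not_mem_fiber hp H), one_smul,
    mul_comm]

/-- Partition of the elements of order `p` into the subgroups of order `p`: cardinalities. -/
theorem card_TT {p : ℕ} (hp : p.Prime) : (TT E p).card = (SS E p).card * (p - 1) := by
  rw [Finset.card_eq_sum_card_fiberwise (maps_TT_SS (E := E) (p := p))]
  rw [← smul_eq_mul, ← Finset.sum_const]
  apply Finset.sum_congr rfl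
  intro H hH
  have h1 : (Finset.univ.filter (fun g : E => g ∈ H)).card = p := by
    rw [← mem_SS.mp hH, Nat.card_eq_fintype_card, Fintype.card_subtype]
  rw [filter_mem_eq hp (mem_SS.mp hH), Finset.card_insert_of_notMem (one_not_mem_fiber hp H)] at h1
  omega

theorem nrm_top_eq (v : V) : nrm (⊤ : Subgroup E) v = ∏ g : E, g • v := by
  unfold nrm
  simp

/-- A group of prime order `r` acting on a nontrivial finite abelian group of exponent `r`
has a nontrivial fixed point. -/
theorem exists_fixed [Finite V] {r : ℕ} (hr : r.Prime) (hV : ∀ v : V, v ^ r = 1)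
    (hnt : ∃ v : V, v ≠ 1) (g : E) (hg : orderOf g = r) : ∃ v : V, v ≠ 1 ∧ g • v = v := by
  haveI : Fact r.Prime := ⟨hr⟩
  have hP : IsPGroup r (Subgroup.zpowers g) := by
    apply IsPGroup.of_card (n := 1)
    rw [Nat.card_zpowers, hg, pow_one]
  have hVp : IsPGroup r V := by
    intro v
    exact ⟨1, by rw [pow_one]; exact hV v⟩
  have hdvd : r ∣ Nat.card V := by
    rcases hVp.card_eq_or_dvd with h | h
    · exfalso
      obtain ⟨v, hv⟩ := hnt
      have := (Nat.card_eq_one_iff_unique.mp h).1
      exact hv (Subsingleton.elim v 1)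
    · exact h
  have h1 : (1 : V) ∈ MulAction.fixedPoints (Subgroup.zpowers g) V := by
    intro x
    exact smul_one x
  obtain ⟨b, hb, hb1⟩ := hP.exists_fixed_point_of_prime_dvd_card_of_fixed_point V hdvd h1
  refine ⟨b, fun h => hb1 h.symm, ?_⟩
  exact hb ⟨g, Subgroup.mem_zpowers g⟩

end abstract

end Cfsg.Agent.Lib.Helper34
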