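import Mathlib
import Cfsg.Agent.Lib.Helper34.FpfAction

/-!
# Fixed-point-free actions on abelian groups: cyclicity results (helper34)
-/

set_option autoImplicit false
set_option linter.style.haveILetI false
set_option linter.unusedSectionVars false

namespace Cfsg.Agent.Lib.Helper34

open scoped Classical

section main

variable {E : Type*} [Group E] [Fintype E] {V : Type*} [CommGroup V] [Finite V]
  [MulDistribMulAction E V]

theorem orderOf_eq_or_of_card {p q : ℕ} (hp : p.Prime) (hq : q.Prime)
    (hcard : Nat.card E = p * q) (hnc : ¬ IsCyclic E) (g : E) (hg : g ≠ 1) :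
    orderOf g = p ∨ orderOf g = q := by
  have hd : orderOf g ∣ p * q := hcard ▸ orderOf_dvd_natCard g
  have h1 : orderOf g ≠ 1 := fun h => hg (orderOf_eq_one_iff.mp h)
  have hpq : orderOf g ≠ p * q := by
    intro h
    exact hnc (isCyclic_of_orderOf_eq_card g (h.trans hcard.symm))
  by_cases hpd : p ∣ orderOf g
  · obtain ⟨k, hk⟩ := hpd
    rw [hk] at hd
    have hkq : k ∣ q := Nat.dvd_of_mul_dvd_mul_left hp.pos hd
    rcases (Nat.dvd_prime hq).mp hkq with h | h
    · left; rw [hk, h, mul_one]
    · exfalso; apply hpq; rw [hk, h]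
  · have hcop : Nat.Coprime (orderOf g) p := (Nat.Coprime.symm ((Nat.Prime.coprime_iff_not_dvd hp).mpr hpd))
    have hdq : orderOf g ∣ q := hcop.dvd_of_dvd_mul_left hd
    rcases (Nat.dvd_prime hq).mp hdq with h | h
    · exact absurd h h1
    · right; exact h

theorem prod_SS_nrm_eq_one (hf : Fpf E V) {p : ℕ} (hp : p.Prime) (v : V) :
    ∏ H ∈ SS E p, nrm H v = 1 := by
  apply Finset.prod_eq_one
  intro H hH
  apply nrm_eq_one hf
  intro hbot
  have := mem_SS.mp hH
  rw [hbot, Subgroup.card_bot] at this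
  exact hp.one_lt.ne this

theorem prod_univ_eq_one (hf : Fpf E V) (hE : 1 < Nat.card E) (v : V) :
    ∏ g : E, g • v = 1 := by
  rw [← nrm_top_eq]
  apply nrm_eq_one hf
  intro h
  have : Nat.card (⊤ : Subgroup E) = 1 := by rw [h, Subgroup.card_bot]
  rw [Subgroup.card_top] at this
  omega

/-- Case `|E| = r²`. -/
theorem isCyclic_of_card_eq_sq (hf : Fpf E V) (hnt : ∃ v : V, v ≠ 1) {r : ℕ} (hr : r.Prime)
    (hcard : Nat.card E = r * r) : IsCyclic E := by
  by_contra hnc
  have hord : ∀ g : E, g ≠ 1 → orderOf g = r := by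
    intro g hg
    rcases orderOf_eq_or_of_card hr hr hcard hnc g hg with h | h <;> exact h
  have hr2 : 2 ≤ r := hr.two_le
  have hE : 1 < Nat.card E := by rw [hcard]; nlinarith
  have huniv : (Finset.univ : Finset E) = insert 1 (TT E r) := by
    ext g
    simp only [Finset.mem_univ, Finset.mem_insert, mem_TT, true_iff]
    by_cases hg : g = 1
    · exact Or.inl hg
    · exact Or.inr (hord g hg)
  have h1not : (1 : E) ∉ TT E r := by
    rw [mem_TT, orderOf_one]; omega
  have hcT : (TT E r).card + 1 = r * r := by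
    rw [← hcard, Nat.card_eq_fintype_card, ← Finset.card_univ, huniv,
      Finset.card_insert_of_notMem h1not]
  have hn : (SS E r).card = r + 1 := by
    have h1 := card_TT (E := E) hr
    have h2 : (SS E r).card * (r - 1) = (r + 1) * (r - 1) := by
      rw [← h1]
      have : (r + 1) * (r - 1) + 1 = r * r := by
        obtain ⟨s, rfl⟩ : ∃ s, r = s + 1 := ⟨r - 1, by omega⟩
        simp only [Nat.add_sub_cancel]; ring
      omega
    exact Nat.eq_of_mul_eq_mul_right (by omega) h2
  have hV : ∀ v : V, v ^ r = 1 := by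
    intro v
    have h1 := prod_univ_eq_one hf hE v
    rw [huniv, Finset.prod_insert h1not, one_smul] at h1
    have h2 := prod_orderOf_mul_pow (E := E) hr v
    rw [prod_SS_nrm_eq_one hf hr, hn, pow_succ] at h2
    -- h1 : v * P = 1 ; h2 : P * (v^r * v) = 1
    have h3 : (∏ g ∈ TT E r, g • v) = v⁻¹ := by
      rw [eq_inv_iff_mul_eq_one, mul_comm]; exact h1
    rw [h3] at h2
    have : v ^ r = v⁻¹ * (v ^ r * v) := by
      rw [mul_comm (v ^ r) v, inv_mul_cancel_left]
    rw [this, h2]
  obtain ⟨g, hg⟩ : ∃ g : E, g ≠ 1 := by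
    by_contra hall
    push Not at hall
    have : Nat.card E = 1 := by
      rw [Nat.card_eq_one_iff_unique]
      exact ⟨⟨fun a b => (hall a).trans (hall b).symm⟩, ⟨1⟩⟩
    omega
  obtain ⟨v, hv1, hv⟩ := exists_fixed hr hV hnt g (hord g hg)
  exact hv1 (hf g hg v hv)

/-- Case `|E| = p q` with `p < q`. -/
theorem isCyclic_of_card_eq_mul_lt (hf : Fpf E V) (hnt : ∃ v : V, v ≠ 1) {p q : ℕ} (hp : p.Prime)
    (hq : q.Prime) (hpq : p < q) (hcard : Nat.card E = p * q) : IsCyclic E := by
  by_contra hnc
  have hord := orderOf_eq_or_of_card hp hq hcard hnc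
  have hp2 : 2 ≤ p := hp.two_le
  have hE : 1 < Nat.card E := by rw [hcard]; nlinarith
  haveI : Fact q.Prime := ⟨hq⟩
  obtain ⟨y, hy⟩ := exists_prime_orderOf_dvd_card (G := E) q
    (by rw [← Nat.card_eq_fintype_card, hcard]; exact dvd_mul_left q p)
  set Q : Subgroup E := Subgroup.zpowers y with hQ
  have hQc : Nat.card Q = q := by rw [hQ, Nat.card_zpowers, hy]
  have hQi : Q.index = p := by
    have := Q.card_mul_index
    rw [hQc, hcard, mul_comm] at this
    exact Nat.eq_of_mul_eq_mul_right hq.pos this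
  have hmin : (Nat.card E).minFac = p := by
    rw [hcard]
    have h1 : (p * q).minFac ∣ p * q := Nat.minFac_dvd _
    have h2 : (p * q).minFac.Prime := Nat.minFac_prime (by nlinarith)
    have h3 : (p * q).minFac ≤ p := Nat.minFac_le_of_dvd hp2 (dvd_mul_right p q)
    rcases (Nat.Prime.dvd_mul h2).mp h1 with h | h
    · exact (Nat.prime_dvd_prime_iff_eq h2 hp).mp h
    · have := (Nat.prime_dvd_prime_iff_eq h2 hq).mp h
      omega
  haveI hQn : Q.Normal := Subgroup.normal_of_index_eq_minFac_card (hQi.trans hmin.symm)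
  have hout : ∀ g : E, g ∉ Q → orderOf g = p := by
    intro g hg
    have hg1 : g ≠ 1 := fun h => hg (h ▸ Q.one_mem)
    have hcq : Nat.card (E ⧸ Q) = p := by rw [← Subgroup.index_eq_card]; exact hQi
    have hne : (QuotientGroup.mk g : E ⧸ Q) ≠ 1 := by
      intro h
      exact hg ((QuotientGroup.eq_one_iff g).mp h)
    have ho : orderOf (QuotientGroup.mk g : E ⧸ Q) = p := by
      have hd : orderOf (QuotientGroup.mk g : E ⧸ Q) ∣ p := hcq ▸ orderOf_dvd_natCard _
      rcases (Nat.dvd_prime hp).mp hd with h | h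
      · exact absurd (orderOf_eq_one_iff.mp h) hne
      · exact h
    have hd : p ∣ orderOf g := by
      rw [← ho]
      exact orderOf_map_dvd (QuotientGroup.mk' Q) g
    rcases hord g hg1 with h | h
    · exact h
    · rw [h] at hd
      have := (Nat.prime_dvd_prime_iff_eq hp hq).mp hd
      omega
  have hin : ∀ g : E, g ∈ Q → orderOf g ≠ p := by
    intro g hg h
    have hd : orderOf g ∣ q := by
      have := Subgroup.orderOf_dvd_natCard Q hg
      rwa [hQc] at this
    rw [h] at hd
    have := (Nat.prime_dvd_prime_iff_eq hp hq).mp hd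
    omega
  have hTT : TT E p = Finset.univ.filter (fun g : E => ¬ g ∈ Q) := by
    ext g
    simp only [mem_TT, Finset.mem_filter, Finset.mem_univ, true_and]
    constructor
    · intro h hg
      exact hin g hg h
    · exact hout g
  have hcQ : (Finset.univ.filter (fun g : E => g ∈ Q)).card = q := by
    rw [← hQc, Nat.card_eq_fintype_card, Fintype.card_subtype]
  have hcT : (TT E p).card + q = p * q := by
    have h0 := Finset.card_filter_add_card_filter_not (s := (Finset.univ : Finset E))
      (fun g : E => g ∈ Q)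
    rw [hcQ, Finset.card_univ, ← Nat.card_eq_fintype_card, hcard, ← hTT] at h0
    omega
  have hn : (SS E p).card = q := by
    have h1 := card_TT (E := E) hp
    have h2 : (SS E p).card * (p - 1) = q * (p - 1) := by
      rw [← h1]
      have : q * (p - 1) + q = p * q := by
        obtain ⟨s, rfl⟩ : ∃ s, p = s + 1 := ⟨p - 1, by omega⟩
        simp only [Nat.add_sub_cancel]; ring
      omega
    exact Nat.eq_of_mul_eq_mul_right (by omega) h2
  have hV : ∀ v : V, v ^ q = 1 := by
    intro v
    have h1 := prod_univ_eq_one hf hE v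
    have hQne : Q ≠ ⊥ := by
      intro h
      rw [h, Subgroup.card_bot] at hQc
      exact hq.one_lt.ne hQc
    have h2 := nrm_eq_one hf Q hQne v
    unfold nrm at h2
    have h3 := Finset.prod_filter_mul_prod_filter_not (Finset.univ : Finset E)
      (fun g : E => g ∈ Q) (fun g => g • v)
    rw [h2, h1, one_mul, ← hTT] at h3
    have h4 := prod_orderOf_mul_pow (E := E) hp v
    rw [prod_SS_nrm_eq_one hf hp, hn, h3, one_mul] at h4
    exact h4
  have hy1 : y ≠ 1 := by
    intro h
    rw [h, orderOf_one] at hy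
    exact hq.one_lt.ne hy
  obtain ⟨v, hv1, hv⟩ := exists_fixed hq hV hnt y hy
  exact hv1 (hf y hy1 v hv)

/-- A group of order `p q` acting fixed-point-freely on a nontrivial finite abelian group is
cyclic. -/
theorem isCyclic_of_card_eq_mul (hf : Fpf E V) (hnt : ∃ v : V, v ≠ 1) {p q : ℕ} (hp : p.Prime)
    (hq : q.Prime) (hcard : Nat.card E = p * q) : IsCyclic E := by
  rcases lt_trichotomy p q with h | h | h
  · exact isCyclic_of_card_eq_mul_lt hf hnt hp hq h hcard
  · subst h
    exact isCyclic_of_card_eq_sq hf hnt hp hcard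
  · exact isCyclic_of_card_eq_mul_lt hf hnt hq hp h (by rw [hcard, mul_comm])

end main

section comm

/-- A noncyclic finite abelian group contains two elements of the same prime order generating
distinct subgroups. -/
theorem exists_pair {A : Type*} [CommGroup A] [Finite A] (h : ¬ IsCyclic A) :
    ∃ r : ℕ, r.Prime ∧ ∃ a b : A, orderOf a = r ∧ orderOf b = r ∧ b ∉ Subgroup.zpowers a := by
  obtain ⟨g, hg⟩ := Monoid.exists_orderOf_eq_exponent (Monoid.ExponentExists.of_finite (G := A))
  have hgtop : Subgroup.zpowers g ≠ ⊤ := by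
    intro htop
    apply h
    refine ⟨⟨g, fun x => ?_⟩⟩
    have : x ∈ Subgroup.zpowers g := by rw [htop]; trivial
    exact this
  haveI hnt : Nontrivial (A ⧸ Subgroup.zpowers g) := QuotientGroup.nontrivial_iff.mpr hgtop
  have hc1 : Nat.card (A ⧸ Subgroup.zpowers g) ≠ 1 := by
    intro h1
    have := (Nat.card_eq_one_iff_unique.mp h1).1
    exact not_subsingleton _ this
  obtain ⟨r, hr, hrd⟩ := Nat.exists_prime_and_dvd hc1
  haveI : Fact r.Prime := ⟨hr⟩
  obtain ⟨xbar, hx⟩ := exists_prime_orderOf_dvd_card' r hrd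
  obtain ⟨x, rfl⟩ := QuotientGroup.mk_surjective xbar
  have hxnot : x ∉ Subgroup.zpowers g := by
    intro hmem
    have h1 : (QuotientGroup.mk x : A ⧸ Subgroup.zpowers g) = 1 :=
      (QuotientGroup.eq_one_iff x).mpr hmem
    rw [h1, orderOf_one] at hx
    exact hr.one_lt.ne hx
  have hxr : x ^ r ∈ Subgroup.zpowers g := by
    rw [← QuotientGroup.eq_one_iff, QuotientGroup.mk_pow, ← hx, pow_orderOf_eq_one]
  obtain ⟨k, hk⟩ := Subgroup.mem_zpowers_iff.mp hxr
  set e := Monoid.exponent A with he
  have he0 : 0 < e := by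
    rw [← hg]; exact orderOf_pos g
  have hre : r ∣ e := by
    by_contra hre
    have hcop : Nat.Coprime r (orderOf x) :=
      Nat.Coprime.coprime_dvd_right (Monoid.order_dvd_exponent x)
        ((Nat.Prime.coprime_iff_not_dvd hr).mpr hre)
    obtain ⟨m, hm⟩ := exists_pow_eq_self_of_coprime hcop
    apply hxnot
    rw [← hm]
    exact Subgroup.pow_mem _ hxr m
  obtain ⟨m, hm⟩ := hre
  have hm0 : 0 < m := by
    rcases Nat.eq_zero_or_pos m with h0 | h0
    · rw [h0, mul_zero] at hm; omega
    · exact h0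
  have hxe : x ^ e = 1 := Monoid.pow_exponent_eq_one x
  have hrk : (r : ℤ) ∣ k := by
    have h1 : g ^ (k * (m : ℤ)) = 1 := by
      rw [zpow_mul, hk, zpow_natCast, ← pow_mul, ← hm, hxe]
    have h2 : (orderOf g : ℤ) ∣ k * m := orderOf_dvd_iff_zpow_eq_one.mpr h1
    rw [hg, hm] at h2
    push_cast at h2
    exact Int.dvd_of_mul_dvd_mul_right (by exact_mod_cast hm0.ne') h2
  obtain ⟨k', hk'⟩ := hrk
  refine ⟨r, hr, g ^ m, x * g ^ (-k'), ?_, ?_, ?_⟩
  · apply orderOf_eq_prime
    · rw [← pow_mul, mul_comm, ← hm, ← hg, pow_orderOf_eq_one]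
    · intro h1
      have : orderOf g ∣ m := orderOf_dvd_of_pow_eq_one h1
      rw [hg, hm] at this
      have := Nat.le_of_dvd hm0 this
      have hr2 := hr.two_le
      nlinarith
  · apply orderOf_eq_prime
    · rw [mul_pow, ← hk, ← zpow_natCast (g ^ (-k')) r, ← zpow_mul, ← zpow_add, hk']
      have : (r : ℤ) * k' + -k' * (r : ℤ) = 0 := by ring
      rw [this, zpow_zero]
    · intro h1
      apply hxnot
      have : x = g ^ k' := by
        have := congrArg (fun z => z * g ^ k') h1
        simpa [mul_assoc, ← zpow_add] using this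
      rw [this]
      exact Subgroup.zpow_mem_zpowers g k'
  · intro hmem
    apply hxnot
    have hle : Subgroup.zpowers (g ^ m) ≤ Subgroup.zpowers g := by
      rw [Subgroup.zpowers_le]
      exact Subgroup.pow_mem _ (Subgroup.mem_zpowers g) m
    have h1 : x * g ^ (-k') ∈ Subgroup.zpowers g := hle hmem
    have h2 : x * g ^ (-k') * g ^ k' ∈ Subgroup.zpowers g :=
      Subgroup.mul_mem _ h1 (Subgroup.zpow_mem_zpowers g k')
    simpa [mul_assoc, ← zpow_add] using h2

/-- An abelian group acting fixed-point-freely on a nontrivial finite abelian group is cyclic. -/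
theorem isCyclic_of_comm {E : Type*} [CommGroup E] [Finite E] {V : Type*} [CommGroup V] [Finite V]
    [MulDistribMulAction E V] (hf : Fpf E V) (hnt : ∃ v : V, v ≠ 1) : IsCyclic E := by
  by_contra hnc
  haveI : Fintype E := Fintype.ofFinite E
  obtain ⟨r, hr, a, b, ha, hb, hab⟩ := exists_pair hnc
  let ψ : ↥(Subgroup.zpowers a) × ↥(Subgroup.zpowers b) →* E :=
    (Subgroup.zpowers a).subtype.coprod (Subgroup.zpowers b).subtype
  have hψ : ∀ x, ψ x = (x.1 : E) * (x.2 : E) := fun x => rfl
  have hinj : ∀ x, ψ x = 1 → x = 1 := by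
    rintro ⟨u, w⟩ hx
    rw [hψ] at hx
    simp only at hx
    have hw1 : (w : E) = 1 := by
      by_contra hw1
      have hcard : Nat.card (Subgroup.zpowers b) = r := by rw [Nat.card_zpowers, hb]
      obtain ⟨_, hz⟩ := zpowers_eq_of_mem hr hcard w.2 hw1
      apply hab
      have hwa : (w : E) ∈ Subgroup.zpowers a := by
        have : (w : E) = (u : E)⁻¹ := (eq_inv_of_mul_eq_one_right hx)
        rw [this]
        exact Subgroup.inv_mem _ u.2
      have : Subgroup.zpowers b ≤ Subgroup.zpowers a := by
        rw [← hz, Subgroup.zpowers_le]; exact hwa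
      exact this (Subgroup.mem_zpowers b)
    rw [hw1, mul_one] at hx
    apply Prod.ext
    · exact Subtype.ext hx
    · exact Subtype.ext hw1
  letI : MulDistribMulAction (↥(Subgroup.zpowers a) × ↥(Subgroup.zpowers b)) V :=
    MulDistribMulAction.compHom V ψ
  haveI : Fintype (↥(Subgroup.zpowers a) × ↥(Subgroup.zpowers b)) := Fintype.ofFinite _
  have hf' : Fpf (↥(Subgroup.zpowers a) × ↥(Subgroup.zpowers b)) V := by
    intro x hx v hv
    have hx' : ψ x ≠ 1 := fun h => hx (hinj x h)
    exact hf (ψ x) hx' v hv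
  have hcard : Nat.card (↥(Subgroup.zpowers a) × ↥(Subgroup.zpowers b)) = r * r := by
    rw [Nat.card_prod, Nat.card_zpowers, Nat.card_zpowers, ha, hb]
  have hcyc := isCyclic_of_card_eq_mul hf' hnt hr hr hcard
  have hexp : Monoid.exponent (↥(Subgroup.zpowers a) × ↥(Subgroup.zpowers b)) ∣ r := by
    apply Monoid.exponent_dvd_of_forall_pow_eq_one
    rintro ⟨u, w⟩
    apply Prod.ext
    · have : orderOf u ∣ r := by
        have := orderOf_dvd_natCard u
        rwa [Nat.card_zpowers, ha] at this
      exact orderOf_dvd_iff_pow_eq_one.mp this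
    · have : orderOf w ∣ r := by
        have := orderOf_dvd_natCard w
        rwa [Nat.card_zpowers, hb] at this
      exact orderOf_dvd_iff_pow_eq_one.mp this
  rw [IsCyclic.exponent_eq_card, hcard] at hexp
  have := Nat.le_of_dvd hr.pos hexp
  have hr2 := hr.two_le
  nlinarith

end comm

end Cfsg.Agent.Lib.Helper34
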