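import Mathlib

/-!
# Kernel components of an abelian group acting coprimely on an abelian group

For an abelian subgroup `A` of a group `Γ` acting on a commutative group `W`, and a subgroup `B ≤ A`,
`comp A B` is the part of `W` centralized by `B` on which every element of `A` outside `B` has trivial
norm (hence, in coprime characteristic, acts freely).  These components are independent, conjugation
equivariant, and detect every element of `A` acting nontrivially.
-/

set_option autoImplicit false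
set_option linter.unusedSectionVars false
set_option linter.unusedVariables false

universe u v

namespace Cfsg.Agent.Lib.Helper34.BGE

variable {Γ : Type u} [Group Γ] {W : Type v} [CommGroup W] [MulDistribMulAction Γ W]

/-- the norm of `a` applied to `w`. -/
noncomputable def nm (a : Γ) (w : W) : W := ∏ i ∈ Finset.range (orderOf a), (a ^ i) • w

theorem nm_mul (a : Γ) (w₁ w₂ : W) : nm a (w₁ * w₂) = nm a w₁ * nm a w₂ := by
  simp only [nm, smul_mul', Finset.prod_mul_distrib]

theorem nm_one (a : Γ) : nm a (1 : W) = 1 := by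
  simp only [nm, smul_one, Finset.prod_const_one]

theorem nm_inv (a : Γ) (w : W) : nm a w⁻¹ = (nm a w)⁻¹ := by
  simp only [nm, smul_inv', Finset.prod_inv_distrib]

/-- the norm as a monoid hom. -/
noncomputable def nmHom (a : Γ) : W →* W where
  toFun := nm a
  map_one' := nm_one a
  map_mul' := nm_mul a

theorem nmHom_apply (a : Γ) (w : W) : nmHom a w = nm a w := rfl

theorem pow_smul_of_fixed {a : Γ} {w : W} (h : a • w = w) (i : ℕ) : (a ^ i) • w = w := by
  induction i with
  | zero => simp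
  | succ k ih => rw [pow_succ, mul_smul, h, ih]

theorem nm_of_fixed {a : Γ} {w : W} (h : a • w = w) : nm a w = w ^ orderOf a := by
  simp only [nm, pow_smul_of_fixed h, Finset.prod_const, Finset.card_range]

theorem smul_nm_of_commute {a b : Γ} (hab : b * a = a * b) (w : W) :
    b • nm a w = nm a (b • w) := by
  unfold nm
  rw [Finset.smul_prod']
  refine Finset.prod_congr rfl fun i _ => ?_
  have hc : Commute b a := hab
  have h2 : b * a ^ i = a ^ i * b := (hc.pow_right i).eq
  rw [← mul_smul, h2, mul_smul]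

theorem smul_nm_self [Finite Γ] (a : Γ) (w : W) : a • nm a w = nm a w := by
  unfold nm
  rw [Finset.smul_prod']
  have h1 : ∀ i, a • (a ^ i) • w = (a ^ (i + 1)) • w := by
    intro i
    rw [← mul_smul, ← pow_succ']
  simp only [h1]
  have h2 := Finset.prod_range_succ' (fun i => (a ^ i) • w) (orderOf a)
  have h3 := Finset.prod_range_succ (fun i => (a ^ i) • w) (orderOf a)
  rw [h3] at h2
  simp only [pow_orderOf_eq_one, one_smul, pow_zero] at h2
  exact (mul_right_cancel h2).symm

theorem smul_nm_conj (g a : Γ) (w : W) : g • nm a w = nm (g * a * g⁻¹) (g • w) := by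
  unfold nm
  have ho : orderOf (g * a * g⁻¹) = orderOf a :=
    orderOf_injective (MulAut.conj g).toMonoidHom (MulAut.conj g).injective a
  rw [Finset.smul_prod', ho]
  refine Finset.prod_congr rfl fun i _ => ?_
  rw [conj_pow, ← mul_smul, ← mul_smul]
  congr 1
  group

/-- conjugate of a subgroup. -/
def cj (g : Γ) (B : Subgroup Γ) : Subgroup Γ := B.map (MulAut.conj g).toMonoidHom

theorem mem_cj_iff {g x : Γ} {B : Subgroup Γ} : x ∈ cj g B ↔ g⁻¹ * x * g ∈ B := by
  unfold cj
  rw [Subgroup.mem_map]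
  constructor
  · rintro ⟨b, hb, rfl⟩
    have : g⁻¹ * ((MulAut.conj g).toMonoidHom b) * g = b := by
      simp [MulAut.conj_apply]
      group
    rw [this]; exact hb
  · intro h
    refine ⟨g⁻¹ * x * g, h, ?_⟩
    simp [MulAut.conj_apply]
    group

theorem conj_mem_cj {g b : Γ} {B : Subgroup Γ} (hb : b ∈ B) : g * b * g⁻¹ ∈ cj g B := by
  rw [mem_cj_iff]
  have : g⁻¹ * (g * b * g⁻¹) * g = b := by group
  rw [this]; exact hb

theorem cj_one (B : Subgroup Γ) : cj 1 B = B := by
  ext x; rw [mem_cj_iff]; simp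

theorem cj_mul (g h : Γ) (B : Subgroup Γ) : cj (g * h) B = cj g (cj h B) := by
  ext x
  rw [mem_cj_iff, mem_cj_iff, mem_cj_iff]
  have : (g * h)⁻¹ * x * (g * h) = h⁻¹ * (g⁻¹ * x * g) * h := by group
  rw [this]

theorem cj_inv_cancel (g : Γ) (B : Subgroup Γ) : cj g⁻¹ (cj g B) = B := by
  rw [← cj_mul, inv_mul_cancel, cj_one]

theorem cj_cancel_inv (g : Γ) (B : Subgroup Γ) : cj g (cj g⁻¹ B) = B := by
  rw [← cj_mul, mul_inv_cancel, cj_one]

theorem cj_pow_of_fixed {g : Γ} {B : Subgroup Γ} (h : cj g B = B) (k : ℕ) : cj (g ^ k) B = B := by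
  induction k with
  | zero => simp [cj_one]
  | succ k ih => rw [pow_succ, cj_mul, h, ih]

theorem cj_inv_of_fixed {g : Γ} {B : Subgroup Γ} (h : cj g B = B) : cj g⁻¹ B = B := by
  conv_lhs => rw [← h]
  exact cj_inv_cancel g B

theorem cj_le_of_normalizer {g : Γ} {A B : Subgroup Γ} (hg : g ∈ Subgroup.normalizer (A : Set Γ))
    (hBA : B ≤ A) : cj g B ≤ A := by
  intro x hx
  rw [mem_cj_iff] at hx
  have h1 := hBA hx
  have h2 := (Subgroup.mem_normalizer_iff.mp hg (g⁻¹ * x * g)).mp h1
  have : g * (g⁻¹ * x * g) * g⁻¹ = x := by group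
  rwa [this] at h2

theorem card_cj (g : Γ) (B : Subgroup Γ) : Nat.card (cj g B) = Nat.card B := by
  unfold cj
  exact Nat.card_congr (Subgroup.equivMapOfInjective B _ (MulAut.conj g).injective).symm.toEquiv

/-- the kernel component. -/
def comp (A B : Subgroup Γ) : Subgroup W where
  carrier := {w | (∀ b ∈ B, b • w = w) ∧ ∀ a ∈ A, a ∉ B → nm a w = 1}
  one_mem' := ⟨fun b _ => smul_one b, fun a _ _ => nm_one a⟩
  mul_mem' := by
    rintro x y ⟨hx1, hx2⟩ ⟨hy1, hy2⟩
    refine ⟨fun b hb => ?_, fun a ha hab => ?_⟩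
    · rw [smul_mul', hx1 b hb, hy1 b hb]
    · rw [nm_mul, hx2 a ha hab, hy2 a ha hab, one_mul]
  inv_mem' := by
    rintro x ⟨hx1, hx2⟩
    refine ⟨fun b hb => ?_, fun a ha hab => ?_⟩
    · rw [smul_inv', hx1 b hb]
    · rw [nm_inv, hx2 a ha hab, inv_one]

theorem mem_comp {A B : Subgroup Γ} {w : W} :
    w ∈ comp A B ↔ (∀ b ∈ B, b • w = w) ∧ ∀ a ∈ A, a ∉ B → nm a w = 1 := Iff.rfl

section abelian

variable {A : Subgroup Γ} (hA : ∀ a ∈ A, ∀ b ∈ A, a * b = b * a)

include hA in
theorem smul_mem_comp {B : Subgroup Γ} (hBA : B ≤ A) {a : Γ} (ha : a ∈ A) {w : W}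
    (hw : w ∈ comp A B) : a • w ∈ comp A B := by
  obtain ⟨h1, h2⟩ := hw
  refine ⟨fun b hb => ?_, fun a' ha' hab => ?_⟩
  · rw [← mul_smul, hA b (hBA hb) a ha, mul_smul, h1 b hb]
  · rw [← smul_nm_of_commute (hA a ha a' ha'), h2 a' ha' hab, smul_one]

theorem comp_free [Finite W] {B : Subgroup Γ} [Finite A]
    (hcop : (Nat.card A).Coprime (Nat.card W)) {a : Γ} (ha : a ∈ A) (haB : a ∉ B) {w : W}
    (hw : w ∈ comp A B) (hfix : a • w = w) : w = 1 := by
  have h1 : w ^ orderOf a = 1 := by rw [← nm_of_fixed hfix]; exact hw.2 a ha haB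
  have h2 : orderOf w ∣ orderOf a := orderOf_dvd_of_pow_eq_one h1
  have h3 : orderOf a ∣ Nat.card A := by
    have := orderOf_dvd_natCard (⟨a, ha⟩ : A)
    rwa [Subgroup.orderOf_mk] at this
  have h4 : orderOf w ∣ Nat.card W := orderOf_dvd_natCard w
  have h5 : orderOf w = 1 := Nat.eq_one_of_dvd_coprimes hcop (h2.trans h3) h4
  exact orderOf_eq_one_iff.mp h5

theorem smul_mem_comp_cj {B : Subgroup Γ} {g : Γ}
    (hg : g ∈ Subgroup.normalizer (A : Set Γ)) {w : W} (hw : w ∈ comp A B) :
    g • w ∈ comp A (cj g B) := by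
  obtain ⟨h1, h2⟩ := hw
  refine ⟨fun b hb => ?_, fun a ha hab => ?_⟩
  · rw [mem_cj_iff] at hb
    have := h1 _ hb
    have e : b • g • w = g • (g⁻¹ * b * g) • w := by
      rw [← mul_smul, ← mul_smul]; congr 1; group
    rw [e, this]
  · have ha' : g⁻¹ * a * g ∈ A := by
      have hg' : g⁻¹ ∈ Subgroup.normalizer (A : Set Γ) := Subgroup.inv_mem _ hg
      have := (Subgroup.mem_normalizer_iff.mp hg' a).mp ha
      simpa using this
    have hab' : g⁻¹ * a * g ∉ B := fun h => hab (mem_cj_iff.mpr h)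
    have := h2 _ ha' hab'
    have e : nm a (g • w) = g • nm (g⁻¹ * a * g) w := by
      rw [smul_nm_conj]; congr 1; group
    rw [e, this, smul_one]

theorem comp_cj_ne_bot {B : Subgroup Γ} {g : Γ}
    (hg : g ∈ Subgroup.normalizer (A : Set Γ)) (h : comp (W := W) A B ≠ ⊥) :
    comp (W := W) A (cj g B) ≠ ⊥ := by
  obtain ⟨w, hw1⟩ := (Subgroup.ne_bot_iff_exists_ne_one).mp h
  rw [Subgroup.ne_bot_iff_exists_ne_one]
  refine ⟨⟨g • (w : W), smul_mem_comp_cj hg w.2⟩, ?_⟩
  intro h1
  apply hw1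
  have : g • (w : W) = 1 := congrArg Subtype.val h1
  have h2 : (w : W) = 1 := by
    have := congrArg (fun x => g⁻¹ • x) this
    simpa using this
  exact Subtype.ext h2

include hA in
/-- **Independence** of the kernel components. -/
theorem comp_indep [Finite W] [Finite A] (hcop : (Nat.card A).Coprime (Nat.card W))
    {ι : Type*} [DecidableEq ι] (B : ι → Subgroup Γ) :
    ∀ (n : ℕ) (T : Finset ι), T.card = n → (∀ i ∈ T, B i ≤ A) →
      (∀ i ∈ T, ∀ j ∈ T, B i = B j → i = j) → ∀ f : ι → W, (∀ i ∈ T, f i ∈ comp A (B i)) →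
      ∏ i ∈ T, f i = 1 → ∀ i ∈ T, f i = 1 := by
  intro n
  induction n using Nat.strong_induction_on with
  | _ n ih =>
    intro T hT hBA hinj f hf hprod
    by_cases h2 : ∃ i₁ ∈ T, ∃ i₂ ∈ T, i₁ ≠ i₂
    · obtain ⟨j₁, hj₁, j₂, hj₂, hne⟩ := h2
      have hBne : B j₁ ≠ B j₂ := fun h => hne (hinj j₁ hj₁ j₂ hj₂ h)
      obtain ⟨i₁, hi₁, i₂, hi₂, m, hm1, hm2⟩ :
          ∃ i₁ ∈ T, ∃ i₂ ∈ T, ∃ m, m ∈ B i₁ ∧ m ∉ B i₂ := by
        by_cases hle : B j₁ ≤ B j₂
        · have : ¬ B j₂ ≤ B j₁ := fun h => hBne (le_antisymm hle h)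
          obtain ⟨m, hm1, hm2⟩ := SetLike.not_le_iff_exists.mp this
          exact ⟨j₂, hj₂, j₁, hj₁, m, hm1, hm2⟩
        · obtain ⟨m, hm1, hm2⟩ := SetLike.not_le_iff_exists.mp hle
          exact ⟨j₁, hj₁, j₂, hj₂, m, hm1, hm2⟩
      have hne12 : i₁ ≠ i₂ := by rintro rfl; exact hm2 hm1
      have hmA : m ∈ A := hBA i₁ hi₁ hm1
      have hg : ∀ i ∈ T, (m • f i) * (f i)⁻¹ ∈ comp A (B i) :=
        fun i hi => Subgroup.mul_mem _ (smul_mem_comp hA (hBA i hi) hmA (hf i hi))
          (Subgroup.inv_mem _ (hf i hi))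
      have hgprod : ∏ i ∈ T, (m • f i) * (f i)⁻¹ = 1 := by
        rw [Finset.prod_mul_distrib, Finset.prod_inv_distrib, ← Finset.smul_prod', hprod, smul_one,
          inv_one, mul_one]
      have hg1 : (m • f i₁) * (f i₁)⁻¹ = 1 := by
        rw [(hf i₁ hi₁).1 m hm1, mul_inv_cancel]
      have hgprod' : ∏ i ∈ T.erase i₁, (m • f i) * (f i)⁻¹ = 1 := by
        have := Finset.mul_prod_erase T (fun i => (m • f i) * (f i)⁻¹) hi₁
        rw [hg1, one_mul] at this
        rw [this, hgprod]
      have hcard1 : (T.erase i₁).card < n := by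
        rw [Finset.card_erase_of_mem hi₁, hT]
        have : 0 < T.card := Finset.card_pos.mpr ⟨i₁, hi₁⟩
        omega
      have h3 := ih _ hcard1 (T.erase i₁) rfl
        (fun i hi => hBA i (Finset.mem_of_mem_erase hi))
        (fun i hi j hj => hinj i (Finset.mem_of_mem_erase hi) j (Finset.mem_of_mem_erase hj))
        (fun i => (m • f i) * (f i)⁻¹)
        (fun i hi => hg i (Finset.mem_of_mem_erase hi)) hgprod' i₂
        (Finset.mem_erase.mpr ⟨hne12.symm, hi₂⟩)
      have h4 : m • f i₂ = f i₂ := mul_inv_eq_one.mp h3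
      have h5 : f i₂ = 1 := comp_free hcop hmA hm2 (hf i₂ hi₂) h4
      have hprod' : ∏ i ∈ T.erase i₂, f i = 1 := by
        have := Finset.mul_prod_erase T f hi₂
        rw [h5, one_mul] at this
        rw [this, hprod]
      have hcard2 : (T.erase i₂).card < n := by
        rw [Finset.card_erase_of_mem hi₂, hT]
        have : 0 < T.card := Finset.card_pos.mpr ⟨i₂, hi₂⟩
        omega
      intro i hi
      by_cases hii : i = i₂
      · rw [hii]; exact h5
      · exact ih _ hcard2 (T.erase i₂) rfl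
          (fun i hi => hBA i (Finset.mem_of_mem_erase hi))
          (fun i hi j hj => hinj i (Finset.mem_of_mem_erase hi) j (Finset.mem_of_mem_erase hj))
          f (fun i hi => hf i (Finset.mem_of_mem_erase hi)) hprod' i
          (Finset.mem_erase.mpr ⟨hii, hi⟩)
    · intro i hi
      have hTi : T = {i} := by
        ext j
        rw [Finset.mem_singleton]
        constructor
        · intro hj
          by_contra hne
          exact h2 ⟨j, hj, i, hi, hne⟩
        · rintro rfl; exact hi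
      rw [hTi, Finset.prod_singleton] at hprod
      exact hprod

include hA in
/-- Every element of `A` acting nontrivially is outside the kernel `B` of some nontrivial component. -/
theorem exists_comp [Finite Γ] [Finite W] (hcop : (Nat.card A).Coprime (Nat.card W)) {a : Γ}
    (ha : a ∈ A) {w₀ : W} (hw₀ : a • w₀ ≠ w₀) :
    ∃ B : Subgroup Γ, B ≤ A ∧ a ∉ B ∧ comp (W := W) A B ≠ ⊥ := by
  classical
  let P : Subgroup Γ → Prop := fun B =>
    B ≤ A ∧ ∃ w : W, w ≠ 1 ∧ nm a w = 1 ∧ ∀ b ∈ B, b • w = w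
  have hP0 : P ⊥ := by
    refine ⟨bot_le, w₀⁻¹ * a • w₀, ?_, ?_, ?_⟩
    · intro h
      apply hw₀
      rw [inv_mul_eq_one] at h
      exact h.symm
    · rw [nm_mul, nm_inv, ← smul_nm_of_commute rfl, smul_nm_self, inv_mul_cancel]
    · intro b hb
      rw [Subgroup.mem_bot] at hb
      rw [hb, one_smul]
  obtain ⟨B, -, hBmax⟩ := Finite.exists_le_maximal hP0
  obtain ⟨⟨hBA, w, hw1, hwa, hwB⟩, hmax⟩ := hBmax
  have hfreea : ∀ w' : W, nm a w' = 1 → a • w' = w' → w' = 1 := by
    intro w' h1 h2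
    rw [nm_of_fixed h2] at h1
    have h2' : orderOf w' ∣ orderOf a := orderOf_dvd_of_pow_eq_one h1
    have h3 : orderOf a ∣ Nat.card A := by
      have := orderOf_dvd_natCard (⟨a, ha⟩ : A)
      rwa [Subgroup.orderOf_mk] at this
    have h4 : orderOf w' ∣ Nat.card W := orderOf_dvd_natCard w'
    have h5 : orderOf w' = 1 := Nat.eq_one_of_dvd_coprimes hcop (h2'.trans h3) h4
    exact orderOf_eq_one_iff.mp h5
  have haB : a ∉ B := fun h => hw1 (hfreea w hwa (hwB a h))
  refine ⟨B, hBA, haB, ?_⟩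
  rw [Subgroup.ne_bot_iff_exists_ne_one]
  have hwc : w ∈ comp A B := by
    refine ⟨hwB, fun a' ha' ha'B => ?_⟩
    by_contra hne
    -- enlarge B
    have hP' : P (B ⊔ Subgroup.zpowers a') := by
      refine ⟨sup_le hBA (by rw [Subgroup.zpowers_le]; exact ha'), nm a' w, hne, ?_, ?_⟩
      · -- nm a (nm a' w) = 1
        have h1 : nm a (nm a' w) = ∏ j ∈ Finset.range (orderOf a'), nm a ((a' ^ j) • w) := by
          conv_lhs => rw [nm.eq_1 a' w]
          exact map_prod (nmHom (W := W) a) _ _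
        rw [h1]
        refine Finset.prod_eq_one fun j _ => ?_
        have hc : (a' ^ j) * a = a * (a' ^ j) := by
          have hc0 : Commute a' a := hA a' ha' a ha
          exact (hc0.pow_left j).eq
        rw [← smul_nm_of_commute hc, hwa, smul_one]
      · intro b hb
        have hle : B ⊔ Subgroup.zpowers a' ≤ MulAction.stabilizer Γ (nm a' w) := by
          refine sup_le ?_ ?_
          · intro b hb
            rw [MulAction.mem_stabilizer_iff, smul_nm_of_commute (hA b (hBA hb) a' ha'), hwB b hb]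
          · rw [Subgroup.zpowers_le, MulAction.mem_stabilizer_iff]
            exact smul_nm_self a' w
        exact MulAction.mem_stabilizer_iff.mp (hle hb)
    have hle := hmax hP' le_sup_left
    exact ha'B (hle (Subgroup.mem_sup_right (Subgroup.mem_zpowers a')))
  exact ⟨⟨w, hwc⟩, fun h => hw1 (congrArg Subtype.val h)⟩

end abelian

end Cfsg.Agent.Lib.Helper34.BGE
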