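import Mathlib
import Cfsg.Agent.Lib.Helper34.BGComp

/-!
# Fixed points of a complement of prime order on kernel components (part A)
-/

set_option autoImplicit false
set_option linter.unusedSectionVars false
set_option linter.unusedVariables false

universe u v

namespace Cfsg.Agent.Lib.Helper34.BGE

variable {Γ : Type u} [Group Γ] [Finite Γ] {W : Type v} [CommGroup W] [Finite W]
  [MulDistribMulAction Γ W]

/-- fixed points of `t` on `W`. -/
def fixW (t : Γ) : Subgroup W where
  carrier := {w | t • w = w}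
  one_mem' := smul_one t
  mul_mem' := by
    intro a b ha hb
    simp only [Set.mem_ofPred_eq] at *
    rw [smul_mul', ha, hb]
  inv_mem' := by
    intro a ha
    simp only [Set.mem_ofPred_eq] at *
    rw [smul_inv', ha]

theorem mem_fixW {t : Γ} {w : W} : w ∈ fixW t ↔ t • w = w := Iff.rfl

/-- The standing hypotheses. -/
structure StarHyp (p r : ℕ) (A S : Subgroup Γ) (t : Γ) (W : Type v) [CommGroup W]
    [MulDistribMulAction Γ W] : Prop where
  hp : p.Prime
  hr : r.Prime
  hp2 : p ≠ 2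
  hr2 : r ≠ 2
  hpr : p ≠ r
  ht : orderOf t = r
  hA : ∀ a ∈ A, ∀ b ∈ A, a * b = b * a
  hcop : (Nat.card A).Coprime (Nat.card W)
  hS : IsPGroup p S
  hSA : S ≤ Subgroup.normalizer (A : Set Γ)
  htA : t ∈ Subgroup.normalizer (A : Set Γ)
  htS : t ∈ Subgroup.normalizer (S : Set Γ)
  hfpf : ∀ s ∈ S, t * s = s * t → s = 1
  hW : IsPGroup p W
  hfix : IsCyclic (fixW (W := W) t)

theorem conj_mem_of_normalizer {g x : Γ} {M : Subgroup Γ}
    (hg : g ∈ Subgroup.normalizer (M : Set Γ)) (hx : x ∈ M) : g * x * g⁻¹ ∈ M :=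
  (Subgroup.mem_normalizer_iff.mp hg x).mp hx

theorem conj_inv_mem_of_normalizer {g x : Γ} {M : Subgroup Γ}
    (hg : g ∈ Subgroup.normalizer (M : Set Γ)) (hx : x ∈ M) : g⁻¹ * x * g ∈ M := by
  have := conj_mem_of_normalizer (Subgroup.inv_mem _ hg) hx
  simpa using this

theorem cj_injective (g : Γ) {B₁ B₂ : Subgroup Γ} (h : cj g B₁ = cj g B₂) : B₁ = B₂ := by
  rw [← cj_inv_cancel g B₁, h, cj_inv_cancel]

/-- two nontrivial subgroups of a cyclic `p`-group meet nontrivially. -/
theorem cyc_p_inter {G : Type*} [Group G] [Finite G] [IsCyclic G] {p : ℕ} [hp : Fact p.Prime]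
    (hG : IsPGroup p G) (H₁ H₂ : Subgroup G) (h₁ : H₁ ≠ ⊥) (h₂ : H₂ ≠ ⊥) :
    ∃ x : G, x ≠ 1 ∧ x ∈ H₁ ∧ x ∈ H₂ := by
  classical
  letI : Fintype G := Fintype.ofFinite G
  have key : ∀ H : Subgroup G, H ≠ ⊥ → ∃ x ∈ H, orderOf x = p := by
    intro H hH
    have hHp : IsPGroup p H := hG.to_subgroup H
    obtain ⟨n, hn⟩ := hHp.exists_card_eq
    have hn0 : n ≠ 0 := by
      rintro rfl
      rw [pow_zero] at hn
      exact hH (Subgroup.card_eq_one.mp hn)
    have hdvd : p ∣ Nat.card H := by rw [hn]; exact dvd_pow_self p hn0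
    obtain ⟨x, hx⟩ := exists_prime_orderOf_dvd_card' p hdvd
    refine ⟨x, x.2, ?_⟩
    rw [← hx, Subgroup.orderOf_coe]
  obtain ⟨x₁, hx₁, ho₁⟩ := key H₁ h₁
  obtain ⟨x₂, hx₂, ho₂⟩ := key H₂ h₂
  have hF : (Finset.univ.filter (fun a : G => a ^ p = 1)).card ≤ p :=
    IsCyclic.card_pow_eq_one_le hp.out.pos
  let Z₁ : Finset G := Finset.univ.filter (fun a : G => a ∈ Subgroup.zpowers x₁)
  have hZsub : Z₁ ⊆ Finset.univ.filter (fun a : G => a ^ p = 1) := by
    intro y hy
    simp only [Z₁, Finset.mem_filter, Finset.mem_univ, true_and] at hy ⊢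
    obtain ⟨k, rfl⟩ := Subgroup.mem_zpowers_iff.mp hy
    rw [← zpow_natCast, ← zpow_mul, mul_comm, zpow_mul, zpow_natCast, ← ho₁, pow_orderOf_eq_one,
      one_zpow]
  have hZcard : Z₁.card = p := by
    have : Z₁.card = Nat.card (Subgroup.zpowers x₁) := by
      rw [Nat.card_eq_fintype_card, Fintype.card_subtype]
    rw [this, Nat.card_zpowers, ho₁]
  have hZeq : Z₁ = Finset.univ.filter (fun a : G => a ^ p = 1) :=
    Finset.eq_of_subset_of_card_le hZsub (by rw [hZcard]; exact hF)
  have hx₂Z : x₂ ∈ Z₁ := by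
    rw [hZeq]
    simp only [Finset.mem_filter, Finset.mem_univ, true_and]
    rw [← ho₂, pow_orderOf_eq_one]
  simp only [Z₁, Finset.mem_filter, Finset.mem_univ, true_and] at hx₂Z
  refine ⟨x₂, ?_, ?_, hx₂⟩
  · intro h
    rw [h, orderOf_one] at ho₂
    exact hp.out.one_lt.ne ho₂
  · exact (Subgroup.zpowers_le.mpr hx₁) hx₂Z

section star

variable {p r : ℕ} {A S : Subgroup Γ} {t : Γ} (h : StarHyp p r A S t W)

include h

theorem StarHyp.tpow_norm_A (k : ℕ) : t ^ k ∈ Subgroup.normalizer (A : Set Γ) :=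
  Subgroup.pow_mem _ h.htA k

theorem StarHyp.distinct {B : Subgroup Γ} (hmove : cj t B ≠ B) {i j : ℕ} (hi : i < r)
    (hj : j < r) (hij : cj (t ^ i) B = cj (t ^ j) B) : i = j := by
  by_contra hne
  have key : ∀ i j : ℕ, i < j → j < r → cj (t ^ i) B = cj (t ^ j) B → False := by
    intro i j hlt hj hij
    have hk : j = i + (j - i) := by omega
    have e : t ^ j = t ^ i * t ^ (j - i) := by rw [← pow_add, ← hk]
    rw [e, cj_mul] at hij
    have h1 : cj (t ^ (j - i)) B = B := (cj_injective _ hij).symm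
    have hcop : (j - i).Coprime (orderOf t) := by
      rw [h.ht]
      apply Nat.Coprime.symm
      rw [Nat.Prime.coprime_iff_not_dvd h.hr]
      exact Nat.not_dvd_of_pos_of_lt (by omega) (by omega)
    obtain ⟨m, hm⟩ := exists_pow_eq_self_of_coprime hcop
    apply hmove
    have := cj_pow_of_fixed h1 m
    rwa [hm] at this
  rcases Nat.lt_or_gt_of_ne hne with hlt | hlt
  · exact key i j hlt hj hij
  · exact key j i hlt hi hij.symm

/-- K1: on a moved component the norm of `t` is injective. -/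
theorem StarHyp.k1_inj {B : Subgroup Γ} (hBA : B ≤ A) (hmove : cj t B ≠ B) {w : W}
    (hw : w ∈ comp A B) (h1 : nm t w = 1) : w = 1 := by
  classical
  have hr0 : 0 < r := h.hr.pos
  have := comp_indep h.hA h.hcop (fun i : ℕ => cj (t ^ i) B) r (Finset.range r)
    (Finset.card_range r)
    (fun i _ => cj_le_of_normalizer (h.tpow_norm_A i) hBA)
    (fun i hi j hj hij => h.distinct hmove (Finset.mem_range.mp hi) (Finset.mem_range.mp hj) hij)
    (fun i => (t ^ i) • w)
    (fun i _ => smul_mem_comp_cj (h.tpow_norm_A i) hw)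
    (by rw [← h.ht]; exact h1) 0 (Finset.mem_range.mpr hr0)
  simpa using this

/-- the norm of `t` as a hom from a component to the fixed points. -/
noncomputable def nmFix (t : Γ) (U : Subgroup W) : U →* fixW (W := W) t where
  toFun w := ⟨nm t (w : W), mem_fixW.mpr (smul_nm_self t (w : W))⟩
  map_one' := Subtype.ext (nm_one t)
  map_mul' x y := Subtype.ext (nm_mul t (x : W) (y : W))

omit h in
theorem nmFix_apply (t : Γ) (U : Subgroup W) (w : U) : ((nmFix t U w : fixW (W := W) t) : W) = nm t (w : W) :=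
  rfl

theorem StarHyp.nmFix_injective {B : Subgroup Γ} (hBA : B ≤ A) (hmove : cj t B ≠ B) :
    Function.Injective (nmFix t (comp (W := W) A B)) := by
  rw [injective_iff_map_eq_one]
  intro w hw
  have : nm t (w : W) = 1 := congrArg Subtype.val hw
  exact Subtype.ext (h.k1_inj hBA hmove w.2 this)

theorem StarHyp.k1_cyclic {B : Subgroup Γ} (hBA : B ≤ A) (hmove : cj t B ≠ B) :
    IsCyclic (comp (W := W) A B) := by
  haveI := h.hfix
  exact isCyclic_of_injective _ (h.nmFix_injective hBA hmove)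

end star

end Cfsg.Agent.Lib.Helper34.BGE
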