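import Mathlib
import Cfsg.Agent.Lib.Helper34.BGStarA

/-!
# Fixed points of a complement of prime order on kernel components (part B)

`K2`, the stabilizer lemmas `c2`, `c1`.
-/

set_option autoImplicit false
set_option linter.unusedSectionVars false
set_option linter.unusedVariables false

universe u v

namespace Cfsg.Agent.Lib.Helper34.BGE

variable {Γ : Type u} [Group Γ] [Finite Γ] {W : Type v} [CommGroup W] [Finite W]
  [MulDistribMulAction Γ W]

/-- stabilizer of `B` in `S` under conjugation. -/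
def stabIn (S B : Subgroup Γ) : Subgroup Γ where
  carrier := {x | x ∈ S ∧ cj x B = B}
  one_mem' := ⟨S.one_mem, cj_one B⟩
  mul_mem' := by
    rintro x y ⟨hx, hxB⟩ ⟨hy, hyB⟩
    exact ⟨S.mul_mem hx hy, by rw [cj_mul, hyB, hxB]⟩
  inv_mem' := by
    rintro x ⟨hx, hxB⟩
    exact ⟨S.inv_mem hx, cj_inv_of_fixed hxB⟩

theorem mem_stabIn {S B : Subgroup Γ} {x : Γ} : x ∈ stabIn S B ↔ x ∈ S ∧ cj x B = B := Iff.rfl

theorem normalizer_stabIn {S B : Subgroup Γ} {g : Γ}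
    (hg : g ∈ Subgroup.normalizer (S : Set Γ)) (hgB : cj g B = B) :
    g ∈ Subgroup.normalizer (stabIn S B : Set Γ) := by
  rw [Subgroup.mem_normalizer_iff]
  intro x
  constructor
  · rintro ⟨hxS, hxB⟩
    exact ⟨conj_mem_of_normalizer hg hxS, by
      rw [cj_mul, cj_mul, cj_inv_of_fixed hgB, hxB, hgB]⟩
  · rintro ⟨hxS, hxB⟩
    have e : x = g⁻¹ * (g * x * g⁻¹) * g := by group
    refine ⟨?_, ?_⟩
    · rw [e]; exact conj_inv_mem_of_normalizer hg hxS
    · rw [cj_mul, cj_mul, cj_inv_of_fixed hgB] at hxB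
      apply cj_injective g
      rw [hxB, hgB]

/-- conjugation action on subgroups. -/
@[reducible] def cjAction (Γ : Type u) [Group Γ] : MulAction Γ (Subgroup Γ) where
  smul := cj
  one_smul := cj_one
  mul_smul := cj_mul

section star

variable {p r : ℕ} {A S : Subgroup Γ} {t : Γ} (h : StarHyp p r A S t W)

include h

theorem StarHyp.tpow_r : t ^ r = 1 := by rw [← h.ht]; exact pow_orderOf_eq_one t

/-- K2: two moved members of the family lie in the same orbit of `t`. -/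
theorem StarHyp.k2 {B₁ B₂ : Subgroup Γ} (hB₁ : B₁ ≤ A) (hB₂ : B₂ ≤ A) (hm₁ : cj t B₁ ≠ B₁)
    (hm₂ : cj t B₂ ≠ B₂) (hne₁ : comp (W := W) A B₁ ≠ ⊥) (hne₂ : comp (W := W) A B₂ ≠ ⊥) :
    ∃ k : ℕ, cj (t ^ k) B₁ = B₂ := by
  classical
  by_contra hno
  push Not at hno
  haveI : Fact p.Prime := ⟨h.hp⟩
  haveI := h.hfix
  have hFp : IsPGroup p (fixW (W := W) t) := h.hW.to_subgroup _
  have hrange : ∀ B : Subgroup Γ, B ≤ A → cj t B ≠ B → comp (W := W) A B ≠ ⊥ →
      (nmFix t (comp (W := W) A B)).range ≠ ⊥ := by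
    intro B hBA hm hne
    obtain ⟨w, hw⟩ := (Subgroup.ne_bot_iff_exists_ne_one).mp hne
    intro hbot
    have h1 : nmFix t (comp (W := W) A B) w ∈ (nmFix t (comp (W := W) A B)).range := ⟨w, rfl⟩
    rw [hbot, Subgroup.mem_bot] at h1
    have : w = 1 := h.nmFix_injective hBA hm (by rw [h1, map_one])
    exact hw this
  obtain ⟨x, hx1, hxa, hxb⟩ :=
    cyc_p_inter hFp _ _ (hrange B₁ hB₁ hm₁ hne₁) (hrange B₂ hB₂ hm₂ hne₂)
  obtain ⟨w₁, hw₁⟩ := hxa
  obtain ⟨w₂, hw₂⟩ := hxb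
  have e₁ : nm t (w₁ : W) = (x : W) := congrArg Subtype.val hw₁
  have e₂ : nm t (w₂ : W) = (x : W) := congrArg Subtype.val hw₂
  let Bf : Bool × ℕ → Subgroup Γ := fun i => cj (t ^ i.2) (if i.1 then B₁ else B₂)
  let f : Bool × ℕ → W :=
    fun i => if i.1 then (t ^ i.2) • (w₁ : W) else ((t ^ i.2) • (w₂ : W))⁻¹
  let T : Finset (Bool × ℕ) := Finset.univ ×ˢ Finset.range r
  have hBfA : ∀ i ∈ T, Bf i ≤ A := by
    rintro ⟨b, k⟩ _
    cases b
    · exact cj_le_of_normalizer (h.tpow_norm_A k) hB₂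
    · exact cj_le_of_normalizer (h.tpow_norm_A k) hB₁
  have hcross : ∀ k k' : ℕ, k' < r → cj (t ^ k) B₁ ≠ cj (t ^ k') B₂ := by
    intro k k' hk' heq
    apply hno (r - k' + k)
    have h3 : cj (t ^ (r - k')) (cj (t ^ k) B₁) = cj (t ^ (r - k')) (cj (t ^ k') B₂) := by
      rw [heq]
    rw [← cj_mul, ← cj_mul, ← pow_add, ← pow_add, Nat.sub_add_cancel hk'.le, h.tpow_r,
      cj_one] at h3
    exact h3
  have hinj : ∀ i ∈ T, ∀ j ∈ T, Bf i = Bf j → i = j := by
    rintro ⟨b, k⟩ hi ⟨b', k'⟩ hj hij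
    simp only [T, Finset.mem_product, Finset.mem_univ, true_and, Finset.mem_range] at hi hj
    cases b <;> cases b'
    · have h4 : cj (t ^ k) B₂ = cj (t ^ k') B₂ := hij
      rw [h.distinct hm₂ hi hj h4]
    · have h4 : cj (t ^ k) B₂ = cj (t ^ k') B₁ := hij
      exact absurd h4.symm (hcross k' k hi)
    · have h4 : cj (t ^ k) B₁ = cj (t ^ k') B₂ := hij
      exact absurd h4 (hcross k k' hj)
    · have h4 : cj (t ^ k) B₁ = cj (t ^ k') B₁ := hij
      rw [h.distinct hm₁ hi hj h4]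
  have hf : ∀ i ∈ T, f i ∈ comp A (Bf i) := by
    rintro ⟨b, k⟩ _
    cases b
    · exact Subgroup.inv_mem _ (smul_mem_comp_cj (h.tpow_norm_A k) w₂.2)
    · exact smul_mem_comp_cj (h.tpow_norm_A k) w₁.2
  have hprod : ∏ i ∈ T, f i = 1 := by
    have n1 : ∏ k ∈ Finset.range r, (t ^ k) • (w₁ : W) = nm t (w₁ : W) := by rw [nm, h.ht]
    have n2 : ∏ k ∈ Finset.range r, (t ^ k) • (w₂ : W) = nm t (w₂ : W) := by rw [nm, h.ht]
    rw [Finset.prod_product, Fintype.prod_bool]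
    simp only [f, if_true, if_false, Bool.false_eq_true]
    rw [Finset.prod_inv_distrib, n1, n2, e₁, e₂, mul_inv_cancel]
  have hT : T.card = 2 * r := by simp [T]
  have h5 := comp_indep h.hA h.hcop Bf (2 * r) T hT hBfA hinj f hf hprod (true, 0)
    (by simp [T, h.hr.pos])
  have hw1 : (w₁ : W) = 1 := by simpa [f] using h5
  apply hx1
  apply Subtype.ext
  show (x : W) = 1
  rw [← e₁, hw1, nm_one]

theorem StarHyp.phi_inj {x y : Γ} (hx : x ∈ S) (hy : y ∈ S)
    (hxy : x⁻¹ * t * x * t⁻¹ = y⁻¹ * t * y * t⁻¹) : x = y := by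
  have h1 : x⁻¹ * t * x = y⁻¹ * t * y := mul_right_cancel hxy
  have h2 : t * (y * x⁻¹) = (y * x⁻¹) * t := by
    calc t * (y * x⁻¹) = y * (y⁻¹ * t * y) * x⁻¹ := by group
      _ = y * (x⁻¹ * t * x) * x⁻¹ := by rw [h1]
      _ = y * x⁻¹ * t := by group
  have h3 := h.hfpf (y * x⁻¹) (S.mul_mem hy (S.inv_mem hx)) h2
  exact (mul_inv_eq_one.mp h3).symm

theorem StarHyp.phi_surj {N : Subgroup Γ} (hNS : N ≤ S)
    (htN : t ∈ Subgroup.normalizer (N : Set Γ)) {n : Γ} (hn : n ∈ N) :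
    ∃ m ∈ N, m⁻¹ * t * m * t⁻¹ = n := by
  let φ : N → N := fun m => ⟨(m : Γ)⁻¹ * t * m * t⁻¹, by
    have h1 : t * (m : Γ) * t⁻¹ ∈ N := conj_mem_of_normalizer htN m.2
    have e : (m : Γ)⁻¹ * t * m * t⁻¹ = (m : Γ)⁻¹ * (t * m * t⁻¹) := by group
    rw [e]
    exact N.mul_mem (N.inv_mem m.2) h1⟩
  have hinj : Function.Injective φ := by
    intro m₁ m₂ h12
    have h3 : (m₁ : Γ)⁻¹ * t * m₁ * t⁻¹ = (m₂ : Γ)⁻¹ * t * m₂ * t⁻¹ := congrArg Subtype.val h12
    exact Subtype.ext (h.phi_inj (hNS m₁.2) (hNS m₂.2) h3)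
  obtain ⟨m, hm⟩ := Finite.surjective_of_injective hinj ⟨n, hn⟩
  exact ⟨m, m.2, congrArg Subtype.val hm⟩

theorem StarHyp.mem_of_phi_mem {N : Subgroup Γ} (hNS : N ≤ S)
    (htN : t ∈ Subgroup.normalizer (N : Set Γ)) {u : Γ} (hu : u ∈ S)
    (hun : u⁻¹ * t * u * t⁻¹ ∈ N) : u ∈ N := by
  obtain ⟨m, hm, e⟩ := h.phi_surj hNS htN hun
  have h1 := h.phi_inj (hNS hm) hu e
  rw [← h1]; exact hm

/-- coset lemma: every element of `S` is a commutator with `t`. -/
theorem StarHyp.exists_comm {s : Γ} (hs : s ∈ S) : ∃ u ∈ S, u⁻¹ * t * u * t⁻¹ = s :=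
  h.phi_surj le_rfl h.htS hs

/-- C2: a member of the family fixed by `t` is fixed by `S`. -/
theorem StarHyp.c2 {B : Subgroup Γ} (hBA : B ≤ A) (hne : comp (W := W) A B ≠ ⊥)
    (hfix : cj t B = B) {s : Γ} (hs : s ∈ S) : cj s B = B := by
  classical
  by_contra hs1
  have htinv : cj t⁻¹ B = B := cj_inv_of_fixed hfix
  have htN : t ∈ Subgroup.normalizer (stabIn S B : Set Γ) := normalizer_stabIn h.htS hfix
  have hNS : stabIn S B ≤ S := fun x hx => hx.1
  have hi : ∀ s' ∈ S, cj s' B ≠ B → cj t (cj s' B) ≠ cj s' B := by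
    intro s' hs' hne' hfix'
    apply hne'
    have hn : s'⁻¹ * t * s' * t⁻¹ ∈ stabIn S B := by
      refine ⟨?_, ?_⟩
      · have h1 : t * s' * t⁻¹ ∈ S := conj_mem_of_normalizer h.htS hs'
        have e : s'⁻¹ * t * s' * t⁻¹ = s'⁻¹ * (t * s' * t⁻¹) := by group
        rw [e]; exact S.mul_mem (S.inv_mem hs') h1
      · rw [cj_mul, cj_mul, cj_mul, htinv, hfix', cj_inv_cancel]
    exact (h.mem_of_phi_mem hNS htN hs' hn).2
  have hB₁A : cj s B ≤ A := cj_le_of_normalizer (h.hSA hs) hBA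
  have hB₁ne : comp (W := W) A (cj s B) ≠ ⊥ := comp_cj_ne_bot (h.hSA hs) hne
  have hB₁m : cj t (cj s B) ≠ cj s B := hi s hs hs1
  have hii : ∀ s' ∈ S, cj s' B ≠ B → ∃ k < r, cj (t ^ k) (cj s B) = cj s' B := by
    intro s' hs' hne'
    obtain ⟨k, hk⟩ := h.k2 hB₁A (cj_le_of_normalizer (h.hSA hs') hBA) hB₁m (hi s' hs' hne')
      hB₁ne (comp_cj_ne_bot (h.hSA hs') hne)
    refine ⟨k % r, Nat.mod_lt _ h.hr.pos, ?_⟩
    rw [← hk, ← h.ht, pow_mod_orderOf]
  letI : MulAction Γ (Subgroup Γ) := cjAction Γ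
  let F : Finset (Subgroup Γ) := insert B ((Finset.range r).image fun k => cj (t ^ k) (cj s B))
  have horb : MulAction.orbit S B = (F : Set (Subgroup Γ)) := by
    ext D
    simp only [F, Finset.coe_insert, Finset.coe_image, Finset.coe_range, Set.mem_insert_iff,
      Set.mem_image, Set.mem_Iio]
    constructor
    · rintro ⟨c, rfl⟩
      show cj (c : Γ) B = B ∨ ∃ k, k < r ∧ cj (t ^ k) (cj s B) = cj (c : Γ) B
      by_cases hc : cj (c : Γ) B = B
      · left; exact hc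
      · right
        obtain ⟨k, hk, e⟩ := hii c c.2 hc
        exact ⟨k, hk, e⟩
    · rintro (rfl | ⟨k, hk, rfl⟩)
      · exact MulAction.mem_orbit_self _
      · have hg : t ^ k * s * (t ^ k)⁻¹ ∈ S :=
          conj_mem_of_normalizer (Subgroup.pow_mem _ h.htS k) hs
        refine ⟨⟨_, hg⟩, ?_⟩
        show cj (t ^ k * s * (t ^ k)⁻¹) B = cj (t ^ k) (cj s B)
        rw [cj_mul, cj_mul, cj_inv_of_fixed (cj_pow_of_fixed hfix k)]
  haveI : Fact p.Prime := ⟨h.hp⟩
  obtain ⟨n, hn⟩ := h.hS.card_orbit B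
  have hnot : B ∉ (Finset.range r).image fun k => cj (t ^ k) (cj s B) := by
    intro hmem
    obtain ⟨k, hk, e⟩ := Finset.mem_image.mp hmem
    apply hs1
    have e2 : cj (t ^ k)⁻¹ (cj (t ^ k) (cj s B)) = cj (t ^ k)⁻¹ B := congrArg _ e
    rw [cj_inv_cancel, cj_inv_of_fixed (cj_pow_of_fixed hfix k)] at e2
    exact e2
  have hinjOn : Set.InjOn (fun k => cj (t ^ k) (cj s B)) (Finset.range r : Set ℕ) := by
    intro i hi' j hj' hij
    exact h.distinct hB₁m (Finset.mem_range.mp hi') (Finset.mem_range.mp hj') hij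
  have hcard : Nat.card (MulAction.orbit S B) = r + 1 := by
    rw [_root_.Nat.card_coe_set_eq, horb, Set.ncard_coe_finset, Finset.card_insert_of_notMem hnot,
      Finset.card_image_of_injOn hinjOn, Finset.card_range]
  rw [hcard] at hn
  have hpo : Odd p := h.hp.eq_two_or_odd'.resolve_left h.hp2
  have hro : Odd r := h.hr.eq_two_or_odd'.resolve_left h.hr2
  have h1 : Odd (p ^ n) := hpo.pow
  have h2 : Even (r + 1) := hro.add_odd odd_one
  rw [hn] at h2
  exact (Nat.not_even_iff_odd.mpr h1) h2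

/-- C1: every member of the family is fixed by `S`. -/
theorem StarHyp.c1 {B : Subgroup Γ} (hBA : B ≤ A) (hne : comp (W := W) A B ≠ ⊥) {s : Γ}
    (hs : s ∈ S) : cj s B = B := by
  classical
  by_cases hfix : cj t B = B
  · exact h.c2 hBA hne hfix hs
  letI : MulAction Γ (Subgroup Γ) := cjAction Γ
  let M : SubMulAction S (Subgroup Γ) :=
    { carrier := {D | D ≤ A ∧ comp (W := W) A D ≠ ⊥ ∧ cj t D ≠ D}
      smul_mem' := by
        rintro c D ⟨hDA, hDne, hDm⟩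
        have hcA := h.hSA c.2
        refine ⟨cj_le_of_normalizer hcA hDA, comp_cj_ne_bot hcA hDne, ?_⟩
        intro hfix'
        have h1 : cj (c : Γ)⁻¹ (cj (c : Γ) D) = cj (c : Γ) D :=
          h.c2 (cj_le_of_normalizer hcA hDA) (comp_cj_ne_bot hcA hDne) hfix' (S.inv_mem c.2)
        rw [cj_inv_cancel] at h1
        apply hDm
        have h2 : cj t (cj (c : Γ) D) = cj (c : Γ) D := hfix'
        rw [← h1] at h2
        exact h2 }
  have hMset : ∀ D : Subgroup Γ, D ∈ M ↔ ∃ k, k < r ∧ cj (t ^ k) B = D := by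
    intro D
    constructor
    · rintro ⟨hDA, hDne, hDm⟩
      obtain ⟨k, hk⟩ := h.k2 hBA hDA hfix hDm hne hDne
      refine ⟨k % r, Nat.mod_lt _ h.hr.pos, ?_⟩
      rw [← hk, ← h.ht, pow_mod_orderOf]
    · rintro ⟨k, hk, rfl⟩
      have hkA := h.tpow_norm_A k
      refine ⟨cj_le_of_normalizer hkA hBA, comp_cj_ne_bot hkA hne, ?_⟩
      intro hfix'
      apply hfix
      apply cj_injective (t ^ k)
      rw [← cj_mul, ← pow_succ, pow_succ', cj_mul]
      exact hfix'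
  have hinjOn : Set.InjOn (fun k => cj (t ^ k) B) (Finset.range r : Set ℕ) := by
    intro i hi' j hj' hij
    exact h.distinct hfix (Finset.mem_range.mp hi') (Finset.mem_range.mp hj') hij
  have hcardM : Nat.card M = r := by
    have hset : (M : Set (Subgroup Γ)) =
        (((Finset.range r).image fun k => cj (t ^ k) B : Finset (Subgroup Γ)) :
          Set (Subgroup Γ)) := by
      ext D
      rw [SetLike.mem_coe, hMset]
      simp only [Finset.coe_image, Finset.coe_range, Set.mem_image, Set.mem_Iio]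
    have e0 : Nat.card M = Nat.card (M : Set (Subgroup Γ)) := rfl
    rw [e0, _root_.Nat.card_coe_set_eq, hset, Set.ncard_coe_finset,
      Finset.card_image_of_injOn hinjOn, Finset.card_range]
  haveI : Fact p.Prime := ⟨h.hp⟩
  have hnd : ¬ p ∣ Nat.card M := by
    rw [hcardM]
    intro hd
    exact h.hpr ((Nat.prime_dvd_prime_iff_eq h.hp h.hr).mp hd)
  obtain ⟨⟨D, hD⟩, hDfix⟩ := h.hS.nonempty_fixed_point_of_prime_not_dvd_card M hnd
  obtain ⟨k, hk, rfl⟩ := (hMset D).mp hD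
  have hg : t ^ k * s * (t ^ k)⁻¹ ∈ S :=
    conj_mem_of_normalizer (Subgroup.pow_mem _ h.htS k) hs
  have h1 := congrArg Subtype.val (MulAction.mem_fixedPoints.mp hDfix ⟨_, hg⟩)
  have h2 : cj (t ^ k * s * (t ^ k)⁻¹) (cj (t ^ k) B) = cj (t ^ k) B := h1
  rw [← cj_mul] at h2
  have e : t ^ k * s * (t ^ k)⁻¹ * t ^ k = t ^ k * s := by group
  rw [e, cj_mul] at h2
  exact cj_injective _ h2

end star

end Cfsg.Agent.Lib.Helper34.BGE
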