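import Mathlib
import Cfsg.Agent.Lib.Helper34.FpfCyclic
import Cfsg.Agent.Lib.Helper34.BGStarB

/-!
# The abelian case: `S` centralizes the image of `A` (abstract form)
-/

set_option autoImplicit false
set_option linter.unusedSectionVars false
set_option linter.unusedVariables false

universe u v

namespace Cfsg.Agent.Lib.Helper34.BGE

variable {Γ : Type u} [Group Γ] [Finite Γ] {W : Type v} [CommGroup W] [Finite W]
  [MulDistribMulAction Γ W]

theorem cyc_pow_of_preserve {U : Subgroup W} [IsCyclic U] {x : Γ} (hx : ∀ w ∈ U, x • w ∈ U) :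
    ∃ m : ℤ, ∀ w ∈ U, x • w = w ^ m := by
  let σ : U →* U := MonoidHom.mk' (fun w => ⟨x • (w : W), hx w w.2⟩)
    (fun a b => Subtype.ext (smul_mul' x (a : W) (b : W)))
  obtain ⟨m, hm⟩ := MonoidHom.map_cyclic σ
  refine ⟨m, fun w hw => ?_⟩
  have h1 := congrArg Subtype.val (hm ⟨w, hw⟩)
  simpa [σ] using h1

theorem cyc_commute {U : Subgroup W} [IsCyclic U] {x y : Γ} (hx : ∀ w ∈ U, x • w ∈ U)
    (hy : ∀ w ∈ U, y • w ∈ U) {w : W} (hw : w ∈ U) : x • y • w = y • x • w := by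
  obtain ⟨m, hm⟩ := cyc_pow_of_preserve hx
  obtain ⟨n, hn⟩ := cyc_pow_of_preserve hy
  rw [hn w hw, hm w hw, hm _ (U.zpow_mem hw n), hn _ (U.zpow_mem hw m), ← zpow_mul, ← zpow_mul,
    mul_comm n m]

/-- elements preserving `U`. -/
def stabU (U : Subgroup W) : Subgroup Γ where
  carrier := {g | ∀ w, g • w ∈ U ↔ w ∈ U}
  one_mem' := fun w => by rw [one_smul]
  mul_mem' := by
    intro a b ha hb w
    rw [mul_smul, ha (b • w), hb w]
  inv_mem' := by
    intro a ha w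
    rw [← ha (a⁻¹ • w), smul_inv_smul]

theorem mem_stabU {U : Subgroup W} {g : Γ} : g ∈ stabU (Γ := Γ) U ↔ ∀ w, g • w ∈ U ↔ w ∈ U :=
  Iff.rfl

/-- the action of `stabU U` on `U`. -/
@[reducible] def stabAct (U : Subgroup W) : MulDistribMulAction (stabU (Γ := Γ) U) U where
  smul g w := ⟨(g : Γ) • (w : W), (g.2 w).mpr w.2⟩
  one_smul w := Subtype.ext (one_smul Γ (w : W))
  mul_smul a b w := Subtype.ext (mul_smul (a : Γ) (b : Γ) (w : W))
  smul_mul a w₁ w₂ := Subtype.ext (smul_mul' (a : Γ) (w₁ : W) (w₂ : W))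
  smul_one a := Subtype.ext (smul_one (a : Γ))

/-- the representation on `U`. -/
noncomputable def rho (U : Subgroup W) : stabU (Γ := Γ) U →* MulAut U :=
  @MulDistribMulAction.toMulAut (stabU (Γ := Γ) U) U _ _ (stabAct U)

theorem rho_apply (U : Subgroup W) (g : stabU (Γ := Γ) U) (w : U) :
    ((rho U g) w : W) = (g : Γ) • (w : W) := rfl

theorem comm_centralizes_cyclic {M : Type*} [Group M] (E : Subgroup M) [IsCyclic E] {x y : M}
    (hx : ∀ e ∈ E, x * e * x⁻¹ ∈ E) (hy : ∀ e ∈ E, y * e * y⁻¹ ∈ E) {e : M} (he : e ∈ E) :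
    (x⁻¹ * y⁻¹ * x * y) * e = e * (x⁻¹ * y⁻¹ * x * y) := by
  have hpow : ∀ z : M, (∀ e ∈ E, z * e * z⁻¹ ∈ E) → ∃ m : ℤ, ∀ e ∈ E, z * e * z⁻¹ = e ^ m := by
    intro z hz
    let σ : E →* E := MonoidHom.mk' (fun e => ⟨z * (e : M) * z⁻¹, hz e e.2⟩)
      (fun a b => Subtype.ext (by
        show z * ((a : M) * (b : M)) * z⁻¹ = z * (a : M) * z⁻¹ * (z * (b : M) * z⁻¹)
        group))
    obtain ⟨m, hm⟩ := MonoidHom.map_cyclic σ
    refine ⟨m, fun e he => ?_⟩
    have h1 := congrArg Subtype.val (hm ⟨e, he⟩)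
    simpa [σ] using h1
  obtain ⟨m, hm⟩ := hpow x hx
  obtain ⟨n, hn⟩ := hpow y hy
  have key : x * (y * e * y⁻¹) * x⁻¹ = y * (x * e * x⁻¹) * y⁻¹ := by
    rw [hn e he, hm e he, hm _ (E.zpow_mem he n), hn _ (E.zpow_mem he m), ← zpow_mul, ← zpow_mul,
      mul_comm n m]
  calc (x⁻¹ * y⁻¹ * x * y) * e = x⁻¹ * y⁻¹ * (x * (y * e * y⁻¹) * x⁻¹) * x * y := by group
    _ = x⁻¹ * y⁻¹ * (y * (x * e * x⁻¹) * y⁻¹) * x * y := by rw [key]
    _ = e * (x⁻¹ * y⁻¹ * x * y) := by group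

section star

variable {p r : ℕ} {A S : Subgroup Γ} {t : Γ} (h : StarHyp p r A S t W)

include h

/-- **The abelian case**: commutators of `S` with `A` act trivially. -/
theorem StarHyp.star {a s : Γ} (ha : a ∈ A) (hs : s ∈ S) (w : W) :
    (s * a * s⁻¹ * a⁻¹) • w = w := by
  classical
  by_contra hw
  have hsa : s * a * s⁻¹ ∈ A := conj_mem_of_normalizer (h.hSA hs) ha
  have hc : s * a * s⁻¹ * a⁻¹ ∈ A := A.mul_mem hsa (A.inv_mem ha)
  obtain ⟨B, hBA, hcB, hne⟩ := exists_comp h.hA h.hcop hc hw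
  suffices htriv : ∀ w' ∈ comp (W := W) A B, (s * a * s⁻¹ * a⁻¹) • w' = w' by
    apply hne
    rw [Subgroup.eq_bot_iff_forall]
    intro w' hw'
    exact comp_free h.hcop hc hcB hw' (htriv w' hw')
  have hSU : ∀ x ∈ S, ∀ w' ∈ comp (W := W) A B, x • w' ∈ comp (W := W) A B := by
    intro x hx w' hw'
    have h1 := smul_mem_comp_cj (h.hSA hx) hw'
    rwa [h.c1 hBA hne hx] at h1
  have hAU : ∀ x ∈ A, ∀ w' ∈ comp (W := W) A B, x • w' ∈ comp (W := W) A B :=
    fun x hx w' hw' => smul_mem_comp h.hA hBA hx hw'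
  by_cases hfix : cj t B = B
  · -- the `t`-fixed case
    have hstab : ∀ x : Γ, (∀ w' ∈ comp (W := W) A B, x • w' ∈ comp (W := W) A B) →
        (∀ w' ∈ comp (W := W) A B, x⁻¹ • w' ∈ comp (W := W) A B) →
        x ∈ stabU (Γ := Γ) (comp (W := W) A B) := by
      intro x h1 h2 w'
      constructor
      · intro hw'
        have h3 := h2 _ hw'
        rwa [inv_smul_smul] at h3
      · exact h1 w'
    have htU : ∀ x : Γ, x ∈ Subgroup.normalizer (A : Set Γ) → cj x B = B →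
        ∀ w' ∈ comp (W := W) A B, x • w' ∈ comp (W := W) A B := by
      intro x hx hxB w' hw'
      have h1 := smul_mem_comp_cj hx hw'
      rwa [hxB] at h1
    have hSst : ∀ x ∈ S, x ∈ stabU (Γ := Γ) (comp (W := W) A B) :=
      fun x hx => hstab x (hSU x hx) (hSU x⁻¹ (S.inv_mem hx))
    have hAst : ∀ x ∈ A, x ∈ stabU (Γ := Γ) (comp (W := W) A B) :=
      fun x hx => hstab x (hAU x hx) (hAU x⁻¹ (A.inv_mem hx))
    have htst : t ∈ stabU (Γ := Γ) (comp (W := W) A B) :=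
      hstab t (htU t h.htA hfix)
        (htU t⁻¹ (Subgroup.inv_mem _ h.htA) (cj_inv_of_fixed hfix))
    let E₀ : Subgroup (MulAut (comp (W := W) A B)) :=
      (A.subgroupOf (stabU (Γ := Γ) (comp (W := W) A B))).map (rho (comp (W := W) A B))
    have hE₀mem : ∀ e, e ∈ E₀ ↔ ∃ g : stabU (Γ := Γ) (comp (W := W) A B), (g : Γ) ∈ A ∧
        rho (comp (W := W) A B) g = e := by
      intro e
      simp only [E₀, Subgroup.mem_map, Subgroup.mem_subgroupOf]
    letI : CommGroup E₀ :=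
      { (inferInstance : Group E₀) with
        mul_comm := by
          rintro ⟨e₁, he₁⟩ ⟨e₂, he₂⟩
          obtain ⟨g₁, hg₁, rfl⟩ := (hE₀mem _).mp he₁
          obtain ⟨g₂, hg₂, rfl⟩ := (hE₀mem _).mp he₂
          apply Subtype.ext
          show rho (comp (W := W) A B) g₁ * rho (comp (W := W) A B) g₂ =
            rho (comp (W := W) A B) g₂ * rho (comp (W := W) A B) g₁
          rw [← map_mul, ← map_mul]
          congr 1
          exact Subtype.ext (h.hA _ hg₁ _ hg₂) }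
    have hfpf' : Cfsg.Agent.Lib.Helper34.Fpf E₀ (comp (W := W) A B) := by
      rintro ⟨e, he⟩ hne1 v hv
      obtain ⟨g, hg, rfl⟩ := (hE₀mem _).mp he
      have hgB : (g : Γ) ∉ B := by
        intro hgB
        apply hne1
        apply Subtype.ext
        show rho (comp (W := W) A B) g = 1
        ext v'
        show (g : Γ) • (v' : W) = v'
        exact v'.2.1 _ hgB
      have hv' : (g : Γ) • (v : W) = v := congrArg Subtype.val hv
      exact Subtype.ext (comp_free h.hcop hg hgB v.2 hv')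
    have hnt : ∃ v : comp (W := W) A B, v ≠ 1 := (Subgroup.ne_bot_iff_exists_ne_one).mp hne
    haveI : IsCyclic E₀ := Cfsg.Agent.Lib.Helper34.isCyclic_of_comm hfpf' hnt
    obtain ⟨u, hu, rfl⟩ := h.exists_comm hs
    let gu : stabU (Γ := Γ) (comp (W := W) A B) := ⟨u, hSst u hu⟩
    let gt : stabU (Γ := Γ) (comp (W := W) A B) := ⟨t, htst⟩
    let ga : stabU (Γ := Γ) (comp (W := W) A B) := ⟨a, hAst a ha⟩
    have hconj : ∀ z : stabU (Γ := Γ) (comp (W := W) A B), (z : Γ) ∈ Subgroup.normalizer (A : Set Γ) →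
        ∀ e ∈ E₀, rho (comp (W := W) A B) z * e * (rho (comp (W := W) A B) z)⁻¹ ∈ E₀ := by
      intro z hz e he
      obtain ⟨g, hg, rfl⟩ := (hE₀mem _).mp he
      rw [hE₀mem]
      refine ⟨z * g * z⁻¹, ?_, ?_⟩
      · exact conj_mem_of_normalizer hz hg
      · simp only [map_mul, map_inv]
    have key := comm_centralizes_cyclic E₀ (hconj gu (h.hSA hu))
      (hconj gt⁻¹ (Subgroup.inv_mem _ h.htA)) (e := rho (comp (W := W) A B) ga)
      ((hE₀mem _).mpr ⟨ga, ha, rfl⟩)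
    have hcomm' : rho (comp (W := W) A B) (gu⁻¹ * gt * gu * gt⁻¹) * rho (comp (W := W) A B) ga =
        rho (comp (W := W) A B) ga * rho (comp (W := W) A B) (gu⁻¹ * gt * gu * gt⁻¹) := by
      have e : rho (comp (W := W) A B) (gu⁻¹ * gt * gu * gt⁻¹) =
          (rho (comp (W := W) A B) gu)⁻¹ * (rho (comp (W := W) A B) gt⁻¹)⁻¹ *
            rho (comp (W := W) A B) gu * rho (comp (W := W) A B) gt⁻¹ := by
        simp only [map_mul, map_inv, inv_inv]
      rw [e]
      exact key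
    have key2 : rho (comp (W := W) A B)
        ((gu⁻¹ * gt * gu * gt⁻¹) * ga * (gu⁻¹ * gt * gu * gt⁻¹)⁻¹ * ga⁻¹) = 1 := by
      have e2 : rho (comp (W := W) A B)
          ((gu⁻¹ * gt * gu * gt⁻¹) * ga * (gu⁻¹ * gt * gu * gt⁻¹)⁻¹ * ga⁻¹) =
          rho (comp (W := W) A B) (gu⁻¹ * gt * gu * gt⁻¹) * rho (comp (W := W) A B) ga *
            (rho (comp (W := W) A B) (gu⁻¹ * gt * gu * gt⁻¹))⁻¹ *
            (rho (comp (W := W) A B) ga)⁻¹ := by
        simp only [map_mul, map_inv]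
      rw [e2, hcomm']
      group
    intro w' hw'
    have key3 := congrArg (fun f : MulAut (comp (W := W) A B) =>
      ((f ⟨w', hw'⟩ : comp (W := W) A B) : W)) key2
    exact key3
  · -- the moved case: the component is cyclic
    haveI := h.k1_cyclic hBA hfix
    intro w' hw'
    have h1 : a⁻¹ • w' ∈ comp (W := W) A B := hAU _ (A.inv_mem ha) w' hw'
    rw [mul_smul, mul_smul, mul_smul,
      cyc_commute (hAU a ha) (hSU s⁻¹ (S.inv_mem hs)) h1, smul_inv_smul, smul_inv_smul]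

end star

end Cfsg.Agent.Lib.Helper34.BGE
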