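import Mathlib
import Cfsg.Agent.Lib.Helper34.BGStarC

/-!
# The abelian case, ambient form

`star_ambient`: in a finite group, let `V` be an abelian `p`-subgroup, `Q` a `q`-subgroup acting
faithfully on `V`, `S` a `p`-subgroup and `R0` a subgroup of odd prime order `r` normalizing `S`
and `V` with `C_S(R0) = 1` and `C_V(R0)` cyclic (`p` odd).  Then `S` centralizes every abelian
subgroup `A ≤ Q` normalized by `S` and `R0`.
-/

set_option autoImplicit false
set_option linter.unusedSectionVars false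
set_option linter.unusedVariables false

namespace Cfsg.Agent.Lib.Helper34.BGE

variable {X : Type*} [Group X]

/-- a commutative subgroup as a commutative group. -/
@[reducible] def commOf (V : Subgroup X) (hVab : ∀ a ∈ V, ∀ b ∈ V, a * b = b * a) :
    CommGroup V :=
  { (inferInstance : Group V) with
    mul_comm := fun a b => Subtype.ext (hVab a a.2 b b.2) }

/-- the conjugation action of the normalizer. -/
@[reducible] def ambAct (V : Subgroup X) :
    MulDistribMulAction (Subgroup.normalizer (V : Set X)) V where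
  smul g v := ⟨(g : X) * v * (g : X)⁻¹, (Subgroup.mem_normalizer_iff.mp g.2 v).mp v.2⟩
  one_smul v := Subtype.ext (by show (1 : X) * v * (1 : X)⁻¹ = v; group)
  mul_smul a b v := Subtype.ext (by
    show ((a : X) * b) * v * ((a : X) * b)⁻¹ = (a : X) * ((b : X) * v * (b : X)⁻¹) * (a : X)⁻¹
    group)
  smul_mul a v w := Subtype.ext (by
    show (a : X) * ((v : X) * w) * (a : X)⁻¹ = (a : X) * v * (a : X)⁻¹ * ((a : X) * w * (a : X)⁻¹)
    group)
  smul_one a := Subtype.ext (by show (a : X) * 1 * (a : X)⁻¹ = 1; group)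

theorem normalizer_subgroupOf {N M : Subgroup X} {g : N}
    (hg : (g : X) ∈ Subgroup.normalizer (M : Set X)) :
    g ∈ Subgroup.normalizer ((M.subgroupOf N : Subgroup N) : Set N) := by
  rw [Subgroup.mem_normalizer_iff]
  intro x
  rw [Subgroup.mem_subgroupOf, Subgroup.mem_subgroupOf]
  exact Subgroup.mem_normalizer_iff.mp hg x

theorem star_ambient [Finite X] {p q r : ℕ} (hp : p.Prime) (hq : q.Prime) (hr : r.Prime)
    (hp2 : p ≠ 2) (hr2 : r ≠ 2) (hpq : p ≠ q) (hpr : p ≠ r)
    (V Q S R0 : Subgroup X) (hV : IsPGroup p V) (hVab : ∀ a ∈ V, ∀ b ∈ V, a * b = b * a)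
    (hQ : IsPGroup q Q) (hS : IsPGroup p S) (hR0 : Nat.card R0 = r)
    (hRS : R0 ≤ Subgroup.normalizer (S : Set X)) (hQV : Q ≤ Subgroup.normalizer (V : Set X))
    (hSV : S ≤ Subgroup.normalizer (V : Set X)) (hRV : R0 ≤ Subgroup.normalizer (V : Set X))
    (hfpf : S ⊓ Subgroup.centralizer (R0 : Set X) = ⊥)
    (hfaith : Q ⊓ Subgroup.centralizer (V : Set X) = ⊥)
    (hCV : IsCyclic ↥(V ⊓ Subgroup.centralizer (R0 : Set X))) :
    ∀ A : Subgroup X, A ≤ Q → (∀ a ∈ A, ∀ b ∈ A, a * b = b * a) →
      S ≤ Subgroup.normalizer (A : Set X) → R0 ≤ Subgroup.normalizer (A : Set X) →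
      S ≤ Subgroup.centralizer (A : Set X) := by
  intro A hAQ hAab hSA hRA
  classical
  letI : Fintype X := Fintype.ofFinite X
  haveI : Fact p.Prime := ⟨hp⟩
  haveI : Fact q.Prime := ⟨hq⟩
  obtain ⟨t, ht1⟩ : ∃ t : R0, t ≠ 1 := by
    haveI : Nontrivial R0 := Finite.one_lt_card_iff_nontrivial.mp (by rw [hR0]; exact hr.one_lt)
    exact exists_ne 1
  obtain ⟨hto, htz⟩ := Cfsg.Agent.Lib.Helper34.zpowers_eq_of_mem hr hR0 t.2
    (fun h => ht1 (Subtype.ext h))
  -- commuting with `t` means centralizing `R0`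
  have hcent : ∀ x : X, (t : X) * x = x * t → x ∈ Subgroup.centralizer (R0 : Set X) := by
    intro x hx
    rw [Subgroup.mem_centralizer_iff]
    intro y hy
    have hy' : y ∈ Subgroup.zpowers (t : X) := by rw [htz]; exact hy
    obtain ⟨k, rfl⟩ := Subgroup.mem_zpowers_iff.mp hy'
    have hc : Commute (t : X) x := hx
    exact (hc.zpow_left k).eq
  letI : CommGroup V := commOf V hVab
  letI : MulDistribMulAction (Subgroup.normalizer (V : Set X)) V := ambAct V
  have hsmul : ∀ (g : Subgroup.normalizer (V : Set X)) (v : V),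
      ((g • v : V) : X) = (g : X) * v * (g : X)⁻¹ := fun g v => rfl
  let t' : Subgroup.normalizer (V : Set X) := ⟨t, hRV t.2⟩
  have H : StarHyp p r (A.subgroupOf (Subgroup.normalizer (V : Set X)))
      (S.subgroupOf (Subgroup.normalizer (V : Set X))) t' V :=
    { hp := hp
      hr := hr
      hp2 := hp2
      hr2 := hr2
      hpr := hpr
      ht := by rw [Subgroup.orderOf_mk]; exact hto
      hA := by
        intro a ha b hb
        rw [Subgroup.mem_subgroupOf] at ha hb
        exact Subtype.ext (hAab _ ha _ hb)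
      hcop := by
        have hA' : IsPGroup q (A.subgroupOf (Subgroup.normalizer (V : Set X))) :=
          (hQ.to_le hAQ).comap_subtype
        obtain ⟨n₁, h₁⟩ := IsPGroup.iff_card.mp hA'
        obtain ⟨n₂, h₂⟩ := IsPGroup.iff_card.mp hV
        rw [h₁, h₂]
        exact Nat.coprime_pow_primes _ _ hq hp (Ne.symm hpq)
      hS := hS.comap_subtype
      hSA := by
        intro s hs
        rw [Subgroup.mem_subgroupOf] at hs
        exact normalizer_subgroupOf (hSA hs)
      htA := normalizer_subgroupOf (hRA t.2)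
      htS := normalizer_subgroupOf (hRS t.2)
      hfpf := by
        intro s hs hts
        rw [Subgroup.mem_subgroupOf] at hs
        have h1 : (t : X) * (s : X) = (s : X) * t := congrArg Subtype.val hts
        have h2 : (s : X) ∈ S ⊓ Subgroup.centralizer (R0 : Set X) := ⟨hs, hcent _ h1⟩
        rw [hfpf, Subgroup.mem_bot] at h2
        exact Subtype.ext h2
      hW := hV
      hfix := by
        let f : fixW (W := V) t' →* ↥(V ⊓ Subgroup.centralizer (R0 : Set X)) :=
          { toFun := fun v => ⟨((v : V) : X), ⟨(v : V).2, by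
              apply hcent
              have h1 : t' • (v : V) = v := v.2
              have h2 : (t : X) * ((v : V) : X) * (t : X)⁻¹ = ((v : V) : X) :=
                congrArg Subtype.val h1
              calc (t : X) * ((v : V) : X) = (t : X) * ((v : V) : X) * (t : X)⁻¹ * t := by group
                _ = ((v : V) : X) * t := by rw [h2]⟩⟩
            map_one' := rfl
            map_mul' := fun a b => rfl }
        have hf : Function.Injective f := by
          intro a b hab
          have h1 : (((a : V) : X)) = ((b : V) : X) := congrArg (fun z : ↥(V ⊓ Subgroup.centralizer (R0 : Set X)) => (z : X)) hab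
          exact Subtype.ext (Subtype.ext h1)
        exact isCyclic_of_injective f hf }
  intro s hs
  rw [Subgroup.mem_centralizer_iff]
  intro a ha
  have haN : a ∈ Subgroup.normalizer (V : Set X) := hQV (hAQ ha)
  have hsN : s ∈ Subgroup.normalizer (V : Set X) := hSV hs
  have key := H.star (a := ⟨a, haN⟩) (s := ⟨s, hsN⟩)
    (Subgroup.mem_subgroupOf.mpr ha) (Subgroup.mem_subgroupOf.mpr hs)
  have hsa : s * a * s⁻¹ ∈ A := (Subgroup.mem_normalizer_iff.mp (hSA hs) a).mp ha
  have hcA : s * a * s⁻¹ * a⁻¹ ∈ A := A.mul_mem hsa (A.inv_mem ha)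
  have hcV : s * a * s⁻¹ * a⁻¹ ∈ Subgroup.centralizer (V : Set X) := by
    rw [Subgroup.mem_centralizer_iff]
    intro v hv
    have h1 := congrArg Subtype.val (key ⟨v, hv⟩)
    have h2 : (s * a * s⁻¹ * a⁻¹) * v * (s * a * s⁻¹ * a⁻¹)⁻¹ = v := h1
    calc v * (s * a * s⁻¹ * a⁻¹)
        = ((s * a * s⁻¹ * a⁻¹) * v * (s * a * s⁻¹ * a⁻¹)⁻¹) * (s * a * s⁻¹ * a⁻¹) := by rw [h2]
      _ = (s * a * s⁻¹ * a⁻¹) * v := by group
  have hc1 : s * a * s⁻¹ * a⁻¹ ∈ Q ⊓ Subgroup.centralizer (V : Set X) := ⟨hAQ hcA, hcV⟩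
  rw [hfaith, Subgroup.mem_bot] at hc1
  calc a * s = (s * a * s⁻¹ * a⁻¹)⁻¹ * (s * a) := by group
    _ = s * a := by rw [hc1, inv_one, one_mul]

end Cfsg.Agent.Lib.Helper34.BGE
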