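import Mathlib
import Cfsg.Agent.Lib.Helper34.FpfCyclic

/-!
# Actions on sections, and a Schur-type lemma (helper34)

* `conjMDMA A Q h` : the conjugation action of `A ≤ N(Q)` on `Q`.
* `sectionMDMA A Q M hQ hM` : the induced action on the section `Q / M`.
* `exists_generator_mod_kernel` : abstract: an abelian group acting on a nontrivial finite abelian
  group so that each element acts trivially or fixed-point-freely is cyclic modulo the kernel.
* `exists_cyclic_supplement` : subgroup form for an `A`-irreducible abelian section `Q / M`.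
-/

set_option autoImplicit false
set_option linter.style.haveILetI false
set_option warn.classDefReducibility false

namespace Cfsg.Agent.Lib.Helper34

section abstract

/-- An abelian group `E` acting on a nontrivial finite abelian group `V` such that every element
acts trivially or fixed-point-freely: some `a : E` generates `E` modulo the kernel. -/
theorem exists_generator_mod_kernel {E : Type*} [CommGroup E] [Finite E] {V : Type*} [CommGroup V]
    [Finite V] [MulDistribMulAction E V] (hnt : ∃ v : V, v ≠ 1)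
    (h : ∀ g : E, (∀ v : V, g • v = v) ∨ (∀ v : V, g • v = v → v = 1)) :
    ∃ a : E, ∀ g : E, ∃ k : ℤ, ∀ v : V, g • v = a ^ k • v := by
  let φ : E →* MulAut V := MulDistribMulAction.toMulAut E V
  have hφ : ∀ (g : E) (v : V), φ g v = g • v := fun g v => rfl
  let ψ : E ⧸ φ.ker →* MulAut V := QuotientGroup.kerLift φ
  have hψ : Function.Injective ψ := QuotientGroup.kerLift_injective φ
  have hψmk : ∀ g : E, ψ (QuotientGroup.mk g) = φ g := fun g => rfl
  letI : MulDistribMulAction (E ⧸ φ.ker) V := MulDistribMulAction.compHom V ψ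
  have hsm : ∀ (g : E) (v : V), (QuotientGroup.mk g : E ⧸ φ.ker) • v = g • v := fun g v => rfl
  have hf : Fpf (E ⧸ φ.ker) V := by
    intro gb hgb v hv
    obtain ⟨g, rfl⟩ := QuotientGroup.mk_surjective gb
    rcases h g with h1 | h1
    · exfalso
      apply hgb
      rw [QuotientGroup.eq_one_iff, MonoidHom.mem_ker]
      ext w
      rw [hφ, h1 w]; rfl
    · exact h1 v (by rw [← hsm]; exact hv)
  haveI hcyc : IsCyclic (E ⧸ φ.ker) := isCyclic_of_comm hf hnt
  obtain ⟨ab, hab⟩ := hcyc.exists_generator
  obtain ⟨a, rfl⟩ := QuotientGroup.mk_surjective ab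
  refine ⟨a, fun g => ?_⟩
  obtain ⟨k, hk⟩ := Subgroup.mem_zpowers_iff.mp (hab (QuotientGroup.mk g))
  refine ⟨k, fun v => ?_⟩
  have h1 : (QuotientGroup.mk g : E ⧸ φ.ker) = QuotientGroup.mk (a ^ k) := by
    rw [← hk, QuotientGroup.mk_zpow]
  rw [← hsm g v, h1, hsm]

end abstract

section concrete

variable {X : Type*} [Group X]

/-- The conjugation action of a subgroup `A ≤ N_X(Q)` on `Q`. -/
def conjMDMA (A Q : Subgroup X) (h : A ≤ Subgroup.normalizer (Q : Set X)) :
    MulDistribMulAction ↥A ↥Q where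
  smul a v := ⟨a * v * (a : X)⁻¹, (Subgroup.mem_normalizer_iff.mp (h a.2) v).mp v.2⟩
  one_smul v := by
    apply Subtype.ext
    show ((1 : ↥A) : X) * v * ((1 : ↥A) : X)⁻¹ = v
    simp
  mul_smul a b v := by
    apply Subtype.ext
    show ((a * b : ↥A) : X) * v * ((a * b : ↥A) : X)⁻¹ = a * (b * v * (b : X)⁻¹) * (a : X)⁻¹
    simp [mul_assoc]
  smul_mul a v w := by
    apply Subtype.ext
    show (a : X) * ((v * w : ↥Q) : X) * (a : X)⁻¹ = (a * v * (a : X)⁻¹) * (a * w * (a : X)⁻¹)
    simp [mul_assoc]
  smul_one a := by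
    apply Subtype.ext
    show (a : X) * ((1 : ↥Q) : X) * (a : X)⁻¹ = 1
    simp

theorem conjMDMA_coe (A Q : Subgroup X) (h : A ≤ Subgroup.normalizer (Q : Set X)) (a : ↥A)
    (v : ↥Q) : ((letI := conjMDMA A Q h; a • v : ↥Q) : X) = a * v * (a : X)⁻¹ := rfl

/-- Conjugation by `a ∈ A ≤ N(Q)` as an endomorphism of `Q`. -/
def conjHom (A Q : Subgroup X) (h : A ≤ Subgroup.normalizer (Q : Set X)) (a : ↥A) : ↥Q →* ↥Q :=
  letI := conjMDMA A Q h
  MulDistribMulAction.toMonoidHom ↥Q a

theorem conjHom_coe (A Q : Subgroup X) (h : A ≤ Subgroup.normalizer (Q : Set X)) (a : ↥A)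
    (v : ↥Q) : ((conjHom A Q h a v : ↥Q) : X) = a * v * (a : X)⁻¹ := rfl

theorem le_comap_conjHom (A Q M : Subgroup X) (hQ : A ≤ Subgroup.normalizer (Q : Set X))
    (hM : A ≤ Subgroup.normalizer (M : Set X)) (a : ↥A) :
    M.subgroupOf Q ≤ (M.subgroupOf Q).comap (conjHom A Q hQ a) := by
  intro v hv
  rw [Subgroup.mem_comap, Subgroup.mem_subgroupOf, conjHom_coe]
  exact (Subgroup.mem_normalizer_iff.mp (hM a.2) v).mp (Subgroup.mem_subgroupOf.mp hv)

/-- The action of `A` on the section `Q / M`. -/
def sectionMDMA (A Q M : Subgroup X) (hQ : A ≤ Subgroup.normalizer (Q : Set X))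
    (hM : A ≤ Subgroup.normalizer (M : Set X)) [(M.subgroupOf Q).Normal] :
    MulDistribMulAction ↥A (↥Q ⧸ M.subgroupOf Q) where
  smul a v := QuotientGroup.map _ _ (conjHom A Q hQ a) (le_comap_conjHom A Q M hQ hM a) v
  one_smul v := by
    induction v using QuotientGroup.induction_on with
    | H x =>
      show QuotientGroup.map _ _ (conjHom A Q hQ 1) _ (QuotientGroup.mk x) = _
      rw [QuotientGroup.map_mk]
      congr 1
      apply Subtype.ext
      rw [conjHom_coe]; simp
  mul_smul a b v := by
    induction v using QuotientGroup.induction_on with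
    | H x =>
      show QuotientGroup.map _ _ (conjHom A Q hQ (a * b)) _ (QuotientGroup.mk x) =
        QuotientGroup.map _ _ (conjHom A Q hQ a) _
          (QuotientGroup.map _ _ (conjHom A Q hQ b) _ (QuotientGroup.mk x))
      rw [QuotientGroup.map_mk, QuotientGroup.map_mk, QuotientGroup.map_mk]
      congr 1
      apply Subtype.ext
      rw [conjHom_coe, conjHom_coe, conjHom_coe]
      simp [mul_assoc]
  smul_mul a v w := by
    show QuotientGroup.map _ _ (conjHom A Q hQ a) _ (v * w) = _
    rw [map_mul]; rfl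
  smul_one a := by
    show QuotientGroup.map _ _ (conjHom A Q hQ a) _ 1 = 1
    rw [map_one]

theorem sectionMDMA_mk (A Q M : Subgroup X) (hQ : A ≤ Subgroup.normalizer (Q : Set X))
    (hM : A ≤ Subgroup.normalizer (M : Set X)) [(M.subgroupOf Q).Normal] (a : ↥A) (x : ↥Q) :
    (letI := sectionMDMA A Q M hQ hM
     a • (QuotientGroup.mk x : ↥Q ⧸ M.subgroupOf Q)) =
      QuotientGroup.mk (conjHom A Q hQ a x) := rfl

end concrete

end Cfsg.Agent.Lib.Helper34
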