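import Mathlib
import Cfsg.Agent.Lib.Helper34.SectionAction

/-!
# A Schur-type lemma for abelian groups acting irreducibly on a section (helper34)
-/

set_option autoImplicit false
set_option linter.style.haveILetI false
set_option warn.classDefReducibility false

namespace Cfsg.Agent.Lib.Helper34

open scoped IsMulCommutative
open scoped commutatorElement

variable {X : Type*} [Group X]

theorem le_normalizer_of_forall_conj_mem (A U : Subgroup X)
    (h : ∀ c ∈ A, ∀ x ∈ U, c * x * c⁻¹ ∈ U) : A ≤ Subgroup.normalizer (U : Set X) := by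
  intro c hc
  rw [Subgroup.mem_normalizer_iff]
  intro x
  constructor
  · exact h c hc x
  · intro hx
    have := h c⁻¹ (A.inv_mem hc) _ hx
    simpa [mul_assoc] using this

theorem conj_mem_of_le_normalizer {A U : Subgroup X} (h : A ≤ Subgroup.normalizer (U : Set X))
    {c x : X} (hc : c ∈ A) (hx : x ∈ U) : c * x * c⁻¹ ∈ U :=
  (Subgroup.mem_normalizer_iff.mp (h hc) x).mp hx

/-- The preimage in `Q ≤ X` of a subgroup of the section `Q / M`. -/
def pre (Q M : Subgroup X) [(M.subgroupOf Q).Normal] (S : Subgroup (↥Q ⧸ M.subgroupOf Q)) :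
    Subgroup X :=
  (S.comap (QuotientGroup.mk' (M.subgroupOf Q))).map Q.subtype

theorem mem_pre {Q M : Subgroup X} [(M.subgroupOf Q).Normal]
    {S : Subgroup (↥Q ⧸ M.subgroupOf Q)} {x : X} :
    x ∈ pre Q M S ↔ ∃ hx : x ∈ Q, (QuotientGroup.mk ⟨x, hx⟩ : ↥Q ⧸ M.subgroupOf Q) ∈ S := by
  unfold pre
  constructor
  · rintro ⟨y, hy, rfl⟩
    exact ⟨y.2, hy⟩
  · rintro ⟨hx, h⟩
    exact ⟨⟨x, hx⟩, h, rfl⟩

theorem pre_le {Q M : Subgroup X} [(M.subgroupOf Q).Normal]
    (S : Subgroup (↥Q ⧸ M.subgroupOf Q)) : pre Q M S ≤ Q := by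
  intro x hx
  exact (mem_pre.mp hx).1

theorem le_pre {Q M : Subgroup X} [(M.subgroupOf Q).Normal] (hMQ : M ≤ Q)
    (S : Subgroup (↥Q ⧸ M.subgroupOf Q)) : M ≤ pre Q M S := by
  intro x hx
  rw [mem_pre]
  refine ⟨hMQ hx, ?_⟩
  have : (QuotientGroup.mk ⟨x, hMQ hx⟩ : ↥Q ⧸ M.subgroupOf Q) = 1 := by
    rw [QuotientGroup.eq_one_iff]
    exact hx
  rw [this]
  exact S.one_mem

/-- `A`-invariance of a preimage. -/
theorem le_normalizer_pre (A Q M : Subgroup X) (hQ : A ≤ Subgroup.normalizer (Q : Set X))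
    (hM : A ≤ Subgroup.normalizer (M : Set X)) [(M.subgroupOf Q).Normal]
    (S : Subgroup (↥Q ⧸ M.subgroupOf Q))
    (hS : ∀ (a : ↥A) (v : ↥Q ⧸ M.subgroupOf Q), v ∈ S →
      (letI := sectionMDMA A Q M hQ hM; a • v) ∈ S) :
    A ≤ Subgroup.normalizer (pre Q M S : Set X) := by
  apply le_normalizer_of_forall_conj_mem
  intro c hc x hx
  obtain ⟨hxQ, hxS⟩ := mem_pre.mp hx
  rw [mem_pre]
  refine ⟨conj_mem_of_le_normalizer hQ hc hxQ, ?_⟩
  have := hS ⟨c, hc⟩ _ hxS
  rw [sectionMDMA_mk] at this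
  exact this

/-- **Schur-type lemma.** Let the abelian group `A` act on the solvable group `Q` and on its
normal subgroup `M < Q`, such that there is no `A`-invariant subgroup strictly between `M` and `Q`.
Then some `a ∈ A` generates `A` modulo the kernel of the action on `Q / M`. -/
theorem exists_cyclic_supplement [Finite X] (A Q M : Subgroup X) [IsMulCommutative A]
    (hQ : A ≤ Subgroup.normalizer (Q : Set X)) (hM : A ≤ Subgroup.normalizer (M : Set X))
    (hMQ : M < Q) [hn : (M.subgroupOf Q).Normal] (hsolv : Group.IsSolvable ↥Q)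
    (hirr : ∀ U : Subgroup X, M ≤ U → U ≤ Q → A ≤ Subgroup.normalizer (U : Set X) →
      U = M ∨ U = Q) :
    ∃ a ∈ A, ∀ g ∈ A, ∃ k : ℤ, ∀ x ∈ Q,
      (g * a ^ k) * x * (g * a ^ k)⁻¹ * x⁻¹ ∈ M := by
  letI act := sectionMDMA A Q M hQ hM
  -- nontriviality of the section
  obtain ⟨x₀, hx₀Q, hx₀M⟩ := SetLike.exists_of_lt hMQ
  have hmk_one : ∀ (x : X) (hx : x ∈ Q),
      (QuotientGroup.mk ⟨x, hx⟩ : ↥Q ⧸ M.subgroupOf Q) = 1 ↔ x ∈ M := by
    intro x hx
    rw [QuotientGroup.eq_one_iff]; rfl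
  have hnt : ∃ v : ↥Q ⧸ M.subgroupOf Q, v ≠ 1 :=
    ⟨QuotientGroup.mk ⟨x₀, hx₀Q⟩, fun h => hx₀M ((hmk_one x₀ hx₀Q).mp h)⟩
  have hpre_eq_M : ∀ S : Subgroup (↥Q ⧸ M.subgroupOf Q), pre Q M S = M → S = ⊥ := by
    intro S hS
    rw [eq_bot_iff]
    intro v hv
    obtain ⟨x, rfl⟩ := QuotientGroup.mk_surjective v
    have : (x : X) ∈ pre Q M S := mem_pre.mpr ⟨x.2, hv⟩
    rw [hS] at this
    rw [Subgroup.mem_bot]
    exact (hmk_one x x.2).mpr this
  have hpre_eq_Q : ∀ S : Subgroup (↥Q ⧸ M.subgroupOf Q), pre Q M S = Q → S = ⊤ := by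
    intro S hS
    rw [eq_top_iff]
    intro v _
    obtain ⟨x, rfl⟩ := QuotientGroup.mk_surjective v
    have : (x : X) ∈ pre Q M S := by rw [hS]; exact x.2
    obtain ⟨_, h⟩ := mem_pre.mp this
    exact h
  -- the section is commutative
  have hcomm : ∀ v w : ↥Q ⧸ M.subgroupOf Q, v * w = w * v := by
    have hinv : A ≤ Subgroup.normalizer (pre Q M (commutator (↥Q ⧸ M.subgroupOf Q)) : Set X) := by
      apply le_normalizer_pre A Q M hQ hM
      intro a v hv
      have hchar : (commutator (↥Q ⧸ M.subgroupOf Q)).Characteristic := by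
        rw [commutator_def]; infer_instance
      have := (Subgroup.characteristic_iff_map_eq.mp hchar)
        (MulDistribMulAction.toMulAut ↥A (↥Q ⧸ M.subgroupOf Q) a)
      rw [← this]
      exact ⟨v, hv, rfl⟩
    rcases hirr _ (le_pre hMQ.le _) (pre_le _) hinv with h | h
    · have hbot := hpre_eq_M _ h
      intro v w
      have : ⁅v, w⁆ ∈ commutator (↥Q ⧸ M.subgroupOf Q) := by
        rw [commutator_def]
        exact Subgroup.commutator_mem_commutator (Subgroup.mem_top v) (Subgroup.mem_top w)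
      rw [hbot, Subgroup.mem_bot] at this
      exact commutatorElement_eq_one_iff_mul_comm.mp this
    · exfalso
      have htop := hpre_eq_Q _ h
      haveI : Nontrivial (↥Q ⧸ M.subgroupOf Q) := by
        obtain ⟨v, hv⟩ := hnt
        exact ⟨⟨v, 1, hv⟩⟩
      haveI := hsolv
      haveI : Group.IsSolvable (↥Q ⧸ M.subgroupOf Q) :=
        Group.isSolvable_of_surjective (QuotientGroup.mk'_surjective (M.subgroupOf Q))
      exact (Group.IsSolvable.commutator_lt_top_of_nontrivial (↥Q ⧸ M.subgroupOf Q)).ne htop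
  letI cg : CommGroup (↥Q ⧸ M.subgroupOf Q) :=
    { (inferInstance : Group (↥Q ⧸ M.subgroupOf Q)) with mul_comm := hcomm }
  -- dichotomy
  have hdich : ∀ g : ↥A, (∀ v : ↥Q ⧸ M.subgroupOf Q, g • v = v) ∨
      (∀ v : ↥Q ⧸ M.subgroupOf Q, g • v = v → v = 1) := by
    intro g
    let F : Subgroup (↥Q ⧸ M.subgroupOf Q) :=
      { carrier := {v | g • v = v}
        mul_mem' := by
          intro v w hv hw
          show g • (v * w) = v * w
          rw [smul_mul', hv, hw]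
        one_mem' := smul_one g
        inv_mem' := by
          intro v hv
          show g • v⁻¹ = v⁻¹
          rw [smul_inv', hv] }
    have hF : ∀ v, v ∈ F ↔ g • v = v := fun v => Iff.rfl
    have hinv : A ≤ Subgroup.normalizer (pre Q M F : Set X) := by
      apply le_normalizer_pre A Q M hQ hM
      intro a v hv
      rw [hF] at hv ⊢
      rw [smul_smul, mul_comm, ← smul_smul, hv]
    rcases hirr _ (le_pre hMQ.le _) (pre_le _) hinv with h | h
    · right
      intro v hv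
      have := hpre_eq_M _ h
      have hv' : v ∈ F := hv
      rw [this, Subgroup.mem_bot] at hv'
      exact hv'
    · left
      intro v
      have := hpre_eq_Q _ h
      have hv' : v ∈ F := by rw [this]; trivial
      exact hv'
  obtain ⟨a, ha⟩ := exists_generator_mod_kernel hnt hdich
  refine ⟨a, a.2, fun g hg => ?_⟩
  obtain ⟨k, hk⟩ := ha ⟨g, hg⟩
  refine ⟨-k, fun x hx => ?_⟩
  -- b = g * a^(-k) acts trivially
  set b : ↥A := ⟨g, hg⟩ * a ^ (-k) with hb
  have hbtriv : ∀ v : ↥Q ⧸ M.subgroupOf Q, b • v = v := by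
    intro v
    rw [hb, mul_smul, hk, ← mul_smul, ← zpow_add, add_neg_cancel, zpow_zero, one_smul]
  have hbcoe : (b : X) = g * (a : X) ^ (-k) := by
    rw [hb]; simp
  rw [← hbcoe]
  have hxinv : x⁻¹ ∈ Q := Q.inv_mem hx
  have h1 := hbtriv (QuotientGroup.mk ⟨x⁻¹, hxinv⟩)
  rw [sectionMDMA_mk, QuotientGroup.eq] at h1
  have h2 : ((conjHom A Q hQ b ⟨x⁻¹, hxinv⟩)⁻¹ * ⟨x⁻¹, hxinv⟩ : ↥Q) ∈ M.subgroupOf Q := h1
  rw [Subgroup.mem_subgroupOf] at h2
  have h3 : (((conjHom A Q hQ b ⟨x⁻¹, hxinv⟩)⁻¹ * ⟨x⁻¹, hxinv⟩ : ↥Q) : X) =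
      (b : X) * x * (b : X)⁻¹ * x⁻¹ := by
    rw [Subgroup.coe_mul, Subgroup.coe_inv, conjHom_coe]
    simp [mul_assoc]
  rw [h3] at h2
  exact h2

end Cfsg.Agent.Lib.Helper34
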