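import Cfsg.Agent.Lib.Helper12.D3Defs
import Cfsg.Agent.Lib.Helper65.D4gCOMM

/-! # D3 hive (S2183, owner helper12), leaf D3-FIX: a `W`-word in `³D₄(q)` has `φ`-fixed `b`, `3a+b`, `3a+2b` coordinates -/

set_option autoImplicit false

namespace Cfsg.Agent.Lib.Helper12.D3

open Cfsg Cfsg.Lie Cfsg.Agent.Lib.Helper36 Cfsg.Agent.Lib.Helper75.D4g

variable (K : Type*) [Field K] (φ : K →+* K)

/-- the coefficient function of the `W`-word in the order of `orbsD4.flatten` -/
def d3fix_tau (s t S c d e : K) : ℕ → K := fun r =>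
  if r = 18 then s else if r = 13 then φ s else if r = 12 then φ (φ s) else if r = 14 then t
  else if r = 15 then φ (φ S) else if r = 19 then S else if r = 16 then φ S
  else if r = 17 then φ c else if r = 20 then φ (φ c) else if r = 21 then c
  else if r = 22 then d else if r = 23 then e else 0

theorem d3fix_W_word (s t S c d e : K) :
    W K φ s t S c d e =
      wordGL chevD4 hD4 K (orbsD4.flatten.map fun r => (r, d3fix_tau K φ s t S c d e r)) := by
  have c1 : xg K 19 S * xg K 15 (φ (φ S)) = xg K 15 (φ (φ S)) * xg K 19 S :=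
    d4gcomm_nil (K := K) 19 15 (by decide) (by decide) (by decide) (by decide) (by decide +kernel) _ _
  have c2 : xg K 16 (φ S) * xg K 15 (φ (φ S)) = xg K 15 (φ (φ S)) * xg K 16 (φ S) :=
    d4gcomm_nil (K := K) 16 15 (by decide) (by decide) (by decide) (by decide) (by decide +kernel) _ _
  have c3 : xg K 21 c * xg K 17 (φ c) = xg K 17 (φ c) * xg K 21 c :=
    d4gcomm_nil (K := K) 21 17 (by decide) (by decide) (by decide) (by decide) (by decide +kernel) _ _
  have c4 : xg K 21 c * xg K 20 (φ (φ c)) = xg K 20 (φ (φ c)) * xg K 21 c :=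
    d4gcomm_nil (K := K) 21 20 (by decide) (by decide) (by decide) (by decide) (by decide +kernel) _ _
  have h1 : xg K 19 S * xg K 16 (φ S) * xg K 15 (φ (φ S)) =
      xg K 15 (φ (φ S)) * (xg K 19 S * xg K 16 (φ S)) := by
    rw [mul_assoc, c2, ← mul_assoc, c1, mul_assoc]
  have h2 : xg K 21 c * xg K 17 (φ c) * xg K 20 (φ (φ c)) =
      xg K 17 (φ c) * (xg K 20 (φ (φ c)) * xg K 21 c) := by
    rw [c3, mul_assoc, c4]
  unfold W V T xa xab x2ab
  rw [h1, h2]
  simp [orbsD4, wordGL, d3fix_tau, mul_assoc]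

theorem W_fix [Fintype K] [CharP K 2] {q : ℕ} (hK : Fintype.card K = q ^ 3) (hφ : ∀ t : K, φ t = t ^ q)
    (s t S c d e : K) (h : W K φ s t S c d e ∈ twistedD4 K q) : φ t = t ∧ φ d = d ∧ φ e = e := by
  rw [twistedD4_eq K q φ hφ hK] at h
  have hσ := sigma_twGroup chevD4 hD4 graphD4 twOK_D4.hG orbsD4 fundD4 K φ twOK_D4.orb twOK_D4.fnd _ h
  rw [d3fix_W_word] at hσ
  have hfix := (sigma_fixed_iff chevD4 hD4 graphD4 twOK_D4.hG orbsD4 K φ twOK_D4.orb _).1 hσ
  have one_or : ∀ z : ℤ, z = 1 ∨ z = -1 → ((z : ℤ) : K) = 1 := by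
    rintro z (rfl | rfl)
    · simp
    · simp [CharTwo.neg_eq]
  have e14 : graphD4.ρi 14 = 14 := by decide
  have e22 : graphD4.ρi 22 = 22 := by decide
  have e23 : graphD4.ρi 23 = 23 := by decide
  have s14 : graphD4.ε 14 = 1 ∨ graphD4.ε 14 = -1 := by decide
  have s22 : graphD4.ε 22 = 1 ∨ graphD4.ε 22 = -1 := by decide
  have s23 : graphD4.ε 23 = 1 ∨ graphD4.ε 23 = -1 := by decide
  have h14 := hfix 14 (by decide)
  have h22 := hfix 22 (by decide)
  have h23 := hfix 23 (by decide)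
  unfold tw at h14 h22 h23
  rw [e14, one_or _ s14, one_mul] at h14
  rw [e22, one_or _ s22, one_mul] at h22
  rw [e23, one_or _ s23, one_mul] at h23
  simp only [d3fix_tau] at h14 h22 h23
  norm_num at h14 h22 h23
  exact ⟨h14.symm, h22.symm, h23.symm⟩

end Cfsg.Agent.Lib.Helper12.D3
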