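import Mathlib
import Cfsg.Agent.Lib.Helper41.SpBNDefs

/-! # Auxiliary lemmas for the S2545 SpBN hive leaves FACS / FACL / OPP (helper34) -/

set_option autoImplicit false

namespace Cfsg.Agent.Lib.Helper41.SpBN

open Matrix Cfsg Cfsg.Agent.Lib.Helper13

variable {F : Type*} [Field F] {m : ℕ}

/-- entries of the inverse of a symplectic matrix -/
theorem facs_inv_apply (g : SpG F m) (a b : Idx m) :
    (g⁻¹).1 a b = eta F a * eta F b * g.1 b.swap a.swap := by
  rw [SymplecticGroup.coe_inv, Matrix.mul_apply, Finset.sum_eq_single b.swap]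
  · rw [Matrix.mul_apply, Finset.sum_eq_single a.swap]
    · rw [Matrix.neg_apply, J_apply_eq, J_apply_eq, if_pos rfl, if_pos (Sum.swap_swap b).symm,
        eta_swap, Matrix.transpose_apply]
      ring
    · intro d _ hd
      rw [Matrix.neg_apply, J_apply_eq, if_neg hd, neg_zero, zero_mul]
    · simp
  · intro c _ hc
    rw [J_apply_eq, if_neg ?_, mul_zero]
    intro h
    apply hc
    rw [h, Sum.swap_swap]
  · simp

/-- entries of a conjugate by a monomial matrix -/
theorem facs_conj_apply (n g : SpG F m) {π : Equiv.Perm (Idx m)} {d : Idx m → F}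
    (hn : IsMono n.1 π d) (a c : Idx m) :
    (n * g * n⁻¹).1 a c =
      d (π.symm a) * g.1 (π.symm a) (π.symm c) * (d (π.symm c))⁻¹ := by
  have hn' := isMono_inv n hn
  change (n.1 * g.1 * (n⁻¹).1) a c = _
  rw [Matrix.mul_apply, Finset.sum_eq_single (π.symm c)]
  · rw [Matrix.mul_apply, Finset.sum_eq_single (π.symm a)]
    · rw [hn a (π.symm a), if_pos (by simp), hn' (π.symm c) c, if_pos rfl]
    · intro u _ hu
      rw [hn a u, if_neg ?_, zero_mul]
      intro h
      apply hu
      rw [h]
      simp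
    · simp
  · intro v _ hv
    rw [hn' v c, if_neg hv, mul_zero]
  · simp

/-- the diagonal entries of the `(inl,inl)` block of an element of `B` do not vanish -/
theorem facs_diag_ne_zero {b : SpG F m} (hb : b ∈ Bsp F m) (k : Fin m) :
    b.1 (Sum.inl k) (Sum.inl k) ≠ 0 := by
  intro h0
  have hb' := (Bsp F m).inv_mem hb
  rw [mem_Bsp_iff] at hb hb'
  have h1 : ((b⁻¹).1 * b.1) (Sum.inl k) (Sum.inl k) = 1 := by
    rw [coe_inv_mul_self]
    simp
  rw [Matrix.mul_apply, Fintype.sum_sum_type] at h1
  have e1 : ∀ j : Fin m, (b⁻¹).1 (Sum.inl k) (Sum.inl j) * b.1 (Sum.inl j) (Sum.inl k) = 0 := by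
    intro j
    rcases lt_trichotomy (j : ℕ) (k : ℕ) with h | h | h
    · rw [hb'.1 k j h, zero_mul]
    · have : j = k := Fin.ext h
      subst this
      rw [h0, mul_zero]
    · rw [hb.1 j k h, mul_zero]
  have e2 : ∀ j : Fin m, (b⁻¹).1 (Sum.inl k) (Sum.inr j) * b.1 (Sum.inr j) (Sum.inl k) = 0 := by
    intro j
    rw [hb.2 j k, mul_zero]
  simp [e1, e2] at h1

/-- for `g ∈ B` the `(inr,inr)` block is lower triangular -/
theorem facs_lower {g : SpG F m} (hg : g ∈ Bsp F m) (i j : Fin m) (hij : (i : ℕ) < (j : ℕ)) :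
    g.1 (Sum.inr i) (Sum.inr j) = 0 := by
  have hg' := (mem_Bsp_iff _).1 ((Bsp F m).inv_mem hg)
  have h := hg'.1 j i hij
  rw [facs_inv_apply] at h
  simpa [eta] using h

theorem facs_mul_single_apply (M : Matrix (Idx m) (Idx m) F) (p q a c : Idx m) :
    (M * Matrix.single p q (1 : F)) a c = if c = q then M a p else 0 := by
  by_cases h : c = q
  · subst h
    rw [if_pos rfl, Matrix.mul_single_apply_same, mul_one]
  · rw [if_neg h, Matrix.mul_single_apply_of_ne _ _ _ _ _ h]

/-- right multiplication by a root element of short type -/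
theorem facs_mul_root2 (M : Matrix (Idx m) (Idx m) F) (t : F) (p q p' q' a c : Idx m) :
    (M * (1 + t • Matrix.single p q (1 : F) - t • Matrix.single p' q' (1 : F))) a c =
      M a c + t * (if c = q then M a p else 0) - t * (if c = q' then M a p' else 0) := by
  rw [Matrix.mul_sub, Matrix.mul_add, Matrix.mul_one, Matrix.mul_smul, Matrix.mul_smul]
  simp only [Matrix.sub_apply, Matrix.add_apply, Matrix.smul_apply, smul_eq_mul,
    facs_mul_single_apply]

/-- right multiplication by a root element of long type -/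
theorem facs_mul_root1 (M : Matrix (Idx m) (Idx m) F) (t : F) (p q a c : Idx m) :
    (M * (1 + t • Matrix.single p q (1 : F))) a c =
      M a c + t * (if c = q then M a p else 0) := by
  rw [Matrix.mul_add, Matrix.mul_one, Matrix.mul_smul]
  simp only [Matrix.add_apply, Matrix.smul_apply, smul_eq_mul, facs_mul_single_apply]

theorem facs_simpleShort_symm_inl (k k' i : Fin m) :
    (simpleShort k k').symm (Sum.inl i) = Sum.inl (Equiv.swap k k' i) := by
  rw [Equiv.symm_apply_eq]
  unfold simpleShort
  have h1 : Equiv.swap (Sum.inr k : Idx m) (Sum.inr k') (Sum.inl (Equiv.swap k k' i)) =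
      Sum.inl (Equiv.swap k k' i) := Equiv.swap_apply_of_ne_of_ne (by simp) (by simp)
  rw [Equiv.Perm.mul_apply, h1, ← Sum.inl_injective.swap_apply, Equiv.swap_apply_self]

theorem facs_simpleShort_symm_inr (k k' i : Fin m) :
    (simpleShort k k').symm (Sum.inr i) = Sum.inr (Equiv.swap k k' i) := by
  rw [Equiv.symm_apply_eq]
  unfold simpleShort
  have h1 : Equiv.swap (Sum.inl k : Idx m) (Sum.inl k') (Sum.inr i) = Sum.inr i :=
    Equiv.swap_apply_of_ne_of_ne (by simp) (by simp)
  rw [Equiv.Perm.mul_apply, ← Sum.inr_injective.swap_apply, Equiv.swap_apply_self, h1]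

theorem facs_simpleLong_symm (k : Fin m) : (simpleLong k).symm = simpleLong k := by
  unfold simpleLong
  exact Equiv.symm_swap _ _

end Cfsg.Agent.Lib.Helper41.SpBN
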