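import Mathlib
import Cfsg.Agent.Lib.Helper41.PsDefs
import Cfsg.Agent.Lib.Helper54.CgCG8

/-! # Ps hive (S4321), leaf PS14 (A): under `hstar`, `p ∤ cs (b * w)` for `p'`-elements `w` commuting with `b`. -/

set_option autoImplicit false

namespace Cfsg.Agent.Lib.Helper41.Ps

open Subgroup
open Cfsg.Agent.Lib.Helper22.Cg

universe u

/-- PS14 (A). under `hstar`, `p ∤ cs (b * w)` for `p'`-elements `w` commuting with `b`. (cg8) -/
theorem ps_cA {G : Type u} [Group G] [Finite G] (p : ℕ) [Fact p.Prime] (b : G)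
    (hb1 : 1 < cs b) (hbne : b ≠ 1) (hbp : ∃ n : ℕ, orderOf b = p ^ n)
    (hstar : ∀ x : G, p ∣ orderOf x → p ∣ cs x → (cs x).Coprime (cs b))
    (w : G) (hw : w * b = b * w) (hpw : ¬ p ∣ orderOf w) : ¬ p ∣ cs (b * w) := by
  intro hp
  obtain ⟨n, hn⟩ := hbp
  have hn0 : n ≠ 0 := by
    intro h0
    rw [h0, pow_zero] at hn
    exact hbne (orderOf_eq_one_iff.mp hn)
  have hcop : (orderOf b).Coprime (orderOf w) := by
    rw [hn]
    exact Nat.Coprime.pow_left n ((Nat.Prime.coprime_iff_not_dvd (Fact.out : p.Prime)).mpr hpw)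
  have hcomm : Commute b w := hw.symm
  have hord : orderOf (b * w) = orderOf b * orderOf w :=
    hcomm.orderOf_mul_eq_mul_orderOf_of_coprime hcop
  have hps : p ∣ orderOf (b * w) := by
    rw [hord, hn]
    exact Dvd.dvd.mul_right (dvd_pow_self p hn0) _
  have h8 : cs b ∣ cs (b * w) := (cg8 b w hw.symm hcop).1
  have hc : (cs (b * w)).Coprime (cs b) := hstar (b * w) hps hp
  have h1 : cs b = 1 := hc.symm.eq_one_of_dvd h8
  omega

end Cfsg.Agent.Lib.Helper41.Ps
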