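import Mathlib
import Cfsg.Agent.Lib.Helper22.CgDefs

/-! # Cg hive (S4257), leaf CG6c: if `G = H N` with `N` normal then `|G : H|` divides `|N|`. -/

set_option autoImplicit false

namespace Cfsg.Agent.Lib.Helper22.Cg

open Subgroup

universe u

/-- CG6c. If `G = H N` with `N` normal then `|G : H|` divides `|N|`. -/
theorem cg6c {G : Type u} [Group G] [Finite G] (H N : Subgroup G) [N.Normal]
    (h : ∀ g : G, ∃ c ∈ H, ∃ n ∈ N, g = c * n) : H.index ∣ Nat.card N := by
  have key : ∀ a : G ⧸ H, ∃ n : ↥N, n • (QuotientGroup.mk 1 : G ⧸ H) = a := by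
    intro a
    induction a using QuotientGroup.induction_on with
    | H g =>
      obtain ⟨c, hc, n, hn, hg⟩ := h g⁻¹
      refine ⟨⟨n⁻¹, N.inv_mem hn⟩, ?_⟩
      change (QuotientGroup.mk (n⁻¹ * 1) : G ⧸ H) = QuotientGroup.mk g
      rw [mul_one]
      apply QuotientGroup.eq.mpr
      have hg' : g = n⁻¹ * c⁻¹ := by
        have := congrArg (fun z => z⁻¹) hg
        simpa using this
      have e : (n⁻¹)⁻¹ * g = c⁻¹ := by rw [hg']; group
      rw [e]
      exact H.inv_mem hc
  have : MulAction.IsPretransitive ↥N (G ⧸ H) := by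
    constructor
    intro a b
    obtain ⟨n1, hn1⟩ := key a
    obtain ⟨n2, hn2⟩ := key b
    exact ⟨n2 * n1⁻¹, by rw [mul_smul, ← hn1, inv_smul_smul, hn2]⟩
  rw [Subgroup.index_eq_card,
    ← MulAction.index_stabilizer_of_transitive ↥N (QuotientGroup.mk 1 : G ⧸ H)]
  exact Subgroup.index_dvd_card _

end Cfsg.Agent.Lib.Helper22.Cg
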