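import Mathlib
import Cfsg.Statements.S2924
import Cfsg.Agent.Lib.Helper22.CharP2
import Cfsg.Agent.Lib.Helper22.FStar
import Cfsg.Agent.Lib.Helper22.OcDefs
import Cfsg.Agent.Lib.Helper55.Cores

/-! # Oc hive (S2924), leaf OC1: `F*(M) = O_2(M)`, `y² = 1` ⟹ `O(C_M(y)) = 1`, `E(C_M(y)) = 1`. -/

set_option autoImplicit false
open Cfsg Subgroup

namespace Cfsg.Agent.Lib.Helper22.Oc

universe u

/-- OC1. `F*(M) = O_2(M)`, `y² = 1` ⟹ `O(C_M(y)) = 1` and `E(C_M(y)) = 1`. -/
theorem oc1 {M : Type u} [Group M] [Finite M]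
    (hM : generalizedFittingSubgroup M = pCore 2 M) (y : M) (hy : y ^ 2 = 1) :
    oddCore ↥(centralizer ({y} : Set M)) = ⊥ ∧ layer ↥(centralizer ({y} : Set M)) = ⊥ := by
  have : Fact (Nat.Prime 2) := ⟨Nat.prime_two⟩
  have hF : IsPGroup 2 ↥(generalizedFittingSubgroup M) :=
    (Cfsg.Agent.Lib.Helper22.isPGroup_generalizedFitting_iff 2).mpr hM
  have hU : IsPGroup 2 ↥(zpowers y) := by
    intro g
    obtain ⟨g, hg⟩ := g
    obtain ⟨k, rfl⟩ := Subgroup.mem_zpowers_iff.mp hg
    refine ⟨1, ?_⟩
    apply Subtype.ext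
    simp only [pow_one, Subgroup.coe_pow, Subgroup.coe_one]
    rw [← zpow_natCast, ← zpow_mul, mul_comm, zpow_mul, zpow_natCast, hy, one_zpow]
  have hcz : centralizer ((zpowers y : Subgroup M) : Set M) = centralizer ({y} : Set M) := by
    ext x
    rw [Subgroup.mem_centralizer_iff, Subgroup.mem_centralizer_iff]
    constructor
    · intro h z hz
      rw [Set.mem_singleton_iff] at hz
      subst hz
      exact h z (Subgroup.mem_zpowers z)
    · intro h z hz
      obtain ⟨k, rfl⟩ := Subgroup.mem_zpowers_iff.mp hz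
      have hc : Commute y x := h y (Set.mem_singleton y)
      exact (hc.zpow_left k).eq
  have h1 := Cfsg.Agent.Lib.Helper22.isPGroup_generalizedFitting_centralizer 2 hF (zpowers y) hU
  rw [hcz] at h1
  have hC : generalizedFittingSubgroup ↥(centralizer ({y} : Set M)) =
      pCore 2 ↥(centralizer ({y} : Set M)) :=
    (Cfsg.Agent.Lib.Helper22.isPGroup_generalizedFitting_iff 2).mp h1
  have hcent := (Cfsg.Agent.Lib.Helper22.generalizedFitting_eq_pCore_iff 2).mp hC
  have hQp : IsPGroup 2 ↥(pCore 2 ↥(centralizer ({y} : Set M))) :=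
    Cfsg.Agent.Lib.Helper22.pCore_isPGroup' 2 _
  have hQn : (pCore 2 ↥(centralizer ({y} : Set M))).Normal :=
    Cfsg.Agent.Lib.Helper22.pCore_normal' 2 _
  constructor
  · have hOn : (oddCore ↥(centralizer ({y} : Set M))).Normal := inferInstance
    have hcop : (Nat.card ↥(oddCore ↥(centralizer ({y} : Set M)))).Coprime
        (Nat.card ↥(pCore 2 ↥(centralizer ({y} : Set M)))) := by
      obtain ⟨k, hk⟩ := IsPGroup.iff_card.mp hQp
      rw [hk]
      exact Nat.Coprime.pow_right k (Cfsg.Agent.Lib.Helper55.pPrimeCore_card_coprime 2)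
    have hdis : Disjoint (oddCore ↥(centralizer ({y} : Set M)))
        (pCore 2 ↥(centralizer ({y} : Set M))) :=
      Subgroup.disjoint_of_coprime_natCard hcop
    have hle : oddCore ↥(centralizer ({y} : Set M)) ≤
        centralizer (pCore 2 ↥(centralizer ({y} : Set M)) : Set ↥(centralizer ({y} : Set M))) := by
      intro a ha
      rw [Subgroup.mem_centralizer_iff]
      intro z hz
      exact ((Subgroup.commute_of_normal_of_disjoint _ _ hOn hQn hdis a z ha hz).eq).symm
    rw [eq_bot_iff]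
    intro a ha
    exact hdis.le_bot ⟨ha, hcent (hle ha)⟩
  · unfold Cfsg.layer
    rw [eq_bot_iff]
    apply sSup_le
    intro L hL
    exfalso
    have h2 : L ≤ pCore 2 ↥(centralizer ({y} : Set M)) := by
      rw [← hC]
      exact (Cfsg.Agent.Lib.Helper22.component_le_layer hL).trans
        (Cfsg.Agent.Lib.Helper22.layer_le_generalizedFitting _)
    have hnil : Group.IsNilpotent ↥(pCore 2 ↥(centralizer ({y} : Set M))) := hQp.isNilpotent
    have hsolv : Group.IsSolvable ↥(pCore 2 ↥(centralizer ({y} : Set M))) := inferInstance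
    have : Group.IsSolvable ↥L :=
      Group.isSolvable_of_isSolvable_injective (Subgroup.inclusion_injective h2)
    exact Cfsg.Agent.Lib.Helper21.quasisimple_not_solvable hL.2 this

end Cfsg.Agent.Lib.Helper22.Oc
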