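import Mathlib
import Cfsg.Agent.Lib.Helper21.S11Defs

/-! # S3911 hive (S11), leaf S11-SZ: a prime not dividing `|Ab|` does not divide the order of a minimal supplement
with normal Sylow subgroups (Schur–Zassenhaus). -/

set_option autoImplicit false

namespace Cfsg.Agent.Lib.Helper21.S11

variable {G : Type*} [Group G] [Finite G]

/-- S11-SZ. A prime not dividing `|Ab|` does not divide the order of a minimal supplement with normal Sylow subgroups. -/
theorem not_dvd_card_of_isMinSupp (M : Subgroup G) [M.Normal] (Ab : Subgroup (G ⧸ M)) (X : Subgroup G)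
    (hX : IsMinSupp M Ab X)
    (hnorm : ∀ (q : ℕ) [Fact q.Prime] (Q : Sylow q ↥X), (Q : Subgroup ↥X).Normal)
    (q : ℕ) [Fact q.Prime] (hq : ¬ q ∣ Nat.card ↥Ab) : ¬ q ∣ Nat.card ↥X := by
  intro hdvd
  obtain ⟨hXmap, hXmin⟩ := hX
  let Q : Sylow q ↥X := default
  have hQn : (Q : Subgroup ↥X).Normal := hnorm q Q
  have hQne : (Q : Subgroup ↥X) ≠ ⊥ := Sylow.ne_bot_of_dvd_card Q hdvd
  have hcop : Nat.Coprime (Nat.card ↥(Q : Subgroup ↥X)) (Q : Subgroup ↥X).index :=
    Sylow.card_coprime_index Q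
  obtain ⟨K, hK⟩ := Subgroup.exists_right_complement'_of_coprime hcop
  -- every element of `Q` lies in `M`
  have hQM : ∀ g ∈ (Q : Subgroup ↥X), QuotientGroup.mk' M (g : G) = 1 := by
    intro g hg
    have hmem : QuotientGroup.mk' M (g : G) ∈ Ab := by
      rw [← hXmap]
      exact Subgroup.mem_map_of_mem _ g.2
    obtain ⟨k, hk⟩ := (Q.2 : IsPGroup q ↥(Q : Subgroup ↥X)) ⟨g, hg⟩
    have hk' : g ^ q ^ k = 1 := by
      have := congrArg Subtype.val hk
      simpa using this
    have h1 : (QuotientGroup.mk' M (g : G)) ^ q ^ k = 1 := by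
      rw [← map_pow]
      have : ((g : G)) ^ q ^ k = 1 := by
        have := congrArg Subtype.val hk'
        simpa using this
      rw [this, map_one]
    have h2 : orderOf (QuotientGroup.mk' M (g : G)) ∣ q ^ k := orderOf_dvd_of_pow_eq_one h1
    have h3 : orderOf (QuotientGroup.mk' M (g : G)) ∣ Nat.card ↥Ab := by
      have := orderOf_dvd_natCard (⟨QuotientGroup.mk' M (g : G), hmem⟩ : ↥Ab)
      rwa [Subgroup.orderOf_mk] at this
    have hcop2 : Nat.Coprime (q ^ k) (Nat.card ↥Ab) :=
      Nat.Coprime.pow_left k ((Nat.Prime.coprime_iff_not_dvd (Fact.out : q.Prime)).mpr hq)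
    have h4 : orderOf (QuotientGroup.mk' M (g : G)) = 1 :=
      Nat.eq_one_of_dvd_coprimes hcop2 h2 h3
    exact orderOf_eq_one_iff.mp h4
  -- the complement still maps onto `Ab`
  have hYle : K.map X.subtype ≤ X := Subgroup.map_subtype_le K
  have hYmap : (K.map X.subtype).map (QuotientGroup.mk' M) = Ab := by
    apply le_antisymm
    · rw [← hXmap]
      exact Subgroup.map_mono hYle
    · rw [← hXmap]
      rintro _ ⟨x, hx, rfl⟩
      obtain ⟨⟨⟨a, ha⟩, ⟨b, hb⟩⟩, hab⟩ := hK.surjective (⟨x, hx⟩ : ↥X)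
      simp only at hab
      refine ⟨(b : G), Subgroup.mem_map_of_mem _ hb, ?_⟩
      have hx' : x = (a : G) * (b : G) := by
        have := congrArg Subtype.val hab
        simpa using this.symm
      rw [hx', map_mul, hQM a ha, one_mul]
  have hYX : K.map X.subtype = X := hXmin _ hYle hYmap
  have hKtop : K = ⊤ := by
    rw [eq_top_iff]
    intro x _
    have hx : (x : G) ∈ K.map X.subtype := by rw [hYX]; exact x.2
    obtain ⟨k, hk, hkx⟩ := hx
    have : k = x := Subtype.ext hkx
    rwa [this] at hk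
  rw [hKtop] at hK
  exact hQne (Subgroup.isComplement'_top_right.mp hK)

end Cfsg.Agent.Lib.Helper21.S11
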