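import Mathlib
import Cfsg.Agent.Lib.Helper4.LcDefs

set_option autoImplicit false

/-! LC-SHO (Lc hive S0406, owner helper4): 24 odd squares summing to 32: one `±3`, the rest `±1`. -/

namespace Cfsg.Agent.Lib.Helper4.Lc

theorem lcsho_odd_sq (x : ℤ) (hx : ¬ (2 : ℤ) ∣ x) : x ^ 2 = 1 ∨ 9 ≤ x ^ 2 := by
  have h : x ≤ -3 ∨ x = -1 ∨ x = 1 ∨ 3 ≤ x := by omega
  rcases h with h | h | h | h
  · right; nlinarith
  · left; rw [h]; norm_num
  · left; rw [h]; norm_num
  · right; nlinarith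

theorem lcsho_card_le_sum (v : V) (h1 : ∀ i, 1 ≤ v i ^ 2) (s : Finset (Fin 24)) :
    (s.card : ℤ) ≤ ∑ i ∈ s, v i ^ 2 := by
  have := Finset.card_nsmul_le_sum s (fun i => v i ^ 2) 1 (fun i _ => h1 i)
  simpa using this

theorem lcsho_sq_eq_one (x : ℤ) (h : x ^ 2 = 1) : x = 1 ∨ x = -1 := by
  have h2 : (x - 1) * (x + 1) = 0 := by ring_nf; linarith
  rcases mul_eq_zero.1 h2 with h3 | h3
  · left; linarith
  · right; linarith

theorem lcsho_sq_eq_nine (x : ℤ) (h : x ^ 2 = 9) : x = 3 ∨ x = -3 := by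
  have h2 : (x - 3) * (x + 3) = 0 := by ring_nf; linarith
  rcases mul_eq_zero.1 h2 with h3 | h3
  · left; linarith
  · right; linarith

/-- LC-SHO (pure integers) -/
theorem shape_odd (v : V) (hv : AllOdd v) (hs : sq v = 32) :
    ∃ k : Fin 24, (v k = 3 ∨ v k = -3) ∧ ∀ i, i ≠ k → (v i = 1 ∨ v i = -1) := by
  have hodd : ∀ i, v i ^ 2 = 1 ∨ 9 ≤ v i ^ 2 := fun i => lcsho_odd_sq (v i) (hv i)
  have h1 : ∀ i, 1 ≤ v i ^ 2 := fun i => by
    rcases hodd i with h | h <;> omega
  unfold sq at hs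
  -- some coordinate has square at least 9
  have hex : ∃ k, 9 ≤ v k ^ 2 := by
    by_contra hcon
    have hall : ∀ i, v i ^ 2 = 1 := fun i => by
      rcases hodd i with h | h
      · exact h
      · exact absurd ⟨i, h⟩ hcon
    rw [Finset.sum_congr rfl (fun i _ => hall i)] at hs
    simp at hs
  obtain ⟨k, hk⟩ := hex
  have hsplit := Finset.add_sum_erase Finset.univ (fun i => v i ^ 2) (Finset.mem_univ k)
  have hcard : ((Finset.univ.erase k).card : ℤ) = 23 := by
    rw [Finset.card_erase_of_mem (Finset.mem_univ k)]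
    simp
  have hrest := lcsho_card_le_sum v h1 (Finset.univ.erase k)
  have hk9 : v k ^ 2 = 9 := by
    omega
  refine ⟨k, lcsho_sq_eq_nine _ hk9, fun i hi => ?_⟩
  have hmem : i ∈ Finset.univ.erase k := Finset.mem_erase.2 ⟨hi, Finset.mem_univ i⟩
  have hsplit2 := Finset.add_sum_erase (Finset.univ.erase k) (fun i => v i ^ 2) hmem
  have hcard2 : (((Finset.univ.erase k).erase i).card : ℤ) = 22 := by
    rw [Finset.card_erase_of_mem hmem, Finset.card_erase_of_mem (Finset.mem_univ k)]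
    simp
  have hrest2 := lcsho_card_le_sum v h1 ((Finset.univ.erase k).erase i)
  have hi1 : v i ^ 2 = 1 := by
    rcases hodd i with h | h
    · exact h
    · omega
  exact lcsho_sq_eq_one _ hi1

end Cfsg.Agent.Lib.Helper4.Lc
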