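import Mathlib
import Cfsg.Agent.Lib.Helper22.CgDefs
import Cfsg.Agent.Lib.Helper12.PsDefs
import Cfsg.Agent.Lib.Helper34.CgCG6c

/-! # Ps hive (S4321, route B of helper12), leaf PSF: Frattini. -/

set_option autoImplicit false

namespace Cfsg.Agent.Lib.Helper12.Ps

open Subgroup Cfsg.Agent.Lib.Helper22.Cg

universe u

/-- every element of `H ⊔ N` (`N` normal) is a product `c * n`. -/
theorem psf_mem_sup {G : Type u} [Group G] (H N : Subgroup G) [N.Normal] (g : G) (hg : g ∈ H ⊔ N) :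
    ∃ c ∈ H, ∃ n ∈ N, g = c * n := by
  have h1 : g ∈ ((H ⊔ N : Subgroup G) : Set G) := hg
  rw [Subgroup.mul_normal] at h1
  obtain ⟨c, hc, n, hn, rfl⟩ := Set.mem_mul.mp h1
  exact ⟨c, hc, n, hn, rfl⟩

/-- PSF. Frattini: a `p`-element central modulo a normal `p'`-subgroup `N` has class size dividing `|N|`. -/
theorem psF {G : Type u} [Group G] [Finite G] (p : ℕ) [Fact p.Prime] (N : Subgroup G) [N.Normal]
    (hpN : ¬ p ∣ Nat.card N) (b : G) (hb : ∃ n : ℕ, orderOf b = p ^ n)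
    (hcen : ∀ g : G, b⁻¹ * g⁻¹ * b * g ∈ N) : cs b ∣ Nat.card N := by
  obtain ⟨k, hk⟩ := hb
  obtain ⟨B, hB⟩ : ∃ B : Subgroup G, B = zpowers b := ⟨_, rfl⟩
  have hbB : b ∈ B := by rw [hB]; exact mem_zpowers b
  have hBcard : Nat.card ↥B = p ^ k := by rw [hB, Nat.card_zpowers, hk]
  have hBp : IsPGroup p ↥B := IsPGroup.of_card hBcard
  -- `N ⊓ B = ⊥`
  have hdis : Disjoint N B := by
    apply Subgroup.disjoint_of_coprime_natCard
    rw [hBcard]
    exact Nat.Coprime.pow_right k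
      (((Nat.Prime.coprime_iff_not_dvd (Fact.out : p.Prime)).mpr hpN).symm)
  -- conjugates of `b` lie in `B ⊔ N`
  have hconj : ∀ g : G, g * b * g⁻¹ ∈ B ⊔ N := by
    intro g
    have h1 := hcen g⁻¹
    rw [inv_inv] at h1
    have e : g * b * g⁻¹ = b * (b⁻¹ * g * b * g⁻¹) := by group
    rw [e]
    exact (B ⊔ N).mul_mem (le_sup_left (a := B) hbB) (le_sup_right (a := B) h1)
  -- `M = B ⊔ N` is normal
  obtain ⟨M, hM⟩ : ∃ M : Subgroup G, M = B ⊔ N := ⟨_, rfl⟩
  have hBM : B ≤ M := by rw [hM]; exact le_sup_left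
  have hNM : N ≤ M := by rw [hM]; exact le_sup_right
  have hMn : M.Normal := by
    constructor
    intro m hm g
    rw [hM] at hm
    obtain ⟨c, hc, n, hn, rfl⟩ := psf_mem_sup B N m hm
    have e : g * (c * n) * g⁻¹ = (g * c * g⁻¹) * (g * n * g⁻¹) := by group
    rw [e]
    apply M.mul_mem _ (hNM (‹N.Normal›.conj_mem n hn g))
    rw [hB] at hc
    obtain ⟨i, rfl⟩ := mem_zpowers_iff.mp hc
    have e2 : g * b ^ i * g⁻¹ = (g * b * g⁻¹) ^ i := by
      rw [← MulAut.conj_apply, map_zpow, MulAut.conj_apply]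
    rw [e2, hM]
    exact (B ⊔ N).zpow_mem (hconj g) i
  -- `B` is a Sylow `p`-subgroup of `M`
  have hidx : ¬ p ∣ (B.subgroupOf M).index := by
    haveI : (N.subgroupOf M).Normal := Subgroup.normal_subgroupOf
    have hdv : (B.subgroupOf M).index ∣ Nat.card ↥(N.subgroupOf M) := by
      apply cg6c
      intro m
      have hm : (m : G) ∈ B ⊔ N := by rw [← hM]; exact m.2
      obtain ⟨c, hc, n, hn, hmcn⟩ := psf_mem_sup B N (m : G) hm
      refine ⟨⟨c, hBM hc⟩, mem_subgroupOf.mpr hc, ⟨n, hNM hn⟩, mem_subgroupOf.mpr hn, ?_⟩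
      exact Subtype.ext hmcn
    have hcardN : Nat.card ↥(N.subgroupOf M) = Nat.card ↥N :=
      Nat.card_congr (Subgroup.subgroupOfEquivOfLe hNM).toEquiv
    rw [hcardN] at hdv
    intro hp
    exact hpN (hp.trans hdv)
  have hBMp : IsPGroup p ↥(B.subgroupOf M) :=
    hBp.comap_of_injective M.subtype (Subgroup.subtype_injective M)
  let P : Sylow p ↥M := hBMp.toSylow hidx
  have hP : ((P : Subgroup ↥M).map M.subtype) = B := by
    have : (P : Subgroup ↥M) = B.subgroupOf M := rfl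
    rw [this, Subgroup.subgroupOf_map_subtype, inf_eq_left.mpr hBM]
  have hfrat : normalizer (((P : Subgroup ↥M).map M.subtype : Subgroup G) : Set G) ⊔ M = ⊤ :=
    Sylow.normalizer_sup_eq_top P
  rw [hP] at hfrat
  -- `N_G(B) ≤ C_G(b)`
  have hnorm : normalizer (B : Set G) ≤ centralizer ({b} : Set G) := by
    intro g hg
    have h1 : g * b * g⁻¹ ∈ B := (mem_normalizer_iff.mp hg b).mp hbB
    have h2 : b⁻¹ * (g * b * g⁻¹) ∈ B := B.mul_mem (B.inv_mem hbB) h1
    have h3 : b⁻¹ * (g * b * g⁻¹) ∈ N := by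
      have h := hcen g⁻¹
      rw [inv_inv] at h
      have e : b⁻¹ * (g * b * g⁻¹) = b⁻¹ * g * b * g⁻¹ := by group
      rw [e]; exact h
    have h4 : b⁻¹ * (g * b * g⁻¹) = 1 := by
      have : b⁻¹ * (g * b * g⁻¹) ∈ N ⊓ B := ⟨h3, h2⟩
      rw [hdis.eq_bot] at this
      exact mem_bot.mp this
    rw [mem_centralizer_iff]
    intro z hz
    rw [Set.mem_singleton_iff] at hz
    subst hz
    have h5 : g * z * g⁻¹ = z := by
      have := congrArg (fun t => z * t) h4
      simpa using this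
    calc z * g = (g * z * g⁻¹) * g := by rw [h5]
      _ = g * z := by group
  have hBC : B ≤ centralizer ({b} : Set G) := by
    rw [hB, zpowers_le, mem_centralizer_iff]
    intro z hz
    rw [Set.mem_singleton_iff] at hz
    rw [hz]
  -- `C_G(b) ⊔ N = ⊤`
  have htop : centralizer ({b} : Set G) ⊔ N = ⊤ := by
    rw [eq_top_iff, ← hfrat, hM]
    apply sup_le (hnorm.trans le_sup_left)
    exact sup_le (hBC.trans le_sup_left) le_sup_right
  apply cg6c
  intro g
  exact psf_mem_sup _ N g (by rw [htop]; exact mem_top g)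

end Cfsg.Agent.Lib.Helper12.Ps
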