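import Mathlib
import Cfsg.Prelude.Def_ClassicalGeometry
import Cfsg.Agent.Lib.Helper4.NdDefs
import Cfsg.Agent.Lib.Helper43.NdG1

set_option autoImplicit false
open Matrix
open Cfsg.Agent.Lib.Helper99 (Nd dker sympB)

/-! S5956 hive (helper4), leaf ND-D7 `exists_isom_ss`: core, with ND-D6 and ND-G4 as hypotheses (helper34). -/

namespace Cfsg.Agent.Lib.Helper4.NdH

universe u v

variable {F : Type u} [Field F] {V : Type v} [AddCommGroup V] [Module F V]

theorem d7_skew (B : V →ₗ[F] V →ₗ[F] F) (hB : Alt B) (a b : V) : B a b = - B b a := by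
  have h := hB (a + b)
  simp only [map_add, LinearMap.add_apply, hB a, hB b, zero_add, add_zero] at h
  rw [add_comm] at h
  exact eq_neg_of_add_eq_zero_left h

/-- the restriction of a form to a subspace -/
noncomputable def d7_res (B : V →ₗ[F] V →ₗ[F] F) (W : Submodule F V) : W →ₗ[F] W →ₗ[F] F :=
  B.domRestrict₁₂ W W

theorem d7_res_apply (B : V →ₗ[F] V →ₗ[F] F) (W : Submodule F V) (a b : W) :
    d7_res B W a b = B (a : V) (b : V) := rfl

theorem d7_res_alt (B : V →ₗ[F] V →ₗ[F] F) (hB : Alt B) (W : Submodule F V) : Alt (d7_res B W) :=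
  fun v => hB (v : V)

theorem d7_res_nd (B : V →ₗ[F] V →ₗ[F] F) (W : Submodule F V) (hW : Nd B W) :
    Nd (d7_res B W) ⊤ := by
  intro a _ ha
  apply Subtype.ext
  apply hW (a : V) a.2
  intro v hv
  exact ha ⟨v, hv⟩ Submodule.mem_top

/-- gluing two maps along a decomposition -/
noncomputable def d7_glue (X X' : Submodule F V) (hc : IsCompl X X') (y₁ : X →ₗ[F] X)
    (y₂ : X' →ₗ[F] X') : V →ₗ[F] V :=
  LinearMap.ofIsCompl hc (X.subtype ∘ₗ y₁) (X'.subtype ∘ₗ y₂)

theorem d7_glue_apply (X X' : Submodule F V) (hc : IsCompl X X') (y₁ : X →ₗ[F] X)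
    (y₂ : X' →ₗ[F] X') (a : X) (b : X') :
    d7_glue X X' hc y₁ y₂ ((a : V) + (b : V)) = (y₁ a : V) + (y₂ b : V) := by
  unfold d7_glue
  rw [map_add, LinearMap.ofIsCompl_apply_left, LinearMap.ofIsCompl_apply_right]
  rfl

theorem d7_exists_decomp (X X' : Submodule F V) (hc : IsCompl X X') (v : V) :
    ∃ (a : X) (b : X'), v = (a : V) + (b : V) := by
  have hv : v ∈ X ⊔ X' := by
    rw [hc.sup_eq_top]
    exact Submodule.mem_top
  obtain ⟨a, ha, b, hb, rfl⟩ := Submodule.mem_sup.mp hv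
  exact ⟨⟨a, ha⟩, ⟨b, hb⟩, rfl⟩

theorem d7_decomp_unique (X X' : Submodule F V) (hc : IsCompl X X') (a a' : X) (b b' : X')
    (h : (a : V) + (b : V) = (a' : V) + (b' : V)) : a = a' ∧ b = b' := by
  have h1 : (a : V) - (a' : V) = (b' : V) - (b : V) := by
    rw [sub_eq_sub_iff_add_eq_add, h, add_comm]
  have h2 : (a : V) - (a' : V) ∈ X ⊓ X' := by
    refine Submodule.mem_inf.mpr ⟨X.sub_mem a.2 a'.2, ?_⟩
    rw [h1]
    exact X'.sub_mem b'.2 b.2
  rw [hc.inf_eq_bot, Submodule.mem_bot] at h2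
  have h3 : (b' : V) - (b : V) = 0 := by rw [← h1, h2]
  exact ⟨Subtype.ext (sub_eq_zero.mp h2), Subtype.ext (sub_eq_zero.mp h3).symm⟩

theorem d7_glue_pow (X X' : Submodule F V) (hc : IsCompl X X') (y₁ : X →ₗ[F] X)
    (y₂ : X' →ₗ[F] X') (k : ℕ) (a : X) (b : X') :
    ((d7_glue X X' hc y₁ y₂ : Module.End F V) ^ k) ((a : V) + (b : V)) =
      (((y₁ : Module.End F X) ^ k) a : V) + (((y₂ : Module.End F X') ^ k) b : V) := by
  induction k generalizing a b with
  | zero => simp
  | succ k ih =>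
    rw [pow_succ, Module.End.mul_apply, d7_glue_apply, ih, pow_succ, pow_succ,
      Module.End.mul_apply, Module.End.mul_apply]

theorem d7_glue_isom (B : V →ₗ[F] V →ₗ[F] F) (hB : Alt B) (X : Submodule F V)
    (hc : IsCompl X (orth B X)) (y₁ : X →ₗ[F] X) (y₂ : orth B X →ₗ[F] orth B X)
    (h₁ : Isom (d7_res B X) y₁) (h₂ : Isom (d7_res B (orth B X)) y₂) :
    Isom B (d7_glue X (orth B X) hc y₁ y₂) := by
  intro v w
  obtain ⟨a, b, rfl⟩ := d7_exists_decomp X (orth B X) hc v
  obtain ⟨a', b', rfl⟩ := d7_exists_decomp X (orth B X) hc w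
  rw [d7_glue_apply, d7_glue_apply]
  have hperp : ∀ (x : X) (z : orth B X), B (x : V) (z : V) = 0 := fun x z => z.2 x x.2
  have hperp' : ∀ (x : X) (z : orth B X), B (z : V) (x : V) = 0 := by
    intro x z
    rw [d7_skew B hB, hperp, neg_zero]
  simp only [map_add, LinearMap.add_apply, hperp, hperp', add_zero, zero_add]
  have e1 := h₁ a a'
  have e2 := h₂ b b'
  rw [d7_res_apply, d7_res_apply] at e1 e2
  rw [e1, e2]

theorem d7_glue_ker (X X' : Submodule F V) (hc : IsCompl X X') (y₁ : X →ₗ[F] X)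
    (y₂ : X' →ₗ[F] X') (hfix : ∀ a : X, y₁ a = a → a = 0) :
    LinearMap.ker (d7_glue X X' hc y₁ y₂ - 1) =
      (LinearMap.ker (y₂ - 1)).map X'.subtype := by
  ext v
  rw [LinearMap.mem_ker, LinearMap.sub_apply, Module.End.one_apply, sub_eq_zero,
    Submodule.mem_map]
  obtain ⟨a, b, rfl⟩ := d7_exists_decomp X X' hc v
  rw [d7_glue_apply]
  constructor
  · intro h
    obtain ⟨h1, h2⟩ := d7_decomp_unique X X' hc (y₁ a) a (y₂ b) b h
    have ha : a = 0 := hfix a h1
    refine ⟨b, ?_, ?_⟩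
    · rw [LinearMap.mem_ker, LinearMap.sub_apply, Module.End.one_apply, h2, sub_self]
    · rw [ha]
      simp
  · rintro ⟨b', hb', hb'v⟩
    rw [LinearMap.mem_ker, LinearMap.sub_apply, Module.End.one_apply, sub_eq_zero] at hb'
    have h0 : ((0 : X) : V) + (b' : V) = (a : V) + (b : V) := by
      rw [← hb'v]
      simp
    obtain ⟨h1, h2⟩ := d7_decomp_unique X X' hc 0 a b' b h0
    rw [← h1, ← h2, hb', map_zero]

theorem d7_cOf_pos [Fintype F] (p : ℕ) [Fact p.Prime] [CharP F p] (r : ℕ) [Fact r.Prime]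
    (hrp : r ≠ p) : 0 < cOf (orderOf ((Fintype.card F : ℕ) : ZMod r)) := by
  have hrpr : r.Prime := Fact.out
  have hppr : p.Prime := Fact.out
  obtain ⟨f, _, hf⟩ := FiniteField.card F p
  have hcop : Nat.Coprime (Fintype.card F) r := by
    rw [hf]
    apply Nat.Coprime.pow_left
    exact (Nat.coprime_primes hppr hrpr).mpr (Ne.symm hrp)
  have h1 : ((Fintype.card F : ℕ) : ZMod r) ^ Nat.totient r = 1 := by
    have := Nat.ModEq.pow_totient hcop
    have h2 := (ZMod.natCast_eq_natCast_iff _ _ r).mpr this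
    push_cast at h2
    exact h2
  have hpos : 0 < orderOf ((Fintype.card F : ℕ) : ZMod r) := by
    apply orderOf_pos_iff.mpr
    rw [isOfFinOrder_iff_pow_eq_one]
    exact ⟨Nat.totient r, Nat.totient_pos.mpr hrpr.pos, h1⟩
  unfold cOf
  split_ifs <;> omega

theorem d7_cOf_even (i : ℕ) : Even (cOf i) := by
  unfold cOf
  split_ifs with h
  · exact h
  · exact even_two_mul i

theorem d7_main [Fintype F] (p : ℕ) [Fact p.Prime] [CharP F p] (r : ℕ) [Fact r.Prime]
    (hrp : r ≠ p)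
    (hD6 : ∀ (V' : Type v) [AddCommGroup V'] [Module F V'] [FiniteDimensional F V']
      (B' : V' →ₗ[F] V' →ₗ[F] F), Alt B' → Nd B' ⊤ →
      Module.finrank F V' = cOf (orderOf ((Fintype.card F : ℕ) : ZMod r)) →
      ∃ y : V' →ₗ[F] V', Isom B' y ∧ (y : Module.End F V') ^ r = 1 ∧ ∀ v, y v = v → v = 0)
    (hG4 : ∀ (V' : Type v) [AddCommGroup V'] [Module F V'] [FiniteDimensional F V']
      (B' : V' →ₗ[F] V' →ₗ[F] F), Alt B' → ∀ X : Submodule F V', Nd B' X → ∀ m : ℕ, Even m →
      m ≤ Module.finrank F X → ∃ W : Submodule F V', W ≤ X ∧ Module.finrank F W = m ∧ Nd B' W) :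
    ∀ (n : ℕ) (V : Type v) [AddCommGroup V] [Module F V] [FiniteDimensional F V]
      (B : V →ₗ[F] V →ₗ[F] F), Alt B → Nd B ⊤ → Module.finrank F V = n →
      ∃ y : V →ₗ[F] V, Isom B y ∧ (y : Module.End F V) ^ r = 1 ∧
        (cOf (orderOf ((Fintype.card F : ℕ) : ZMod r)) ≤ Module.finrank F V → y ≠ 1) ∧
        Module.finrank F (LinearMap.ker (y - 1)) =
          Module.finrank F V % cOf (orderOf ((Fintype.card F : ℕ) : ZMod r)) := by
  set c := cOf (orderOf ((Fintype.card F : ℕ) : ZMod r)) with hc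
  have hcpos : 0 < c := d7_cOf_pos p r hrp
  have hceven : Even c := d7_cOf_even _
  intro n
  induction n using Nat.strong_induction_on with
  | _ n ih =>
    intro V _ _ _ B hB hV hn
    by_cases hlt : Module.finrank F V < c
    · refine ⟨1, fun _ _ => rfl, one_pow r, fun h => absurd h (not_le.mpr hlt), ?_⟩
      rw [sub_self, LinearMap.ker_zero, finrank_top, Nat.mod_eq_of_lt hlt]
    · have hle : c ≤ Module.finrank F V := not_lt.mp hlt
      obtain ⟨W, -, hWdim, hWnd⟩ := hG4 V B hB ⊤ hV c hceven (by rw [finrank_top]; exact hle)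
      have hcompl : IsCompl W (orth B W) := isCompl_orth B hB W hWnd
      have hX'nd : Nd B (orth B W) := nd_orth B hB hV W hWnd
      have hdimX' : Module.finrank F (orth B W) = Module.finrank F V - c := by
        have h := Submodule.finrank_add_eq_of_isCompl hcompl
        rw [hWdim] at h
        omega
      obtain ⟨y₁, hy₁, hy₁r, hy₁fix⟩ := hD6 W (d7_res B W) (d7_res_alt B hB W)
        (d7_res_nd B W hWnd) hWdim
      obtain ⟨y₂, hy₂, hy₂r, -, hy₂ker⟩ := ih (Module.finrank F V - c) (by omega) (orth B W)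
        (d7_res B (orth B W)) (d7_res_alt B hB _) (d7_res_nd B _ hX'nd) hdimX'
      refine ⟨d7_glue W (orth B W) hcompl y₁ y₂, d7_glue_isom B hB W hcompl y₁ y₂ hy₁ hy₂,
        ?_, ?_, ?_⟩
      · apply LinearMap.ext
        intro v
        obtain ⟨a, b, rfl⟩ := d7_exists_decomp W (orth B W) hcompl v
        rw [d7_glue_pow, hy₁r, hy₂r]
        rfl
      · intro _ h1
        have hWne : W ≠ ⊥ := by
          intro h0
          rw [h0, finrank_bot] at hWdim
          omega
        obtain ⟨w, hw, hw0⟩ := Submodule.exists_mem_ne_zero_of_ne_bot hWne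
        have h2 := d7_glue_apply W (orth B W) hcompl y₁ y₂ ⟨w, hw⟩ 0
        rw [h1] at h2
        simp only [Submodule.coe_zero, add_zero, Module.End.one_apply, map_zero] at h2
        have h3 : y₁ ⟨w, hw⟩ = ⟨w, hw⟩ := Subtype.ext h2.symm
        have h4 := hy₁fix _ h3
        exact hw0 (congrArg Subtype.val h4)
      · rw [d7_glue_ker W (orth B W) hcompl y₁ y₂ hy₁fix,
          Submodule.finrank_map_subtype_eq, hy₂ker, hdimX']
        have h5 : Module.finrank F V = (Module.finrank F V - c) + c := by omega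
        nth_rewrite 2 [h5]
        rw [Nat.add_mod_right]

end Cfsg.Agent.Lib.Helper4.NdH
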