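import Mathlib
import Cfsg.Prelude.Def_ClassicalGeometry
import Cfsg.Agent.Lib.Helper4.NdDefs
import Cfsg.Agent.Lib.Helper43.NdG1
import Cfsg.Agent.Lib.Helper82.NdA1
import Cfsg.Agent.Lib.Helper34.NdD7Core

set_option autoImplicit false
open Matrix
open Cfsg.Agent.Lib.Helper99 (Nd dker sympB)

/-! S5956 hive (helper4), leaf ND-A2 `exists_pieces`: core, with ND-G2 as a hypothesis (helper34). -/

namespace Cfsg.Agent.Lib.Helper4.NdH

universe u v

variable {F : Type u} [Field F] {V : Type v} [AddCommGroup V] [Module F V]

theorem a2_restrict_pow (f : Module.End F V) (X : Submodule F V) (hX : ∀ x ∈ X, f x ∈ X) (k : ℕ)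
    (x : X) : ((((f.restrict hX : Module.End F X) - 1) ^ k) x : V) = ((f - 1) ^ k) (x : V) := by
  induction k generalizing x with
  | zero => simp
  | succ k ih =>
    rw [pow_succ, pow_succ, Module.End.mul_apply, Module.End.mul_apply, ih]
    congr 1

/-- relative version of ND-A1 -/
theorem a2_split [FiniteDimensional F V] (h2 : (2 : F) ≠ 0) (B : V →ₗ[F] V →ₗ[F] F)
    (hB : Alt B) (u : V →ₗ[F] V) (hu : Isom B u) (K : ℕ)
    (hK : (u - 1 : Module.End F V) ^ K = 0) (X : Submodule F V) (hX : Inv u X) (hXnd : Nd B X)
    (hXne : X ≠ ⊥) :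
    ∃ (U : Submodule F V) (e : ℕ), U ≤ X ∧ 0 < e ∧ e ≤ K ∧ U ≠ ⊥ ∧ Inv u U ∧ Nd B U ∧
      ∀ k, Module.finrank F ↥(U ⊓ LinearMap.ker ((u - 1 : Module.End F V) ^ k)) =
        if Even e then min e k else 2 * min e k := by
  have hX' : ∀ x ∈ X, u x ∈ X := hX
  set u' : X →ₗ[F] X := u.restrict hX' with hu'
  have hu'iso : Isom (d7_res B X) u' := by
    intro a b
    rw [d7_res_apply, d7_res_apply]
    exact hu (a : V) (b : V)
  have hK' : (u' - 1 : Module.End F X) ^ K = 0 := by
    apply LinearMap.ext
    intro x
    apply Subtype.ext
    rw [a2_restrict_pow u X hX' K x, hK]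
    rfl
  have hne : Nontrivial X := (Submodule.nontrivial_iff_ne_bot).mpr hXne
  obtain ⟨U', e, he0, heK, hU'ne, hU'inv, hU'nd, hU'ker⟩ :=
    exists_split h2 (d7_res B X) (d7_res_alt B hB X) (d7_res_nd B X hXnd) u' hu'iso K hK' hne
  refine ⟨U'.map X.subtype, e, Submodule.map_subtype_le X U', he0, heK, ?_, ?_, ?_, ?_⟩
  · intro h0
    apply hU'ne
    rw [eq_bot_iff]
    intro x hx
    have h1 : (x : V) ∈ U'.map X.subtype := Submodule.mem_map.mpr ⟨x, hx, rfl⟩
    rw [h0, Submodule.mem_bot] at h1
    rw [Submodule.mem_bot]
    exact Subtype.ext h1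
  · intro v hv
    obtain ⟨x, hx, rfl⟩ := Submodule.mem_map.mp hv
    exact Submodule.mem_map.mpr ⟨u' x, hU'inv x hx, rfl⟩
  · intro v hv hv0
    obtain ⟨x, hx, rfl⟩ := Submodule.mem_map.mp hv
    have h1 : x = 0 := by
      apply hU'nd x hx
      intro x' hx'
      rw [d7_res_apply]
      exact hv0 (x' : V) (Submodule.mem_map.mpr ⟨x', hx', rfl⟩)
    rw [h1]
    rfl
  · intro k
    have hset : U'.map X.subtype ⊓ LinearMap.ker ((u - 1 : Module.End F V) ^ k) =
        (U' ⊓ LinearMap.ker ((u' - 1 : Module.End F X) ^ k)).map X.subtype := by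
      ext v
      constructor
      · rintro ⟨hv1, hv2⟩
        obtain ⟨x, hx, rfl⟩ := Submodule.mem_map.mp hv1
        refine Submodule.mem_map.mpr ⟨x, ⟨hx, ?_⟩, rfl⟩
        rw [SetLike.mem_coe, LinearMap.mem_ker]
        apply Subtype.ext
        rw [a2_restrict_pow u X hX' k x]
        exact LinearMap.mem_ker.mp hv2
      · intro hv
        obtain ⟨x, ⟨hx1, hx2⟩, rfl⟩ := Submodule.mem_map.mp hv
        refine ⟨Submodule.mem_map.mpr ⟨x, hx1, rfl⟩, ?_⟩
        rw [SetLike.mem_coe, LinearMap.mem_ker]
        have := congrArg Subtype.val (LinearMap.mem_ker.mp hx2)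
        rw [a2_restrict_pow u X hX' k x] at this
        exact this
    rw [hset, Submodule.finrank_map_subtype_eq]
    exact hU'ker k

theorem a2_core [FiniteDimensional F V] (h2 : (2 : F) ≠ 0) (B : V →ₗ[F] V →ₗ[F] F)
    (hB : Alt B) (u : V →ₗ[F] V) (hu : Isom B u) (K : ℕ)
    (hK : (u - 1 : Module.End F V) ^ K = 0)
    (hG2 : ∀ W : Submodule F V, Inv u W → Inv u (orth B W)) :
    ∀ (n : ℕ) (X : Submodule F V), Module.finrank F X = n → Inv u X → Nd B X →
      ∃ (t : ℕ) (P : Fin t → Submodule F V) (e : Fin t → ℕ), iSupIndep P ∧ iSup P = X ∧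
        (∀ j j', j ≠ j' → Perp B (P j) (P j')) ∧ (∀ j, Inv u (P j)) ∧ (∀ j, 0 < e j) ∧
        (∀ j k, Module.finrank F ↥(P j ⊓ LinearMap.ker ((u - 1 : Module.End F V) ^ k)) =
          if Even (e j) then min (e j) k else 2 * min (e j) k) ∧ ∀ j, e j ≤ K := by
  intro n
  induction n using Nat.strong_induction_on with
  | _ n ih =>
    intro X hn hXinv hXnd
    by_cases hX0 : X = ⊥
    · refine ⟨0, Fin.elim0, Fin.elim0, ?_, ?_, ?_, ?_, ?_, ?_, ?_⟩
      · exact iSupIndep_def.mpr (fun i => i.elim0)
      · rw [hX0, iSup_of_empty]
      · exact fun j => j.elim0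
      · exact fun j => j.elim0
      · exact fun j => j.elim0
      · exact fun j => j.elim0
      · exact fun j => j.elim0
    · obtain ⟨U, e0, hUX, he0, heK, hUne, hUinv, hUnd, hUker⟩ :=
        a2_split h2 B hB u hu K hK X hXinv hXnd hX0
      have hcompl : IsCompl U (orth B U) := isCompl_orth B hB U hUnd
      set X1 := X ⊓ orth B U with hX1
      have hsup : U ⊔ X1 = X := by
        have h := sup_inf_assoc_of_le (orth B U) hUX
        rw [hcompl.sup_eq_top, top_inf_eq] at h
        rw [hX1, inf_comm]
        exact h.symm
      have hdisj : Disjoint U X1 := by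
        rw [disjoint_iff]
        apply le_bot_iff.mp
        calc U ⊓ X1 ≤ U ⊓ orth B U := inf_le_inf_left _ inf_le_right
          _ = ⊥ := hcompl.inf_eq_bot
      have hdim : Module.finrank F X = Module.finrank F U + Module.finrank F X1 := by
        have h := Submodule.finrank_sup_add_finrank_inf_eq U X1
        rw [hsup, disjoint_iff.mp hdisj, finrank_bot, add_zero] at h
        exact h
      have hUpos : 0 < Module.finrank F U := by
        rw [Module.finrank_pos_iff]
        exact (Submodule.nontrivial_iff_ne_bot).mpr hUne
      have hX1inv : Inv u X1 := by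
        intro w hw
        exact ⟨hXinv w hw.1, hG2 U hUinv w hw.2⟩
      have hX1nd : Nd B X1 := by
        intro v hv hv0
        apply hXnd v hv.1
        intro x hx
        rw [← hsup] at hx
        obtain ⟨a, ha, b, hb, rfl⟩ := Submodule.mem_sup.mp hx
        rw [map_add, hv0 b hb, add_zero, d7_skew B hB, hv.2 a ha, neg_zero]
      obtain ⟨t', P', e', hind, hsupP, hperp, hinv, hpos, hker, hle⟩ :=
        ih (Module.finrank F X1) (by omega) X1 rfl hX1inv hX1nd
      have hP'le : ∀ j, P' j ≤ X1 := fun j => hsupP ▸ le_iSup P' j
      refine ⟨t' + 1, Fin.cons U P', Fin.cons e0 e', ?_, ?_, ?_, ?_, ?_, ?_, ?_⟩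
      · rw [iSupIndep_def]
        intro i
        induction i using Fin.cases with
        | zero =>
          rw [Fin.cons_zero]
          apply hdisj.mono_right
          apply iSup₂_le
          intro j hj
          induction j using Fin.cases with
          | zero => exact absurd rfl hj
          | succ j =>
            rw [Fin.cons_succ]
            exact hP'le j
        | succ j =>
          rw [Fin.cons_succ]
          have h1 : (⨆ (k : Fin (t' + 1)) (_ : k ≠ j.succ), (Fin.cons U P' : Fin (t' + 1) → _) k) ≤
              (⨆ (k : Fin t') (_ : k ≠ j), P' k) ⊔ U := by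
            apply iSup₂_le
            intro k hk
            induction k using Fin.cases with
            | zero =>
              rw [Fin.cons_zero]
              exact le_sup_right
            | succ k =>
              rw [Fin.cons_succ]
              have hkj : k ≠ j := fun h => hk (by rw [h])
              exact le_sup_of_le_left (le_iSup₂_of_le k hkj le_rfl)
          apply Disjoint.mono_right h1
          have h2 : Disjoint (P' j) (⨆ (k : Fin t') (_ : k ≠ j), P' k) := iSupIndep_def.mp hind j
          apply h2.disjoint_sup_right_of_disjoint_sup_left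
          apply hdisj.symm.mono_left
          apply sup_le (hP'le j)
          apply iSup₂_le
          intro k _
          exact hP'le k
      · apply le_antisymm
        · apply iSup_le
          intro j
          induction j using Fin.cases with
          | zero =>
            rw [Fin.cons_zero]
            exact hUX
          | succ j =>
            rw [Fin.cons_succ]
            exact (hP'le j).trans inf_le_left
        · rw [← hsup]
          apply sup_le
          · exact le_iSup_of_le 0 (by rw [Fin.cons_zero])
          · rw [← hsupP]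
            apply iSup_le
            intro j
            exact le_iSup_of_le j.succ (by rw [Fin.cons_succ])
      · intro j j' hjj'
        induction j using Fin.cases with
        | zero =>
          induction j' using Fin.cases with
          | zero => exact absurd rfl hjj'
          | succ j' =>
            rw [Fin.cons_zero, Fin.cons_succ]
            intro x hx y hy
            exact (hP'le j' hy).2 x hx
        | succ j =>
          induction j' using Fin.cases with
          | zero =>
            rw [Fin.cons_zero, Fin.cons_succ]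
            intro x hx y hy
            rw [d7_skew B hB, (hP'le j hx).2 y hy, neg_zero]
          | succ j' =>
            rw [Fin.cons_succ, Fin.cons_succ]
            exact hperp j j' (fun h => hjj' (by rw [h]))
      · intro j
        induction j using Fin.cases with
        | zero => rw [Fin.cons_zero]; exact hUinv
        | succ j => rw [Fin.cons_succ]; exact hinv j
      · intro j
        induction j using Fin.cases with
        | zero => rw [Fin.cons_zero]; exact he0
        | succ j => rw [Fin.cons_succ]; exact hpos j
      · intro j k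
        induction j using Fin.cases with
        | zero => rw [Fin.cons_zero, Fin.cons_zero]; exact hUker k
        | succ j => rw [Fin.cons_succ, Fin.cons_succ]; exact hker j k
      · intro j
        induction j using Fin.cases with
        | zero => rw [Fin.cons_zero]; exact heK
        | succ j => rw [Fin.cons_succ]; exact hle j

end Cfsg.Agent.Lib.Helper4.NdH
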