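import Mathlib
import Cfsg.Prelude.Def_ClassicalGeometry
import Cfsg.Agent.Lib.Helper4.NdDefs
import Cfsg.Agent.Lib.Helper34.NdA2Core

set_option autoImplicit false
open Matrix
open Cfsg.Agent.Lib.Helper99 (Nd dker sympB)

/-! S5956 hive (helper4), leaf ND-A2 `exists_pieces` (helper34). -/

namespace Cfsg.Agent.Lib.Helper4.NdH

universe u v

variable {F : Type u} [Field F] {V : Type v} [AddCommGroup V] [Module F V]

/-- own copy of ND-G2 (so that ND-A2 does not wait for it) -/
theorem a2_inv_orth [FiniteDimensional F V] (B : V →ₗ[F] V →ₗ[F] F) (hV : Nd B ⊤)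
    (g : V →ₗ[F] V) (hg : Isom B g) (W : Submodule F V) (hW : Inv g W) : Inv g (orth B W) := by
  have hinj : Function.Injective g := by
    rw [← LinearMap.ker_eq_bot, LinearMap.ker_eq_bot']
    intro v hv
    apply hV v Submodule.mem_top
    intro w _
    rw [← hg v w, hv, map_zero, LinearMap.zero_apply]
  have hW' : ∀ x ∈ W, g x ∈ W := hW
  have hinj' : Function.Injective (g.restrict hW') := by
    intro a b hab
    apply Subtype.ext
    apply hinj
    exact congrArg Subtype.val hab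
  have hsurj : Function.Surjective (g.restrict hW') := LinearMap.injective_iff_surjective.mp hinj'
  intro v hv w hw
  obtain ⟨w', hw'⟩ := hsurj ⟨w, hw⟩
  have h1 : g (w' : V) = w := congrArg Subtype.val hw'
  rw [← h1, hg]
  exact hv (w' : V) w'.2

theorem exists_pieces [FiniteDimensional F V] (h2 : (2 : F) ≠ 0) (B : V →ₗ[F] V →ₗ[F] F)
    (hB : Alt B) (hV : Nd B ⊤) (u : V →ₗ[F] V) (hu : Isom B u) (K : ℕ)
    (hK : (u - 1 : Module.End F V) ^ K = 0) :
    ∃ (t : ℕ) (P : Fin t → Submodule F V) (e : Fin t → ℕ), Pieces B u t P e ∧ ∀ j, e j ≤ K := by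
  obtain ⟨t, P, e, h1, h2', h3, h4, h5, h6, h7⟩ :=
    a2_core h2 B hB u hu K hK (fun W hW => a2_inv_orth B hV u hu W hW) _ ⊤ rfl
      (fun _ _ => Submodule.mem_top) hV
  exact ⟨t, P, e, ⟨h1, h2', h3, h4, h5, h6⟩, h7⟩

end Cfsg.Agent.Lib.Helper4.NdH
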