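import Cfsg.Agent.Lib.Helper48.FH_B1
import Cfsg.Agent.Lib.Helper39.FH_B2

/-! # Feit–Higman project (helper6's hive), leaf FH-B5 (helper34): the fixed space of `B` in an irreducible
representation is an irreducible module for the Hecke operators of the distinguished generators -/

set_option autoImplicit false

namespace Cfsg.Agent.Lib.Helper6.FH

open Cfsg Cfsg.Agent.Lib.Helper6 Cfsg.Agent.Lib.Helper6.St Cfsg.Agent.S0320 Cfsg.Agent.Lib.Helper6.Exch

section B
variable {G : Type*} [Group G] [Fintype G] (P : Cfsg.BNPair G)

section rep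
variable {V : Type*} [AddCommGroup V] [Module ℂ V] (ρ : Representation ℂ G V)

/-- `hop 1` fixes its range pointwise -/
theorem b5_hop_one_apply {x : V} (hx : x ∈ LinearMap.range (hop P ρ 1)) : hop P ρ 1 x = x := by
  obtain ⟨y, rfl⟩ := hx
  exact LinearMap.congr_fun (hop_one_mul P ρ (1 : Wg P)) y

/-- a subspace of the range of `hop 1` invariant under the generators is invariant under every `hop w` -/
theorem b5_hop_mem (U : Submodule ℂ V) (hU : U ≤ LinearMap.range (hop P ρ 1))
    (hinv : ∀ s : P.S, ∀ x ∈ U, hop P ρ (sig P s) x ∈ U) (w : Wg P) : ∀ x ∈ U, hop P ρ w x ∈ U := by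
  have hword : ∀ L : List P.S, IsRed (sig P) L → ∀ x ∈ U, hop P ρ (wp (sig P) L) x ∈ U := by
    intro L
    induction L with
    | nil =>
      intro _ x hx
      rw [wp_nil, b5_hop_one_apply P ρ (hU hx)]
      exact hx
    | cons i L ih =>
      intro hL x hx
      have hL' : IsRed (sig P) L := IsRed.tail hL
      have h1 : ell (sig P) (wp (sig P) L) = L.length := IsRed.ell_eq hL'
      have h2 : ell (sig P) (wp (sig P) (i :: L)) = (i :: L).length := IsRed.ell_eq hL
      rw [wp_cons] at h2 ⊢
      have hlt : ell (sig P) (wp (sig P) L) < ell (sig P) (sig P i * wp (sig P) L) := by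
        rw [h1, h2, List.length_cons]
        exact Nat.lt_succ_self _
      rw [← hop_sig_mul P ρ i _ hlt]
      exact hinv i _ (ih hL' x hx)
  intro x hx
  obtain ⟨L, hL, hw, -⟩ := exists_isRed_eq (exSys_sig P) w
  rw [← hw]
  exact hword L hL x hx

/-! ### FH-B5 (irreducibility of the fixed space under the Hecke operators) -/
theorem hop_simple (hρ : ρ.IsIrreducible) (U : Submodule ℂ V) (hU : U ≤ LinearMap.range (hop P ρ 1))
    (hinv : ∀ s : P.S, ∀ x ∈ U, hop P ρ (sig P s) x ∈ U) :
    U = ⊥ ∨ U = LinearMap.range (hop P ρ 1) := by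
  have hall := b5_hop_mem P ρ U hU hinv
  by_cases hbot : U = ⊥
  · exact Or.inl hbot
  right
  -- the subrepresentation of all `v` with `e (ρ g v) ∈ U` for all `g`
  let M : Subrepresentation ρ :=
    { toSubmodule :=
        { carrier := {v | ∀ g : G, hop P ρ 1 (ρ g v) ∈ U}
          add_mem' := by
            intro a b ha hb g
            rw [map_add, map_add]
            exact U.add_mem (ha g) (hb g)
          zero_mem' := by
            intro g
            rw [map_zero, map_zero]
            exact U.zero_mem
          smul_mem' := by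
            intro c a ha g
            rw [map_smul, map_smul]
            exact U.smul_mem c (ha g) }
      apply_mem_toSubmodule := by
        intro h v hv g
        have : ρ g (ρ h v) = ρ (g * h) v := by
          rw [map_mul]
          rfl
        rw [this]
        exact hv (g * h) }
  have hUM : ∀ x ∈ U, x ∈ M.toSubmodule := by
    intro x hx g
    obtain ⟨w, hw, -⟩ := exists_unique_Cw P g
    have hs := hop_sandwich P ρ hw
    have hx1 : hop P ρ 1 x = x := b5_hop_one_apply P ρ (hU hx)
    have h1 : hop P ρ 1 (ρ g x) = (hop P ρ 1 * ρ g * hop P ρ 1) x := by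
      show hop P ρ 1 (ρ g x) = hop P ρ 1 (ρ g (hop P ρ 1 x))
      rw [hx1]
    rw [h1, hs, LinearMap.smul_apply]
    exact U.smul_mem _ (hall w x hx)
  have hMtop : M = ⊤ := by
    rcases hρ.eq_bot_or_eq_top M with h | h
    · exfalso
      apply hbot
      rw [eq_bot_iff]
      intro x hx
      have h2 : x ∈ M.toSubmodule := hUM x hx
      rw [h] at h2
      exact h2
    · exact h
  apply le_antisymm hU
  intro y hy
  have h1 : y ∈ M.toSubmodule := by
    rw [hMtop]
    exact Submodule.mem_top
  have h2 := h1 1
  rw [map_one] at h2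
  have h3 : hop P ρ 1 ((1 : Module.End ℂ V) y) = y := b5_hop_one_apply P ρ hy
  rw [h3] at h2
  exact h2

end rep

end B

end Cfsg.Agent.Lib.Helper6.FH
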