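import Cfsg.Agent.Lib.Helper6.FH.BDefs
import Cfsg.Agent.Lib.Helper80.Conv

/-! # Feit–Higman project (helper6's hive), leaf FH-B7 (helper34): orthogonality of the cell sums of
irreducible characters -/

set_option autoImplicit false

namespace Cfsg.Agent.Lib.Helper6.FH

open Cfsg Cfsg.Agent.Lib.Helper6 Cfsg.Agent.Lib.Helper6.St Cfsg.Agent.S0320 Cfsg.Agent.Lib.Helper6.Exch

section B
variable {G : Type*} [Group G] [Fintype G] (P : Cfsg.BNPair G)

open Classical in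
/-- a sum over `G` split along the Bruhat cells -/
theorem b7_sum_cells [Fintype (Wg P)] (f : G → ℂ) :
    ∑ g : G, f g = ∑ w : Wg P, ∑ g : G, if g ∈ Cw P w then f g else 0 := by
  rw [Finset.sum_comm]
  refine Finset.sum_congr rfl fun g _ => ?_
  obtain ⟨w, hw, huniq⟩ := exists_unique_Cw P g
  rw [Finset.sum_eq_single w]
  · rw [if_pos hw]
  · intro w' _ hne
    rw [if_neg]
    intro h
    exact hne (huniq w' h)
  · intro h
    exact absurd (Finset.mem_univ _) h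

open Classical in
/-- `Φ(u) = ∑_{b ∈ B} ψ (u⁻¹ b)` -/
noncomputable def b7_Phi (ψ : G → ℂ) (u : G) : ℂ := ∑ b : G, if b ∈ P.B then ψ (u⁻¹ * b) else 0

open Classical in
theorem b7_Phi_const (ψ : G → ℂ) (hψ : ∀ x y, ψ (x * y) = ψ (y * x)) (u : G) {b₁ b₂ : G}
    (h₁ : b₁ ∈ P.B) (h₂ : b₂ ∈ P.B) : b7_Phi P ψ (b₁ * u * b₂) = b7_Phi P ψ u := by
  unfold b7_Phi
  let e : G ≃ G := ⟨fun b => b₁⁻¹ * b * b₂⁻¹, fun b => b₁ * b * b₂, fun b => by group, fun b => by group⟩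
  refine Fintype.sum_equiv e _ _ ?_
  intro b
  show (if b ∈ P.B then ψ ((b₁ * u * b₂)⁻¹ * b) else 0) =
    if b₁⁻¹ * b * b₂⁻¹ ∈ P.B then ψ (u⁻¹ * (b₁⁻¹ * b * b₂⁻¹)) else 0
  have hmem : (b₁⁻¹ * b * b₂⁻¹ ∈ P.B) ↔ b ∈ P.B := by
    constructor
    · intro h
      have : b = b₁ * (b₁⁻¹ * b * b₂⁻¹) * b₂ := by group
      rw [this]
      exact P.B.mul_mem (P.B.mul_mem h₁ h) h₂
    · intro h
      exact P.B.mul_mem (P.B.mul_mem (P.B.inv_mem h₁) h) (P.B.inv_mem h₂)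
  by_cases hb : b ∈ P.B
  · rw [if_pos hb, if_pos (hmem.mpr hb)]
    have : (b₁ * u * b₂)⁻¹ * b = b₂⁻¹ * (u⁻¹ * (b₁⁻¹ * b)) := by group
    rw [this, hψ]
    congr 1
    group
  · rw [if_neg hb, if_neg (fun h => hb (hmem.mp h))]

omit [Fintype G] in
theorem b7_mem_Cw_mul_right {w : Wg P} {g b : G} (hb : b ∈ P.B) (hg : g ∈ Cw P w) : g * b ∈ Cw P w :=
  mul_mem_C_right P hb hg

omit [Fintype G] in
theorem b7_exists_of_mem_Cw {w : Wg P} {u g : G} (hu : u ∈ Cw P w) (hg : g ∈ Cw P w) :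
    ∃ b₁ ∈ P.B, ∃ b₂ ∈ P.B, g = b₁ * u * b₂ := by
  have h1 : C P u = Cw P w := C_eq_of_mem P hu
  have h2 : g ∈ C P u := by rw [h1]; exact hg
  rw [mem_C] at h2
  exact h2

open Classical in
theorem b7_card_cell (w : Wg P) :
    (∑ g : G, if g ∈ Cw P w then (1 : ℂ) else 0) = (qidx P w : ℂ) * (Nat.card P.B : ℂ) := by
  rw [Finset.sum_boole]
  rw [← Nat.cast_mul, ← card_Cw P w]
  congr 1
  rw [Nat.card_eq_fintype_card, Fintype.card_subtype]

open Classical in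
theorem b7_card_B :
    (∑ g : G, if g ∈ P.B then (1 : ℂ) else 0) = (Nat.card P.B : ℂ) := by
  rw [Finset.sum_boole]
  congr 1
  rw [Nat.card_eq_fintype_card, Fintype.card_subtype]

theorem b7_card_B_ne : (Nat.card P.B : ℂ) ≠ 0 := by
  have : 0 < Nat.card P.B := Nat.card_pos
  exact_mod_cast this.ne'

open Classical in
/-- the value of `Φ` on the cell of `w` -/
theorem b7_Phi_eq (ψ : G → ℂ) (hψ : ∀ x y, ψ (x * y) = ψ (y * x)) {w : Wg P} {u : G} (hu : u ∈ Cw P w) :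
    (qidx P w : ℂ) * b7_Phi P ψ u = (Nat.card P.B : ℂ) * fz P ψ w⁻¹ := by
  have hB := b7_card_B_ne P
  -- the sum of `Φ` over the cell, computed in two ways
  have h1 : (∑ g : G, if g ∈ Cw P w then b7_Phi P ψ g else 0) =
      (qidx P w : ℂ) * (Nat.card P.B : ℂ) * b7_Phi P ψ u := by
    rw [← b7_card_cell, Finset.sum_mul]
    refine Finset.sum_congr rfl fun g _ => ?_
    by_cases hg : g ∈ Cw P w
    · rw [if_pos hg, if_pos hg, one_mul]
      obtain ⟨b₁, hb₁, b₂, hb₂, rfl⟩ := b7_exists_of_mem_Cw P hu hg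
      exact b7_Phi_const P ψ hψ u hb₁ hb₂
    · rw [if_neg hg, if_neg hg, zero_mul]
  have h2 : (∑ g : G, if g ∈ Cw P w then b7_Phi P ψ g else 0) =
      (Nat.card P.B : ℂ) * ((Nat.card P.B : ℂ) * fz P ψ w⁻¹) := by
    have hfz : (Nat.card P.B : ℂ) * fz P ψ w⁻¹ = ∑ h : G, if h ∈ Cw P w⁻¹ then ψ h else 0 := by
      unfold fz
      rw [← mul_assoc, mul_inv_cancel₀ hB, one_mul]
    rw [hfz, ← b7_card_B, Finset.sum_mul]
    unfold b7_Phi
    have : ∀ g : G, (if g ∈ Cw P w then (∑ b : G, if b ∈ P.B then ψ (g⁻¹ * b) else 0) else 0) =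
        ∑ b : G, if b ∈ P.B then (if g ∈ Cw P w then ψ (g⁻¹ * b) else 0) else 0 := by
      intro g
      by_cases hg : g ∈ Cw P w
      · simp only [if_pos hg]
      · simp only [if_neg hg, ite_self, Finset.sum_const_zero]
    simp only [this]
    rw [Finset.sum_comm]
    refine Finset.sum_congr rfl fun b _ => ?_
    by_cases hb : b ∈ P.B
    · simp only [if_pos hb, one_mul]
      let e : G ≃ G := ⟨fun g => g⁻¹ * b, fun h => b * h⁻¹, fun g => by group, fun h => by group⟩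
      refine Fintype.sum_equiv e _ _ ?_
      intro g
      show (if g ∈ Cw P w then ψ (g⁻¹ * b) else 0) = if g⁻¹ * b ∈ Cw P w⁻¹ then ψ (g⁻¹ * b) else 0
      have hmem : g⁻¹ * b ∈ Cw P w⁻¹ ↔ g ∈ Cw P w := by
        constructor
        · intro h
          have h' : g⁻¹ * b * b⁻¹ ∈ Cw P w⁻¹ := b7_mem_Cw_mul_right P (P.B.inv_mem hb) h
          have h'' := Cw_inv P w⁻¹ h'
          simpa using h''
        · intro h
          exact b7_mem_Cw_mul_right P hb (Cw_inv P w h)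
      by_cases hg : g ∈ Cw P w
      · rw [if_pos hg, if_pos (hmem.mpr hg)]
      · rw [if_neg hg, if_neg (fun h => hg (hmem.mp h))]
    · simp only [if_neg hb, zero_mul, Finset.sum_const_zero]
  have h3 : (Nat.card P.B : ℂ) * ((qidx P w : ℂ) * b7_Phi P ψ u) =
      (Nat.card P.B : ℂ) * ((Nat.card P.B : ℂ) * fz P ψ w⁻¹) := by
    rw [← h2, h1]
    ring
  exact mul_left_cancel₀ hB h3

/-! ### FH-B7 (orthogonality of the cell sums of irreducible characters) -/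
open Classical in
theorem pairing [Fintype (Wg P)] (χ ψ : Cfsg.IrrCharacter G) :
    ∑ w : Wg P, (qidx P w : ℂ)⁻¹ * fz P (χ : G → ℂ) w * fz P (ψ : G → ℂ) w⁻¹ =
      if χ = ψ then (Nat.card G : ℂ) / (Nat.card P.B : ℂ) * fz P (χ : G → ℂ) 1 / (χ : G → ℂ) 1 else 0 := by
  have hB := b7_card_B_ne P
  have hψ : ∀ x y, (ψ : G → ℂ) (x * y) = (ψ : G → ℂ) (y * x) :=
    fun x y => Cfsg.Agent.Lib.Helper80.irr_mul_comm ψ x y
  -- the double sum `T = ∑_{b ∈ B} ∑_u χ u ψ (u⁻¹ b)`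
  have hT1 : (∑ b : G, if b ∈ P.B then (∑ u : G, (χ : G → ℂ) u * (ψ : G → ℂ) (u⁻¹ * b)) else 0) =
      if χ = ψ then (Nat.card G : ℂ) * ((Nat.card P.B : ℂ) * fz P (χ : G → ℂ) 1) / (χ : G → ℂ) 1 else 0 := by
    have hfz : (Nat.card P.B : ℂ) * fz P (χ : G → ℂ) 1 = ∑ h : G, if h ∈ P.B then (χ : G → ℂ) h else 0 := by
      unfold fz
      rw [← mul_assoc, mul_inv_cancel₀ hB, one_mul]
      refine Finset.sum_congr rfl fun h _ => ?_
      rw [Cw_one]
      rfl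
    by_cases hχψ : χ = ψ
    · rw [if_pos hχψ, hfz, Finset.mul_sum, Finset.sum_div]
      refine Finset.sum_congr rfl fun b _ => ?_
      by_cases hb : b ∈ P.B
      · rw [if_pos hb, if_pos hb, Cfsg.Agent.Lib.Helper80.irr_convolution χ ψ b, if_pos hχψ]
      · rw [if_neg hb, if_neg hb, mul_zero, zero_div]
    · rw [if_neg hχψ]
      apply Finset.sum_eq_zero
      intro b _
      by_cases hb : b ∈ P.B
      · rw [if_pos hb, Cfsg.Agent.Lib.Helper80.irr_convolution χ ψ b, if_neg hχψ]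
      · rw [if_neg hb]
  have hT2 : (∑ b : G, if b ∈ P.B then (∑ u : G, (χ : G → ℂ) u * (ψ : G → ℂ) (u⁻¹ * b)) else 0) =
      (Nat.card P.B : ℂ) * (Nat.card P.B : ℂ) *
        ∑ w : Wg P, (qidx P w : ℂ)⁻¹ * fz P (χ : G → ℂ) w * fz P (ψ : G → ℂ) w⁻¹ := by
    have e1 : (∑ b : G, if b ∈ P.B then (∑ u : G, (χ : G → ℂ) u * (ψ : G → ℂ) (u⁻¹ * b)) else 0) =
        ∑ u : G, (χ : G → ℂ) u * b7_Phi P (ψ : G → ℂ) u := by
      have : ∀ b : G, (if b ∈ P.B then (∑ u : G, (χ : G → ℂ) u * (ψ : G → ℂ) (u⁻¹ * b)) else 0) =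
          ∑ u : G, (χ : G → ℂ) u * (if b ∈ P.B then (ψ : G → ℂ) (u⁻¹ * b) else 0) := by
        intro b
        by_cases hb : b ∈ P.B
        · simp only [if_pos hb]
        · simp only [if_neg hb, mul_zero, Finset.sum_const_zero]
      simp only [this]
      rw [Finset.sum_comm]
      refine Finset.sum_congr rfl fun u _ => ?_
      unfold b7_Phi
      rw [Finset.mul_sum]
    rw [e1, b7_sum_cells P, Finset.mul_sum]
    refine Finset.sum_congr rfl fun w _ => ?_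
    have hq : (qidx P w : ℂ) ≠ 0 := by
      have : 0 < qidx P w := qidx_pos P w
      exact_mod_cast this.ne'
    have hfz : (Nat.card P.B : ℂ) * fz P (χ : G → ℂ) w = ∑ h : G, if h ∈ Cw P w then (χ : G → ℂ) h else 0 := by
      unfold fz
      rw [← mul_assoc, mul_inv_cancel₀ hB, one_mul]
    have e2 : (∑ g : G, if g ∈ Cw P w then (χ : G → ℂ) g * b7_Phi P (ψ : G → ℂ) g else 0) =
        ∑ g : G, (if g ∈ Cw P w then (χ : G → ℂ) g else 0) *
          ((qidx P w : ℂ)⁻¹ * ((Nat.card P.B : ℂ) * fz P (ψ : G → ℂ) w⁻¹)) := by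
      refine Finset.sum_congr rfl fun g _ => ?_
      by_cases hg : g ∈ Cw P w
      · rw [if_pos hg, if_pos hg, ← b7_Phi_eq P (ψ : G → ℂ) hψ hg, ← mul_assoc ((qidx P w : ℂ)⁻¹),
          inv_mul_cancel₀ hq, one_mul]
      · rw [if_neg hg, if_neg hg, zero_mul]
    rw [e2, ← Finset.sum_mul, ← hfz]
    ring
  have h3 : (Nat.card P.B : ℂ) * (Nat.card P.B : ℂ) *
        ∑ w : Wg P, (qidx P w : ℂ)⁻¹ * fz P (χ : G → ℂ) w * fz P (ψ : G → ℂ) w⁻¹ =
      (Nat.card P.B : ℂ) * (Nat.card P.B : ℂ) *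
      (if χ = ψ then (Nat.card G : ℂ) / (Nat.card P.B : ℂ) * fz P (χ : G → ℂ) 1 / (χ : G → ℂ) 1 else 0) := by
    rw [← hT2, hT1]
    by_cases hχψ : χ = ψ
    · rw [if_pos hχψ, if_pos hχψ]
      field_simp
    · rw [if_neg hχψ, if_neg hχψ, mul_zero]
  exact mul_left_cancel₀ (mul_ne_zero hB hB) h3

end B

end Cfsg.Agent.Lib.Helper6.FH
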