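import Mathlib
import Cfsg.Agent.Lib.Helper83.FpDefs

set_option autoImplicit false

/-! FP-BASE5 (Fp hive S2276, owner helper83): `c = (0 1 2)`, `d = (2 3 4)` on `Fin 5`. -/

namespace Cfsg.Agent.Lib.Helper83.Fp

open Equiv

/-- `(0 1 2)` -/
def fpbase5_c : Perm (Fin 5) := swap 1 0 * swap 1 2

/-- `(2 3 4)` -/
def fpbase5_d : Perm (Fin 5) := swap 3 2 * swap 3 4

/-- FP-BASE5 -/
theorem base5 : A5Stmt → Base5Stmt := by
  intro hA5
  have hc : fpbase5_c.IsThreeCycle :=
    Perm.isThreeCycle_swap_mul_swap_same (by decide) (by decide) (by decide)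
  have hd : fpbase5_d.IsThreeCycle :=
    Perm.isThreeCycle_swap_mul_swap_same (by decide) (by decide) (by decide)
  refine ⟨fpbase5_c, fpbase5_d, hc, hd, ?_, ?_⟩
  · have h5 : orderOf (fpbase5_c * fpbase5_d) = 5 := by
      have : Fact (Nat.Prime 5) := ⟨by norm_num⟩
      exact orderOf_eq_prime (by decide) (by decide)
    rintro ⟨k, hk⟩
    rw [h5] at hk
    rcases k with _ | k
    · simp at hk
    · have h3 : 3 ∣ 5 := by
        rw [hk, pow_succ]
        exact Dvd.intro_left _ rfl
      omega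
  · apply hA5 5
    refine ⟨fpbase5_c, Subgroup.subset_closure (by simp), fpbase5_d,
      Subgroup.subset_closure (by simp), hc, hd, ?_⟩
    decide

end Cfsg.Agent.Lib.Helper83.Fp
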