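import Mathlib
import Cfsg.Agent.Lib.Helper83.FpDefs

set_option autoImplicit false

/-! FP-FINAL (Fp hive S2276, owner helper83): the `Perm`-level main statement gives the frozen subtype statement. -/

namespace Cfsg.Agent.Lib.Helper83.Fp

open Equiv

/-- FP-FINAL -/
theorem final_of : MainStmt → FinalStmt := by
  intro hM n hn p hp hp3 u w hu hw hu' hw'
  have hU : (u : Perm (Fin n)) ≠ 1 := fun h => hu (Subtype.ext h)
  have hW : (w : Perm (Fin n)) ≠ 1 := fun h => hw (Subtype.ext h)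
  have hu2 : ∃ k : ℕ, orderOf (u : Perm (Fin n)) = p ^ k := by
    obtain ⟨k, hk⟩ := hu'
    exact ⟨k, by rw [Subgroup.orderOf_coe, hk]⟩
  have hw2 : ∃ k : ℕ, orderOf (w : Perm (Fin n)) = p ^ k := by
    obtain ⟨k, hk⟩ := hw'
    exact ⟨k, by rw [Subgroup.orderOf_coe, hk]⟩
  obtain ⟨g, hg, hgood1, hgood2⟩ := hM n hn p hp hp3 u w hU hW hu2 hw2
  refine ⟨⟨g, hg⟩, ?_, ?_⟩
  · rintro ⟨k, hk⟩
    apply hgood1
    refine ⟨k, ?_⟩
    rw [← hk, ← Subgroup.orderOf_coe]
    rfl
  · intro hsol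
    apply hgood2
    have hmap : (Subgroup.closure ({u, (⟨g, hg⟩ : alternatingGroup (Fin n)) * w * (⟨g, hg⟩)⁻¹} :
        Set (alternatingGroup (Fin n)))).map (alternatingGroup (Fin n)).subtype =
        Subgroup.closure ({(u : Perm (Fin n)), g * (w : Perm (Fin n)) * g⁻¹} : Set (Perm (Fin n))) := by
      rw [MonoidHom.map_closure, Set.image_pair]
      rfl
    rw [← hmap]
    have := hsol
    exact Group.isSolvable_of_surjective
      (MonoidHom.subgroupMap_surjective (alternatingGroup (Fin n)).subtype _)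

end Cfsg.Agent.Lib.Helper83.Fp
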