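import Mathlib
import Cfsg.Agent.Lib.Helper10.FittingCent
import Cfsg.Agent.Lib.Helper22.CompSystem
import Cfsg.Agent.Lib.Helper22.FStar
import Cfsg.Agent.Lib.Helper22.Fitting

set_option autoImplicit false

namespace Cfsg.Agent.Lib.Helper34.Fpf4

open scoped commutatorElement

/-- an fpf automorphism whose square is trivial on an invariant subgroup inverts that subgroup -/
theorem fpf_inverts {X : Type*} [Group X] [Finite X] (φ : X ≃* X) (hfpf : ∀ x, φ x = x → x = 1)
    (C : Subgroup X) (hC : ∀ c ∈ C, φ c ∈ C) (h2 : ∀ c ∈ C, φ (φ c) = c) :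
    ∀ c ∈ C, φ c = c⁻¹ := by
  intro z hz
  let f : C → C := fun c => ⟨(c : X)⁻¹ * φ c, C.mul_mem (C.inv_mem c.2) (hC c c.2)⟩
  have hinj : Function.Injective f := by
    intro c d hcd
    have h1 : (c : X)⁻¹ * φ c = (d : X)⁻¹ * φ d := congrArg Subtype.val hcd
    have h3 : φ ((d : X) * (c : X)⁻¹) = (d : X) * (c : X)⁻¹ := by
      have e : φ (d : X) = (d : X) * (c : X)⁻¹ * φ c := by
        rw [mul_assoc, h1, mul_inv_cancel_left]
      rw [map_mul, map_inv, e, mul_assoc, mul_inv_cancel, mul_one]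
    have h4 := hfpf _ h3
    apply Subtype.ext
    have h5 : (d : X) = c := by
      have := mul_inv_eq_one.mp h4
      exact this
    exact h5.symm
  obtain ⟨c, hc⟩ := Finite.surjective_of_injective hinj ⟨z, hz⟩
  have hzc : z = (c : X)⁻¹ * φ c := (congrArg Subtype.val hc).symm
  rw [hzc, map_mul, map_inv, h2 c c.2, mul_inv_rev, inv_inv]

/-- an fpf automorphism of a finite group with trivial square inverts everything, so the group is
abelian -/
theorem comm_of_fpf_involution {X : Type*} [Group X] [Finite X] (φ : X ≃* X)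
    (hfpf : ∀ x, φ x = x → x = 1) (h2 : ∀ c, φ (φ c) = c) (a b : X) : a * b = b * a := by
  have hinv := fpf_inverts φ hfpf ⊤ (fun _ _ => Subgroup.mem_top _) (fun c _ => h2 c)
  have h1 := hinv (a * b) (Subgroup.mem_top _)
  rw [map_mul, hinv a (Subgroup.mem_top _), hinv b (Subgroup.mem_top _), mul_inv_rev] at h1
  have h3 := congrArg (fun x => x⁻¹) h1
  exact (by simpa using h3 : b * a = a * b).symm


section module

variable {K : Type*} [Group K] [Finite K] {V : Type*} [CommGroup V] [Finite V]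

/-- odd order: an element is a power of its square -/
theorem fix_of_sq_fix (hodd : Odd (Nat.card K)) (f : K →* MulAut V) (z : K) (w : V)
    (h : f (z * z) w = w) : f z w = w := by
  -- `z = (z*z)^m`
  have hordodd : Odd (orderOf z) := by
    have hd : orderOf z ∣ Nat.card K := orderOf_dvd_natCard z
    exact Odd.of_dvd_nat hodd hd
  obtain ⟨m, hm⟩ := hordodd
  have hz : z = (z * z) ^ (m + 1) := by
    rw [← pow_two, ← pow_mul]
    have : 2 * (m + 1) = orderOf z + 1 := by omega
    rw [this, pow_succ, pow_orderOf_eq_one, one_mul]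
  have hfix : ∀ n : ℕ, f ((z * z) ^ n) w = w := by
    intro n
    induction n with
    | zero => simp
    | succ n ih => rw [pow_succ, map_mul, MulAut.mul_apply, h, ih]
  rw [hz]
  exact hfix (m + 1)


/-- the compatible pair of fixed-point-free automorphisms of order dividing four -/
structure Ctx (K V : Type*) [Group K] [CommGroup V] where
  σ : K ≃* K
  s : V ≃* V
  ρ : K →* MulAut V
  compat : ∀ k v, s (ρ k v) = ρ (σ k) (s v)
  σfpf : ∀ k, σ k = k → k = 1
  sfpf : ∀ v, s v = v → v = 1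
  σ4 : ∀ k, σ (σ (σ (σ k))) = k
  s4 : ∀ v, s (s (s (s v))) = v

/-- Fact 1: `C_K(τ)` centralizes `C_V(t)` -/
theorem Ctx.fix_of_fix (c : Ctx K V) (hodd : Odd (Nat.card K)) (z : K) (hz : c.σ (c.σ z) = z)
    (w : V) (hw : c.s (c.s w) = w) : c.ρ z w = w := by
  let Cτ : Subgroup K :=
    { carrier := {k | c.σ (c.σ k) = k}
      one_mem' := by simp
      mul_mem' := by
        intro a b ha hb
        simp only [Set.mem_setOf_eq] at ha hb ⊢
        rw [map_mul, map_mul, ha, hb]
      inv_mem' := by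
        intro a ha
        simp only [Set.mem_setOf_eq] at ha ⊢
        rw [map_inv, map_inv, ha] }
  let W : Subgroup V :=
    { carrier := {v | c.s (c.s v) = v}
      one_mem' := by simp
      mul_mem' := by
        intro a b ha hb
        simp only [Set.mem_setOf_eq] at ha hb ⊢
        rw [map_mul, map_mul, ha, hb]
      inv_mem' := by
        intro a ha
        simp only [Set.mem_setOf_eq] at ha ⊢
        rw [map_inv, map_inv, ha] }
  have hσinv : ∀ k ∈ Cτ, c.σ k = k⁻¹ := by
    apply fpf_inverts c.σ c.σfpf Cτ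
    · intro k hk
      show c.σ (c.σ (c.σ k)) = c.σ k
      have hk' : c.σ (c.σ k) = k := hk
      rw [hk']
    · intro k hk
      exact hk
  have hsinv : ∀ v ∈ W, c.s v = v⁻¹ := by
    apply fpf_inverts c.s c.sfpf W
    · intro k hk
      show c.s (c.s (c.s k)) = c.s k
      have hk' : c.s (c.s k) = k := hk
      rw [hk']
    · intro k hk
      exact hk
  have hzw : c.ρ z w ∈ W := by
    show c.s (c.s (c.ρ z w)) = c.ρ z w
    rw [c.compat, c.compat, hz, hw]
  have h1 : c.s (c.ρ z w) = c.ρ z w⁻¹ := by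
    rw [hsinv _ hzw, map_inv]
  have h2 : c.s (c.ρ z w) = c.ρ z⁻¹ w⁻¹ := by
    rw [c.compat, hσinv z hz, hsinv w hw]
  have h3 : c.ρ (z * z) w⁻¹ = w⁻¹ := by
    rw [map_mul, MulAut.mul_apply, ← h1, h2, ← MulAut.mul_apply, ← map_mul, mul_inv_cancel, map_one,
      MulAut.one_apply]
  have h4 : c.ρ (z * z) w = w := by
    have := congrArg (fun x => x⁻¹) h3
    simpa using this
  exact fix_of_sq_fix hodd c.ρ z w h4


/-- twisting the averaging operator by a compatible fixed-point-free pair -/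
theorem prod_twist (ρ : K →* MulAut V) (φ : K ≃* K) (u : V ≃* V)
    (hcomp : ∀ k v, u (ρ k v) = ρ (φ k) (u v)) (R : Subgroup K) [Fintype R]
    (hRφ : ∀ r ∈ R, φ r ∈ R) (hfpf : ∀ r ∈ R, φ r = r → r = 1) (v : V) :
    ∏ r : R, ρ (r : K) (u (ρ (r : K)⁻¹ v)) = ∏ r : R, ρ (r : K) (u v) := by
  let β : R → R := fun r => ⟨(r : K) * (φ r)⁻¹, R.mul_mem r.2 (R.inv_mem (hRφ r r.2))⟩
  have hinj : Function.Injective β := by
    intro a b hab
    have h1 : (a : K) * (φ a)⁻¹ = (b : K) * (φ b)⁻¹ := congrArg Subtype.val hab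
    have h2 : φ ((b : K)⁻¹ * a) = (b : K)⁻¹ * a := by
      rw [map_mul, map_inv]
      have e : (a : K) = (b : K) * (φ b)⁻¹ * φ a := by
        rw [← h1, inv_mul_cancel_right]
      calc (φ (b : K))⁻¹ * φ (a : K) = (b : K)⁻¹ * ((b : K) * (φ b)⁻¹ * φ a) := by group
        _ = (b : K)⁻¹ * a := by rw [← e]
    have h3 := hfpf _ (R.mul_mem (R.inv_mem b.2) a.2) h2
    apply Subtype.ext
    have := inv_mul_eq_one.mp h3
    exact this.symm
  have hbij : Function.Bijective β := Finite.injective_iff_bijective.mp hinj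
  rw [← hbij.prod_comp (fun r : R => ρ (r : K) (u v))]
  refine Finset.prod_congr rfl (fun r _ => ?_)
  rw [hcomp]
  show ρ (r : K) (ρ (φ (r : K)⁻¹) (u v)) = ρ ((r : K) * (φ r)⁻¹) (u v)
  rw [map_mul, MulAut.mul_apply, map_inv]

/-- Lemma F: a Frobenius-type group with complement acting without fixed points acts trivially -/
theorem Ctx.trivial_of_frobenius (c : Ctx K V) (R : Subgroup K) (hRσ : ∀ r ∈ R, c.σ r ∈ R)
    (hRτ : ∀ r ∈ R, c.σ (c.σ r) = r → r = 1) (hcop : (Nat.card R).Coprime (Nat.card V)) :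
    ∀ r ∈ R, ∀ v, c.ρ r v = v := by
  classical
  let _ : Fintype R := Fintype.ofFinite R
  -- norm relation
  have hnorm : ∀ v : V, c.s v * c.s (c.s v) * c.s (c.s (c.s v)) = v⁻¹ := by
    intro v
    have h1 : c.s (v * c.s v * c.s (c.s v) * c.s (c.s (c.s v))) =
        v * c.s v * c.s (c.s v) * c.s (c.s (c.s v)) := by
      rw [map_mul, map_mul, map_mul, c.s4]
      rw [mul_comm _ v, ← mul_assoc, ← mul_assoc]
    have h2 := c.sfpf _ h1
    rw [mul_assoc, mul_assoc, mul_eq_one_iff_eq_inv'] at h2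
    rw [mul_assoc]
    exact h2
  let E : V → V := fun w => ∏ r : R, c.ρ (r : K) w
  have hEmul : ∀ a b, E (a * b) = E a * E b := by
    intro a b
    show ∏ r : R, c.ρ (r : K) (a * b) = (∏ r : R, c.ρ (r : K) a) * ∏ r : R, c.ρ (r : K) b
    rw [← Finset.prod_mul_distrib]
    exact Finset.prod_congr rfl (fun r _ => map_mul _ _ _)
  have hEinv : ∀ a, E a⁻¹ = (E a)⁻¹ := by
    intro a
    show ∏ r : R, c.ρ (r : K) a⁻¹ = (∏ r : R, c.ρ (r : K) a)⁻¹
    rw [← Finset.prod_inv_distrib]
    exact Finset.prod_congr rfl (fun r _ => map_inv _ _)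
  -- the three twists
  have hfix1 : ∀ r ∈ R, c.σ r = r → r = 1 := fun r _ h => c.σfpf r h
  have hfix3 : ∀ r ∈ R, c.σ (c.σ (c.σ r)) = r → r = 1 := by
    intro r _ h
    apply c.σfpf
    have := congrArg c.σ h
    rw [c.σ4] at this
    exact this.symm
  have t1 := fun v => prod_twist c.ρ c.σ c.s c.compat R hRσ hfix1 v
  have t2 := fun v => prod_twist c.ρ (c.σ.trans c.σ) (c.s.trans c.s)
    (fun k v => by simp only [MulEquiv.trans_apply]; rw [c.compat, c.compat]) R
    (fun r hr => hRσ _ (hRσ r hr)) (fun r hr h => hRτ r hr h) v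
  have t3 := fun v => prod_twist c.ρ ((c.σ.trans c.σ).trans c.σ) ((c.s.trans c.s).trans c.s)
    (fun k v => by simp only [MulEquiv.trans_apply]; rw [c.compat, c.compat, c.compat]) R
    (fun r hr => hRσ _ (hRσ _ (hRσ r hr))) (fun r hr h => hfix3 r hr h) v
  simp only [MulEquiv.trans_apply] at t2 t3
  have hE : ∀ v, E v = v ^ (Fintype.card R) := by
    intro v
    have h1 : ∏ r : R, (c.ρ (r : K) (c.s (c.ρ (r : K)⁻¹ v)) *
        c.ρ (r : K) (c.s (c.s (c.ρ (r : K)⁻¹ v))) *
        c.ρ (r : K) (c.s (c.s (c.s (c.ρ (r : K)⁻¹ v))))) = ∏ _r : R, v⁻¹ := by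
      refine Finset.prod_congr rfl (fun r _ => ?_)
      rw [← map_mul, ← map_mul, hnorm, map_inv, ← MulAut.mul_apply, ← map_mul, mul_inv_cancel,
        map_one, MulAut.one_apply]
    rw [Finset.prod_mul_distrib, Finset.prod_mul_distrib, t1, t2, t3, Finset.prod_const,
      Finset.card_univ] at h1
    have h2 : E (c.s v) * E (c.s (c.s v)) * E (c.s (c.s (c.s v))) = v⁻¹ ^ Fintype.card R := h1
    rw [← hEmul, ← hEmul, hnorm, hEinv, inv_pow, inv_inj] at h2
    exact h2
  have hEfix : ∀ (r₀ : R) (v : V), c.ρ (r₀ : K) (E v) = E v := by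
    intro r₀ v
    show c.ρ (r₀ : K) (∏ r : R, c.ρ (r : K) v) = ∏ r : R, c.ρ (r : K) v
    rw [map_prod]
    rw [← Equiv.prod_comp (Equiv.mulLeft r₀) (fun r : R => c.ρ (r : K) v)]
    refine Finset.prod_congr rfl (fun r _ => ?_)
    show c.ρ (r₀ : K) (c.ρ (r : K) v) = c.ρ ((r₀ * r : R) : K) v
    rw [Subgroup.coe_mul, map_mul, MulAut.mul_apply]
  intro r₀ hr₀ v
  have h1 := hEfix ⟨r₀, hr₀⟩ v
  rw [hE, map_pow] at h1
  have h2 : (c.ρ r₀ v * v⁻¹) ^ Fintype.card R = 1 := by
    rw [mul_pow, inv_pow, h1, mul_inv_cancel]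
  have d1 : orderOf (c.ρ r₀ v * v⁻¹) ∣ Fintype.card R := orderOf_dvd_of_pow_eq_one h2
  have d2 : orderOf (c.ρ r₀ v * v⁻¹) ∣ Nat.card V := orderOf_dvd_natCard _
  rw [← Nat.card_eq_fintype_card] at d1
  have h3 : orderOf (c.ρ r₀ v * v⁻¹) = 1 := Nat.eq_one_of_dvd_coprimes hcop d1 d2
  rw [orderOf_eq_one_iff, mul_inv_eq_one] at h3
  exact h3


theorem card_lt_of_lt' {X : Type*} [Group X] [Finite X] {A B : Subgroup X} (hle : A ≤ B)
    (hne : A ≠ B) : Nat.card A < Nat.card B := by
  by_contra h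
  push Not at h
  exact hne (Subgroup.eq_of_le_of_card_ge hle h)

theorem eq_one_of_eq_inv_of_odd {X : Type*} [Group X] (hodd : Odd (Nat.card X)) (y : X)
    (h : y = y⁻¹) : y = 1 := by
  have h2 : y ^ 2 = 1 := by
    rw [pow_two]
    nth_rewrite 2 [h]
    exact mul_inv_cancel y
  have d1 : orderOf y ∣ 2 := orderOf_dvd_of_pow_eq_one h2
  have d2 : orderOf y ∣ Nat.card X := orderOf_dvd_natCard y
  have hoo : Odd (orderOf y) := Odd.of_dvd_nat hodd d2
  have : orderOf y = 1 := by
    rcases (Nat.dvd_prime Nat.prime_two).mp d1 with h1 | h1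
    · exact h1
    · rw [h1] at hoo; exact absurd hoo (by decide)
  exact orderOf_eq_one_iff.mp this

set_option maxHeartbeats 1600000 in
/-- (A): `τ = σ²` centralizes every `σ`-invariant subgroup of order prime to `|V|` -/
theorem Ctx.tau_trivial_of_coprime (c : Ctx K V) (hodd : Odd (Nat.card K)) [Group.IsSolvable K]
    (hinj : Function.Injective c.ρ) :
    ∀ (n : ℕ) (R : Subgroup K), Nat.card R = n → (∀ r ∈ R, c.σ r ∈ R) →
      (Nat.card R).Coprime (Nat.card V) → ∀ r ∈ R, c.σ (c.σ r) = r := by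
  classical
  intro n
  induction n using Nat.strong_induction_on with
  | _ n IH =>
  intro R hn hRσ hcop
  by_contra hne
  push Not at hne
  obtain ⟨r₁, hr₁R, hr₁⟩ := hne
  have hττ : ∀ k : K, c.σ (c.σ (c.σ (c.σ k))) = k := c.σ4
  -- induction hypothesis for subgroups of `R`
  have IH' : ∀ R' : Subgroup K, R' ≤ R → R' ≠ R → (∀ r ∈ R', c.σ r ∈ R') →
      ∀ r ∈ R', c.σ (c.σ r) = r := by
    intro R' hle hne' hσ'
    have hlt : Nat.card R' < n := hn ▸ card_lt_of_lt' hle hne'
    have hdvd : Nat.card R' ∣ Nat.card R := Subgroup.card_dvd_of_le hle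
    exact IH _ hlt R' rfl hσ' (Nat.Coprime.coprime_dvd_left hdvd hcop)
  -- the derived subgroup
  have hRne : R ≠ ⊥ := by
    intro h
    rw [h, Subgroup.mem_bot] at hr₁R
    apply hr₁
    rw [hr₁R, map_one, map_one]
  have hDle : ⁅R, R⁆ ≤ R := Subgroup.commutator_le_self R
  have hDne : ⁅R, R⁆ ≠ R := (Group.IsSolvable.commutator_lt_of_ne_bot hRne).ne
  have hDσ : ∀ x ∈ ⁅R, R⁆, c.σ x ∈ ⁅R, R⁆ := by
    intro x hx
    have h1 : c.σ x ∈ (⁅R, R⁆).map c.σ.toMonoidHom := ⟨x, hx, rfl⟩
    rw [Subgroup.map_commutator] at h1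
    have hmap : R.map c.σ.toMonoidHom ≤ R := by
      rintro _ ⟨y, hy, rfl⟩
      exact hRσ y hy
    exact Subgroup.commutator_mono hmap hmap h1
  have hDτ := IH' ⁅R, R⁆ hDle hDne hDσ
  -- generated by the `r⁻¹ τ(r)`
  obtain ⟨R₁, hR₁def⟩ : ∃ R₁ : Subgroup K,
      R₁ = Subgroup.closure {y | ∃ r ∈ R, y = r⁻¹ * c.σ (c.σ r)} := ⟨_, rfl⟩
  have hR₁le : R₁ ≤ R := by
    rw [hR₁def, Subgroup.closure_le]
    rintro _ ⟨r, hr, rfl⟩
    exact R.mul_mem (R.inv_mem hr) (hRσ _ (hRσ r hr))
  have hR₁σ : ∀ x ∈ R₁, c.σ x ∈ R₁ := by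
    intro x hx
    rw [hR₁def] at hx ⊢
    induction hx using Subgroup.closure_induction with
    | mem y hy =>
      obtain ⟨r, hr, rfl⟩ := hy
      apply Subgroup.subset_closure
      refine ⟨c.σ r, hRσ r hr, ?_⟩
      rw [map_mul, map_inv]
    | one => rw [map_one]; exact Subgroup.one_mem _
    | mul a b _ _ ha hb => rw [map_mul]; exact Subgroup.mul_mem _ ha hb
    | inv a _ ha => rw [map_inv]; exact Subgroup.inv_mem _ ha
  have hR₁eq : R₁ = R := by
    by_contra hne'
    have hτ₁ := IH' R₁ hR₁le hne' hR₁σ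
    apply hr₁
    have hy : r₁⁻¹ * c.σ (c.σ r₁) ∈ R₁ := by
      rw [hR₁def]
      exact Subgroup.subset_closure ⟨r₁, hr₁R, rfl⟩
    have h1 := hτ₁ _ hy
    rw [map_mul, map_mul, map_inv, map_inv, hττ] at h1
    have h2 : r₁⁻¹ * c.σ (c.σ r₁) = (r₁⁻¹ * c.σ (c.σ r₁))⁻¹ := by
      rw [mul_inv_rev, inv_inv]
      exact h1.symm
    have h3 := eq_one_of_eq_inv_of_odd hodd _ h2
    exact (inv_mul_eq_one.mp h3).symm
  by_cases hZ : ∀ r ∈ R, c.σ (c.σ r) = r → r = 1
  · -- Frobenius case
    have h1 := c.trivial_of_frobenius R hRσ hZ hcop r₁ hr₁R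
    have h2 : c.ρ r₁ = c.ρ 1 := by
      ext v
      rw [h1, map_one, MulAut.one_apply]
    have h3 := hinj h2
    apply hr₁
    rw [h3, map_one, map_one]
  · push Not at hZ
    obtain ⟨z₀, hz₀R, hz₀τ, hz₀1⟩ := hZ
    obtain ⟨Z, hZdef⟩ : ∃ Z : Subgroup K, Z = R ⊓
        ({ carrier := {k | c.σ (c.σ k) = k}
           one_mem' := by simp
           mul_mem' := by
             intro a b ha hb
             simp only [Set.mem_setOf_eq] at ha hb ⊢
             rw [map_mul, map_mul, ha, hb]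
           inv_mem' := by
             intro a ha
             simp only [Set.mem_setOf_eq] at ha ⊢
             rw [map_inv, map_inv, ha] } : Subgroup K) := ⟨_, rfl⟩
    have hZmem : ∀ k, k ∈ Z ↔ k ∈ R ∧ c.σ (c.σ k) = k := by
      intro k
      rw [hZdef, Subgroup.mem_inf]
      rfl
    have hZR : Z ≤ R := fun k hk => ((hZmem k).mp hk).1
    have hZτ : ∀ z ∈ Z, c.σ (c.σ z) = z := fun k hk => ((hZmem k).mp hk).2
    have hz₀Z : z₀ ∈ Z := (hZmem z₀).mpr ⟨hz₀R, hz₀τ⟩
    have hZconj : ∀ r ∈ R, ∀ z ∈ Z, r⁻¹ * z * r ∈ Z := by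
      intro r hr z hz
      rw [hZmem]
      refine ⟨R.mul_mem (R.mul_mem (R.inv_mem hr) (hZR hz)) hr, ?_⟩
      have hcomm : ⁅r⁻¹, z⁆ ∈ ⁅R, R⁆ :=
        Subgroup.commutator_mem_commutator (R.inv_mem hr) (hZR hz)
      have h1 := hDτ _ hcomm
      have e : r⁻¹ * z * r = ⁅r⁻¹, z⁆ * z := by
        rw [commutatorElement_def]; group
      rw [e, map_mul, map_mul, h1, hZτ z hz]
    let _ : Fintype Z := Fintype.ofFinite Z
    have hZcop : (Fintype.card Z).Coprime (Nat.card V) := by
      rw [← Nat.card_eq_fintype_card]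
      exact Nat.Coprime.coprime_dvd_left (Subgroup.card_dvd_of_le hZR) hcop
    have hpow_inj : ∀ x : V, x ^ Fintype.card Z = 1 → x = 1 := by
      intro x hx
      have d1 : orderOf x ∣ Fintype.card Z := orderOf_dvd_of_pow_eq_one hx
      have d2 : orderOf x ∣ Nat.card V := orderOf_dvd_natCard x
      exact orderOf_eq_one_iff.mp (Nat.eq_one_of_dvd_coprimes hZcop d1 d2)
    obtain ⟨N, hNdef⟩ : ∃ N : V → V, N = fun v => ∏ z : Z, c.ρ (z : K) v := ⟨_, rfl⟩
    have hN : ∀ v, N v = ∏ z : Z, c.ρ (z : K) v := fun v => by rw [hNdef]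
    have hNmul : ∀ a b, N (a * b) = N a * N b := by
      intro a b
      rw [hN, hN, hN, ← Finset.prod_mul_distrib]
      exact Finset.prod_congr rfl (fun r _ => map_mul _ _ _)
    have hNinv : ∀ a, N a⁻¹ = (N a)⁻¹ := by
      intro a
      rw [hN, hN, ← Finset.prod_inv_distrib]
      exact Finset.prod_congr rfl (fun r _ => map_inv _ _)
    have hNpow : ∀ a (m : ℕ), N (a ^ m) = (N a) ^ m := by
      intro a m
      rw [hN, hN, ← Finset.prod_pow]
      exact Finset.prod_congr rfl (fun r _ => map_pow _ _ _)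
    have hNfix : ∀ (z₁ : K) (_ : z₁ ∈ Z) (v : V), c.ρ z₁ (N v) = N v := by
      intro z₁ hz₁ v
      rw [hN, map_prod, ← Equiv.prod_comp (Equiv.mulLeft (⟨z₁, hz₁⟩ : Z))
        (fun z : Z => c.ρ (z : K) v)]
      refine Finset.prod_congr rfl (fun z _ => ?_)
      show c.ρ z₁ (c.ρ (z : K) v) = c.ρ (((⟨z₁, hz₁⟩ : Z) * z : Z) : K) v
      rw [Subgroup.coe_mul, map_mul, MulAut.mul_apply]
    -- `N` commutes with `t`
    have hNt : ∀ v, N (c.s (c.s v)) = c.s (c.s (N v)) := by
      intro v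
      rw [hN, hN, map_prod, map_prod]
      refine Finset.prod_congr rfl (fun z _ => ?_)
      rw [c.compat, c.compat, hZτ z z.2]
    -- `N` commutes with `R`
    have hNR : ∀ r ∈ R, ∀ v, N (c.ρ r v) = c.ρ r (N v) := by
      intro r hr v
      rw [hN, hN, map_prod]
      let e : Z ≃ Z :=
        { toFun := fun z => ⟨r⁻¹ * (z : K) * r, hZconj r hr z z.2⟩
          invFun := fun z => ⟨r * (z : K) * r⁻¹, by
            have := hZconj r⁻¹ (R.inv_mem hr) z z.2
            simpa using this⟩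
          left_inv := by
            intro z; apply Subtype.ext; show r * (r⁻¹ * (z : K) * r) * r⁻¹ = z; group
          right_inv := by
            intro z; apply Subtype.ext; show r⁻¹ * (r * (z : K) * r⁻¹) * r = z; group }
      rw [← Equiv.prod_comp e (fun z : Z => c.ρ r (c.ρ (z : K) v))]
      refine Finset.prod_congr rfl (fun z _ => ?_)
      show c.ρ (z : K) (c.ρ r v) = c.ρ r (c.ρ (r⁻¹ * (z : K) * r) v)
      rw [← MulAut.mul_apply, ← MulAut.mul_apply, ← map_mul, ← map_mul]
      congr 2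
      group
    -- (a) `t` inverts the kernel of `N`
    have hker_inv : ∀ v, N v = 1 → c.s (c.s v) = v⁻¹ := by
      intro v hv
      have hu : c.s (c.s (v * c.s (c.s v))) = v * c.s (c.s v) := by
        rw [map_mul, map_mul, c.s4, mul_comm]
      have hfixu : ∀ z : Z, c.ρ (z : K) (v * c.s (c.s v)) = v * c.s (c.s v) :=
        fun z => c.fix_of_fix hodd z (hZτ z z.2) _ hu
      have h1 : N (v * c.s (c.s v)) = (v * c.s (c.s v)) ^ Fintype.card Z := by
        rw [hN, Finset.prod_congr rfl (fun z _ => hfixu z), Finset.prod_const, Finset.card_univ]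
      have h2 : N (v * c.s (c.s v)) = 1 := by
        rw [hNmul, hNt, hv, map_one, map_one, mul_one]
      rw [h2] at h1
      have h3 := hpow_inj _ h1.symm
      exact eq_inv_of_mul_eq_one_right h3
    -- (c)
    have hτR : ∀ r ∈ R, ∀ v, N v = 1 → c.ρ (c.σ (c.σ r)) v = c.ρ r v := by
      intro r hr v hv
      have h1 : c.ρ (c.σ (c.σ r)) v = c.s (c.s (c.ρ r (c.s (c.s v)))) := by
        rw [c.compat, c.compat, c.s4]
      have h2 : N (c.ρ r v) = 1 := by rw [hNR r hr, hv, map_one]
      rw [h1, hker_inv v hv, map_inv, map_inv, map_inv, hker_inv _ h2, inv_inv]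
    -- (d) all of `R` acts trivially on the kernel of `N`
    have hRtriv : ∀ r ∈ R, ∀ v, N v = 1 → c.ρ r v = v := by
      intro r hr
      rw [← hR₁eq, hR₁def] at hr
      induction hr using Subgroup.closure_induction with
      | mem y hy =>
        obtain ⟨r', hr', rfl⟩ := hy
        intro v hv
        rw [map_mul, MulAut.mul_apply, hτR r' hr' v hv, ← MulAut.mul_apply, ← map_mul,
          inv_mul_cancel, map_one, MulAut.one_apply]
      | one => intro v _; rw [map_one, MulAut.one_apply]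
      | mul a b _ _ ha hb =>
        intro v hv
        rw [map_mul, MulAut.mul_apply, hb v hv, ha v hv]
      | inv a _ ha =>
        intro v hv
        have h1 := ha v hv
        rw [map_inv]
        nth_rewrite 1 [← h1]
        rw [MulAut.inv_apply, MulEquiv.symm_apply_apply]
    -- (e)
    have hker_triv : ∀ v, N v = 1 → v = 1 := by
      intro v hv
      have h1 : N v = v ^ Fintype.card Z := by
        rw [hN, Finset.prod_congr rfl (fun (z : Z) _ => hRtriv (z : K) (hZR z.2) v hv),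
          Finset.prod_const, Finset.card_univ]
      rw [hv] at h1
      exact hpow_inj v h1.symm
    -- (f)
    have hNeq : ∀ v, N v = v ^ Fintype.card Z := by
      intro v
      have h1 : N (N v) = (N v) ^ Fintype.card Z := by
        nth_rewrite 1 [hN]
        rw [Finset.prod_congr rfl (fun (z : Z) _ => hNfix (z : K) z.2 v), Finset.prod_const,
          Finset.card_univ]
      have h2 : N (v ^ Fintype.card Z * (N v)⁻¹) = 1 := by
        rw [hNmul, hNpow, hNinv, h1, mul_inv_cancel]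
      have h3 := hker_triv _ h2
      exact (mul_inv_eq_one.mp h3).symm
    -- (g)
    have hZtriv : ∀ v, c.ρ z₀ v = v := by
      intro v
      have h1 := hNfix z₀ hz₀Z v
      rw [hNeq, map_pow] at h1
      have h2 : (c.ρ z₀ v * v⁻¹) ^ Fintype.card Z = 1 := by
        rw [mul_pow, inv_pow, h1, mul_inv_cancel]
      exact mul_inv_eq_one.mp (hpow_inj _ h2)
    apply hz₀1
    apply hinj
    ext v
    rw [hZtriv, map_one, MulAut.one_apply]


set_option maxHeartbeats 1600000 in
/-- (**): a faithful irreducible configuration forces the acting group to be abelian -/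
theorem Ctx.comm_of_irreducible (c : Ctx K V) (hodd : Odd (Nat.card K)) [Group.IsSolvable K]
    (hinj : Function.Injective c.ρ) (p : ℕ) [Fact p.Prime] (hVp : IsPGroup p V)
    (hirr : ∀ U : Subgroup V, (∀ k, ∀ v ∈ U, c.ρ k v ∈ U) → (∀ v ∈ U, c.s v ∈ U) →
      U = ⊥ ∨ U = ⊤) (a b : K) : a * b = b * a := by
  classical
  have hp : p.Prime := Fact.out
  by_cases hVs : Subsingleton V
  · have hK : ∀ k : K, k = 1 := by
      intro k
      apply hinj
      ext v
      exact Subsingleton.elim _ _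
    rw [hK a, hK b]
  rw [not_subsingleton_iff_nontrivial] at hVs
  obtain ⟨n, hn⟩ := IsPGroup.iff_card.mp hVp
  have hn0 : n ≠ 0 := by
    intro h0
    rw [h0, pow_zero] at hn
    have : Subsingleton V := (Nat.card_eq_one_iff_unique.mp hn).1
    exact not_subsingleton V this
  have hpV : p ∣ Nat.card V := by rw [hn]; exact dvd_pow_self p hn0
  -- `O_p(K) = 1`
  have hcore : Cfsg.pCore p K = ⊥ := by
    obtain ⟨P, hPdef⟩ : ∃ P : Subgroup K, P = Cfsg.pCore p K := ⟨_, rfl⟩
    rw [← hPdef]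
    have hPn : P.Normal := hPdef ▸ Cfsg.Agent.Lib.Helper22.pCore_normal' p K
    have hPp : IsPGroup p P := hPdef ▸ Cfsg.Agent.Lib.Helper22.pCore_isPGroup' p K
    have hPσ : ∀ x ∈ P, c.σ x ∈ P := by
      intro x hx
      have h1 : P.map c.σ.toMonoidHom ≤ Cfsg.pCore p K := by
        apply Cfsg.Agent.Lib.Helper22.le_pCore'
        · exact hPn.map _ c.σ.surjective
        · exact hPp.map _
      rw [hPdef]
      exact h1 ⟨x, hx, rfl⟩
    have hPσ' : ∀ x ∈ P, c.σ.symm x ∈ P := by
      intro x hx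
      -- `σ⁻¹ = σ³`
      have : c.σ.symm x = c.σ (c.σ (c.σ x)) := by
        rw [MulEquiv.symm_apply_eq, c.σ4]
      rw [this]
      exact hPσ _ (hPσ _ (hPσ x hx))
    obtain ⟨U, hUdef⟩ : ∃ U : Subgroup V, U =
        ({ carrier := {v | ∀ x ∈ P, c.ρ x v = v}
           one_mem' := by intro x _; rw [map_one]
           mul_mem' := by
             intro v w hv hw x hx
             rw [map_mul, hv x hx, hw x hx]
           inv_mem' := by
             intro v hv x hx
             rw [map_inv, hv x hx] } : Subgroup V) := ⟨_, rfl⟩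
    have hUmem : ∀ v, v ∈ U ↔ ∀ x ∈ P, c.ρ x v = v := by
      intro v; rw [hUdef]; rfl
    have hUK : ∀ k, ∀ v ∈ U, c.ρ k v ∈ U := by
      intro k v hv
      rw [hUmem] at hv ⊢
      intro x hx
      have h1 : k⁻¹ * x * k ∈ P := by
        have := hPn.conj_mem x hx k⁻¹
        simpa using this
      have h2 := hv _ h1
      calc c.ρ x (c.ρ k v) = c.ρ k (c.ρ (k⁻¹ * x * k) v) := by
            rw [← MulAut.mul_apply, ← MulAut.mul_apply, ← map_mul, ← map_mul]
            congr 2
            group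
        _ = c.ρ k v := by rw [h2]
    have hUs : ∀ v ∈ U, c.s v ∈ U := by
      intro v hv
      rw [hUmem] at hv ⊢
      intro x hx
      have h1 := hv _ (hPσ' x hx)
      have h2 := c.compat (c.σ.symm x) v
      rw [MulEquiv.apply_symm_apply, h1] at h2
      exact h2.symm
    have hUne : U ≠ ⊥ := by
      let _ : MulAction P V := MulAction.compHom V (c.ρ.comp P.subtype)
      have hsmul : ∀ (x : P) (v : V), x • v = c.ρ (x : K) v := fun _ _ => rfl
      have h1 : (1 : V) ∈ MulAction.fixedPoints P V := by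
        intro x
        rw [hsmul, map_one]
      obtain ⟨w, hw, hw1⟩ := hPp.exists_fixed_point_of_prime_dvd_card_of_fixed_point V hpV h1
      intro hbot
      have hwU : w ∈ U := by
        rw [hUmem]
        intro x hx
        exact hw ⟨x, hx⟩
      rw [hbot, Subgroup.mem_bot] at hwU
      exact hw1 hwU.symm
    rcases hirr U hUK hUs with h | h
    · exact absurd h hUne
    · rw [Subgroup.eq_bot_iff_forall]
      intro x hx
      apply hinj
      ext v
      have hv : v ∈ U := by rw [h]; exact Subgroup.mem_top v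
      rw [(hUmem v).mp hv x hx, map_one, MulAut.one_apply]
  -- `F(K)` is a `p'`-group, `σ`-invariant, so `τ` centralizes it
  have hFcop : (Nat.card (Cfsg.fittingSubgroup K)).Coprime (Nat.card V) := by
    rw [hn]
    exact Nat.Coprime.pow_right n
      (Cfsg.Agent.Lib.Helper22.fitting_card_coprime_of_pCore_eq_bot p hcore)
  have hFσ : ∀ x ∈ Cfsg.fittingSubgroup K, c.σ x ∈ Cfsg.fittingSubgroup K := by
    intro x hx
    have hchar : (Cfsg.fittingSubgroup K).Characteristic :=
      Cfsg.Agent.Lib.Helper22.fittingSubgroup_characteristic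
    have h1 := Subgroup.characteristic_iff_map_eq.mp hchar c.σ
    rw [← h1]
    exact ⟨x, hx, rfl⟩
  have hFτ := c.tau_trivial_of_coprime hodd hinj _ (Cfsg.fittingSubgroup K) rfl hFσ hFcop
  have hFn : (Cfsg.fittingSubgroup K).Normal := Cfsg.Agent.Lib.Helper10.fitting_normal
  -- `τ` is trivial on `K`
  have hτ : ∀ k : K, c.σ (c.σ k) = k := by
    intro k
    have hy : k⁻¹ * c.σ (c.σ k) ∈ Subgroup.centralizer (Cfsg.fittingSubgroup K : Set K) := by
      rw [Subgroup.mem_centralizer_iff]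
      intro f hf
      have h1 : k * f * k⁻¹ ∈ Cfsg.fittingSubgroup K := hFn.conj_mem f hf k
      have h2 := hFτ _ h1
      rw [map_mul, map_mul, map_mul, map_mul, map_inv, map_inv, hFτ f hf] at h2
      -- τk f τk⁻¹ = k f k⁻¹
      calc f * (k⁻¹ * c.σ (c.σ k)) = k⁻¹ * (k * f * k⁻¹) * c.σ (c.σ k) := by group
        _ = k⁻¹ * (c.σ (c.σ k) * f * (c.σ (c.σ k))⁻¹) * c.σ (c.σ k) := by rw [h2]
        _ = k⁻¹ * c.σ (c.σ k) * f := by group
    have hyF : k⁻¹ * c.σ (c.σ k) ∈ Cfsg.fittingSubgroup K :=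
      Cfsg.Agent.Lib.Helper10.centralizer_fitting_le hy
    have h1 := hFτ _ hyF
    rw [map_mul, map_mul, map_inv, map_inv, c.σ4] at h1
    have h2 : k⁻¹ * c.σ (c.σ k) = (k⁻¹ * c.σ (c.σ k))⁻¹ := by
      rw [mul_inv_rev, inv_inv]
      exact h1.symm
    have h3 := eq_one_of_eq_inv_of_odd hodd _ h2
    exact (inv_mul_eq_one.mp h3).symm
  exact comm_of_fpf_involution c.σ c.σfpf hτ a b

end module

end Cfsg.Agent.Lib.Helper34.Fpf4
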