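import Mathlib
import Cfsg.Agent.Lib.Helper34.Fpf4Module

set_option autoImplicit false

namespace Cfsg.Agent.Lib.Helper34.Fpf4

open scoped commutatorElement

universe u

/-- a group with a fixed-point-free automorphism of order dividing four has odd order -/
theorem odd_card_of_fpf {G : Type*} [Group G] [Finite G] (σ : G ≃* G)
    (hσ4 : ∀ g, σ (σ (σ (σ g))) = g) (hfpf : ∀ g, σ g = g → g = 1) : Odd (Nat.card G) := by
  classical
  have hpow : (σ : MulAut G) ^ 4 = 1 := by
    ext g
    show ((σ : MulAut G) ^ 4) g = g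
    rw [show (4 : ℕ) = 1 + 1 + 1 + 1 from rfl, pow_succ, pow_succ, pow_succ, pow_one]
    simp only [MulAut.mul_apply]
    exact hσ4 g
  have hord : orderOf (σ : MulAut G) ∣ 2 ^ 2 := orderOf_dvd_of_pow_eq_one hpow
  obtain ⟨k, _, hk⟩ := (Nat.dvd_prime_pow Nat.prime_two).mp hord
  have hP : IsPGroup 2 (Subgroup.zpowers (σ : MulAut G)) := by
    apply IsPGroup.of_card (n := k)
    rw [Nat.card_zpowers, hk]
  have hfix : MulAction.fixedPoints (Subgroup.zpowers (σ : MulAut G)) G = {1} := by
    ext g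
    constructor
    · intro hg
      have h1 := hg ⟨σ, Subgroup.mem_zpowers _⟩
      have h2 : σ g = g := h1
      rw [Set.mem_singleton_iff]
      exact hfpf g h2
    · intro hg
      rw [Set.mem_singleton_iff] at hg
      rw [hg]
      intro x
      show (x : MulAut G) • (1 : G) = 1
      exact smul_one _
  have hmod := hP.card_modEq_card_fixedPoints G
  have hcard1 : Nat.card (({1} : Set G) : Type _) = 1 := by
    rw [Nat.card_coe_set_eq, Set.ncard_singleton]
  rw [hfix, hcard1] at hmod
  rw [Nat.odd_iff]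
  exact hmod

/-- an invariant coset of an invariant subgroup on which `σ` is fixed-point-free contains a fixed
point -/
theorem mem_of_coset_fixed {G : Type*} [Group G] [Finite G] (σ : G ≃* G)
    (hfpf : ∀ g, σ g = g → g = 1) (N : Subgroup G) (hN : ∀ x ∈ N, σ x ∈ N) (g : G)
    (hg : g⁻¹ * σ g ∈ N) : g ∈ N := by
  let β : N → N := fun c => ⟨(c : G) * (σ c)⁻¹, N.mul_mem c.2 (N.inv_mem (hN c c.2))⟩
  have hinj : Function.Injective β := by
    intro a b hab
    have h1 : (a : G) * (σ a)⁻¹ = (b : G) * (σ b)⁻¹ := congrArg Subtype.val hab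
    have h2 : σ ((b : G)⁻¹ * a) = (b : G)⁻¹ * a := by
      rw [map_mul, map_inv]
      have e : (a : G) = (b : G) * (σ b)⁻¹ * σ a := by
        rw [← h1, inv_mul_cancel_right]
      calc (σ (b : G))⁻¹ * σ (a : G) = (b : G)⁻¹ * ((b : G) * (σ b)⁻¹ * σ a) := by group
        _ = (b : G)⁻¹ * a := by rw [← e]
    have h3 := hfpf _ h2
    apply Subtype.ext
    exact (inv_mul_eq_one.mp h3).symm
  obtain ⟨c, hc⟩ := Finite.surjective_of_injective hinj ⟨g⁻¹ * σ g, hg⟩
  have hc' : (c : G) * (σ c)⁻¹ = g⁻¹ * σ g := congrArg Subtype.val hc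
  have hfix : σ (g * c) = g * c := by
    rw [map_mul]
    have : σ g = g * ((c : G) * (σ c)⁻¹) := by rw [hc', mul_inv_cancel_left]
    rw [this]
    group
  have h1 := hfpf _ hfix
  have h2 : g = (c : G)⁻¹ := eq_inv_of_mul_eq_one_left h1
  rw [h2]
  exact N.inv_mem c.2

theorem quot_fpf {G : Type*} [Group G] [Finite G] (σ : G ≃* G)
    (hfpf : ∀ g, σ g = g → g = 1) (N : Subgroup G) [N.Normal]
    (hN : N.map (σ : G →* G) = N) :
    ∀ x : G ⧸ N, QuotientGroup.congr N N σ hN x = x → x = 1 := by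
  intro x
  induction x using QuotientGroup.induction_on with
  | H g =>
    intro h
    rw [QuotientGroup.congr_mk, QuotientGroup.eq] at h
    rw [QuotientGroup.eq_one_iff]
    have hN' : ∀ x ∈ N, σ x ∈ N := by
      intro x hx
      rw [← hN]
      exact ⟨x, hx, rfl⟩
    apply mem_of_coset_fixed σ hfpf N hN' g
    have := N.inv_mem h
    simpa using this

theorem quot_pow4 {G : Type*} [Group G] (σ : G ≃* G)
    (hσ4 : ∀ g, σ (σ (σ (σ g))) = g) (N : Subgroup G) [N.Normal]
    (hN : N.map (σ : G →* G) = N) (x : G ⧸ N) :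
    QuotientGroup.congr N N σ hN (QuotientGroup.congr N N σ hN (QuotientGroup.congr N N σ hN
      (QuotientGroup.congr N N σ hN x))) = x := by
  induction x using QuotientGroup.induction_on with
  | H g =>
    rw [QuotientGroup.congr_mk, QuotientGroup.congr_mk, QuotientGroup.congr_mk,
      QuotientGroup.congr_mk, hσ4]


/-- commutative group structure on a commutative subgroup -/
abbrev commGroupOfComm {G : Type*} [Group G] (V : Subgroup G)
    (h : ∀ a ∈ V, ∀ b ∈ V, a * b = b * a) : CommGroup V :=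
  { V.toGroup with mul_comm := fun a b => Subtype.ext (h a a.2 b b.2) }

set_option maxHeartbeats 3200000 in
theorem main_fpf4 : ∀ (n : ℕ) (G : Type u) [Group G] [Finite G], Nat.card G = n →
    Group.IsSolvable G → ∀ σ : G ≃* G, (∀ g, σ (σ (σ (σ g))) = g) → (∀ g, σ g = g → g = 1) →
    Group.IsNilpotent (commutator G) := by
  classical
  intro n
  induction n using Nat.strong_induction_on with
  | _ n IH =>
  intro G _ _ hn hsolv σ hσ4 hfpf
  by_cases hG1 : Subsingleton G
  · infer_instance
  rw [not_subsingleton_iff_nontrivial] at hG1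
  have hoddG : Odd (Nat.card G) := odd_card_of_fpf σ hσ4 hfpf
  have hσsymm : ∀ x, σ.symm x = σ (σ (σ x)) := by
    intro x
    rw [MulEquiv.symm_apply_eq, hσ4]
  -- a minimal invariant normal subgroup
  have hex : ∃ m : ℕ, ∃ N : Subgroup G, N.Normal ∧ (∀ x ∈ N, σ x ∈ N) ∧ N ≠ ⊥ ∧ Nat.card N = m :=
    ⟨_, ⊤, inferInstance, fun _ _ => Subgroup.mem_top _, top_ne_bot, rfl⟩
  obtain ⟨V, hVn, hVσ, hVne, hVcard⟩ := Nat.find_spec hex
  have hVmin : ∀ N : Subgroup G, N.Normal → (∀ x ∈ N, σ x ∈ N) → N ≠ ⊥ → N ≤ V → N = V := by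
    intro N hNn hNσ hNne hle
    apply Subgroup.eq_of_le_of_card_ge hle
    rw [hVcard]
    exact Nat.find_min' hex ⟨N, hNn, hNσ, hNne, rfl⟩
  have hVσ' : ∀ x ∈ V, σ.symm x ∈ V := by
    intro x hx
    rw [hσsymm]
    exact hVσ _ (hVσ _ (hVσ x hx))
  have hVmap : V.map (σ : G →* G) = V := by
    apply le_antisymm
    · rintro _ ⟨x, hx, rfl⟩
      exact hVσ x hx
    · intro x hx
      exact ⟨σ.symm x, hVσ' x hx, σ.apply_symm_apply x⟩
  -- `V` is abelian
  have hVcomm : ∀ a ∈ V, ∀ b ∈ V, a * b = b * a := by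
    have hD : ⁅V, V⁆ = ⊥ := by
      by_contra hDne
      have hDn : (⁅V, V⁆).Normal := Subgroup.commutator_normal V V
      have hDσ : ∀ x ∈ ⁅V, V⁆, σ x ∈ ⁅V, V⁆ := by
        intro x hx
        have h1 : σ x ∈ (⁅V, V⁆).map (σ : G →* G) := ⟨x, hx, rfl⟩
        rw [Subgroup.map_commutator, hVmap] at h1
        exact h1
      have h2 := hVmin _ hDn hDσ hDne (Subgroup.commutator_le_self V)
      exact (Group.IsSolvable.commutator_lt_of_ne_bot hVne).ne h2
    rw [Subgroup.commutator_eq_bot_iff_le_centralizer] at hD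
    intro a ha b hb
    have := hD ha
    rw [Subgroup.mem_centralizer_iff] at this
    exact (this b hb).symm
  -- `V` has prime exponent
  have hVcard1 : Nat.card V ≠ 1 := by
    intro h1
    apply hVne
    exact Subgroup.card_eq_one.mp h1
  obtain ⟨p, hp, hpdvd⟩ := Nat.exists_prime_and_dvd hVcard1
  have hpF : Fact p.Prime := ⟨hp⟩
  have hVexp : ∀ x ∈ V, x ^ p = 1 := by
    obtain ⟨U, hUdef⟩ : ∃ U : Subgroup G, U =
        ({ carrier := {x | x ∈ V ∧ x ^ p = 1}
           one_mem' := ⟨V.one_mem, one_pow p⟩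
           mul_mem' := by
             rintro a b ⟨ha, ha'⟩ ⟨hb, hb'⟩
             refine ⟨V.mul_mem ha hb, ?_⟩
             have hc : Commute a b := hVcomm a ha b hb
             rw [hc.mul_pow, ha', hb', one_mul]
           inv_mem' := by
             rintro a ⟨ha, ha'⟩
             exact ⟨V.inv_mem ha, by rw [inv_pow, ha', inv_one]⟩ } : Subgroup G) := ⟨_, rfl⟩
    have hUmem : ∀ x, x ∈ U ↔ x ∈ V ∧ x ^ p = 1 := by
      intro x; rw [hUdef]; rfl
    have hUn : U.Normal := by
      constructor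
      intro x hx g
      rw [hUmem] at hx ⊢
      refine ⟨hVn.conj_mem x hx.1 g, ?_⟩
      rw [conj_pow, hx.2, mul_one, mul_inv_cancel]
    have hUσ : ∀ x ∈ U, σ x ∈ U := by
      intro x hx
      rw [hUmem] at hx ⊢
      exact ⟨hVσ x hx.1, by rw [← map_pow, hx.2, map_one]⟩
    have hUne : U ≠ ⊥ := by
      obtain ⟨x, hx⟩ := exists_prime_orderOf_dvd_card' (G := V) p hpdvd
      intro hbot
      have hxU : (x : G) ∈ U := by
        rw [hUmem]
        refine ⟨x.2, ?_⟩
        have : x ^ p = 1 := by rw [← hx]; exact pow_orderOf_eq_one x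
        have h2 := congrArg Subtype.val this
        simpa using h2
      rw [hbot, Subgroup.mem_bot] at hxU
      have hx1 : x = 1 := Subtype.ext hxU
      rw [hx1, orderOf_one] at hx
      exact hp.one_lt.ne hx
    have hUV : U = V := hVmin U hUn hUσ hUne (fun x hx => ((hUmem x).mp hx).1)
    intro x hx
    rw [← hUV] at hx
    exact ((hUmem x).mp hx).2
  -- the centralizer
  have _hVn : V.Normal := hVn
  obtain ⟨C, hCdef⟩ : ∃ C : Subgroup G, C = Subgroup.centralizer (V : Set G) := ⟨_, rfl⟩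
  have hCn : C.Normal := hCdef ▸ Subgroup.normal_centralizer
  have hCmem : ∀ x, x ∈ C ↔ ∀ v ∈ V, v * x = x * v := by
    intro x; rw [hCdef, Subgroup.mem_centralizer_iff]; rfl
  have hVC : V ≤ C := by
    intro x hx
    rw [hCmem]
    intro v hv
    exact hVcomm v hv x hx
  have hCσ : ∀ x ∈ C, σ x ∈ C := by
    intro x hx
    rw [hCmem] at hx ⊢
    intro v hv
    have h1 := hx _ (hVσ' v hv)
    have h2 := congrArg σ h1
    rw [map_mul, map_mul, σ.apply_symm_apply] at h2
    exact h2
  have hCσ' : ∀ x ∈ C, σ.symm x ∈ C := by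
    intro x hx
    rw [hσsymm]
    exact hCσ _ (hCσ _ (hCσ x hx))
  have hCmap : C.map (σ : G →* G) = C := by
    apply le_antisymm
    · rintro _ ⟨x, hx, rfl⟩
      exact hCσ x hx
    · intro x hx
      exact ⟨σ.symm x, hCσ' x hx, σ.apply_symm_apply x⟩
  -- the module
  let _ : CommGroup V := commGroupOfComm V hVcomm
  let s : V ≃* V :=
    { toFun := fun v => ⟨σ v, hVσ v v.2⟩
      invFun := fun v => ⟨σ.symm v, hVσ' v v.2⟩
      left_inv := fun v => Subtype.ext (σ.symm_apply_apply v)
      right_inv := fun v => Subtype.ext (σ.apply_symm_apply v)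
      map_mul' := fun a b => Subtype.ext (map_mul σ (a : G) (b : G)) }
  have hs : ∀ v : V, ((s v : V) : G) = σ (v : G) := fun _ => rfl
  let ρ : G ⧸ C →* MulAut V := QuotientGroup.lift C (MulAut.conjNormal (H := V)) (by
    intro x hx
    rw [MonoidHom.mem_ker]
    ext v
    rw [MulAut.conjNormal_apply, MulAut.one_apply]
    rw [hCmem] at hx
    rw [← hx v v.2, mul_inv_cancel_right])
  have hρ : ∀ (g : G) (v : V), ((ρ (g : G ⧸ C) v : V) : G) = g * v * g⁻¹ := by
    intro g v
    show ((QuotientGroup.lift C (MulAut.conjNormal (H := V)) _ (g : G ⧸ C) v : V) : G) = _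
    rw [QuotientGroup.lift_mk, MulAut.conjNormal_apply]
  have hsolvK : Group.IsSolvable (G ⧸ C) := inferInstance
  let c : Ctx (G ⧸ C) V :=
    { σ := QuotientGroup.congr C C σ hCmap
      s := s
      ρ := ρ
      compat := by
        intro k v
        induction k using QuotientGroup.induction_on with
        | H g =>
          apply Subtype.ext
          rw [QuotientGroup.congr_mk, hs, hρ, hρ, hs, map_mul, map_mul, map_inv]
      σfpf := quot_fpf σ hfpf C hCmap
      sfpf := by
        intro v hv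
        apply Subtype.ext
        have h1 := congrArg Subtype.val hv
        rw [hs] at h1
        exact hfpf _ h1
      σ4 := quot_pow4 σ hσ4 C hCmap
      s4 := by
        intro v
        apply Subtype.ext
        rw [hs, hs, hs, hs, hσ4] }
  have hoddK : Odd (Nat.card (G ⧸ C)) :=
    Odd.of_dvd_nat hoddG (Subgroup.card_quotient_dvd_card C)
  have hinj : Function.Injective c.ρ := by
    rw [injective_iff_map_eq_one]
    intro k
    induction k using QuotientGroup.induction_on with
    | H g =>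
      intro h
      rw [QuotientGroup.eq_one_iff, hCmem]
      intro v hv
      have h1 : ((ρ (g : G ⧸ C) ⟨v, hv⟩ : V) : G) = v := by
        have : ρ (g : G ⧸ C) = 1 := h
        rw [this, MulAut.one_apply]
      rw [hρ] at h1
      have h2 : g * v = v * g := by
        have := congrArg (fun x => x * g) h1
        simpa using this
      exact h2.symm
  have hVp : IsPGroup p V := by
    intro v
    refine ⟨1, ?_⟩
    rw [pow_one]
    apply Subtype.ext
    have := hVexp v v.2
    simpa using this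
  have hirr : ∀ U : Subgroup V, (∀ k, ∀ v ∈ U, c.ρ k v ∈ U) → (∀ v ∈ U, c.s v ∈ U) →
      U = ⊥ ∨ U = ⊤ := by
    intro U hUK hUs
    by_cases hU : U = ⊥
    · exact Or.inl hU
    right
    have hNn : (U.map V.subtype).Normal := by
      constructor
      rintro _ ⟨u, hu, rfl⟩ g
      refine ⟨ρ (g : G ⧸ C) u, hUK _ u hu, ?_⟩
      show ((ρ (g : G ⧸ C) u : V) : G) = g * (u : G) * g⁻¹
      exact hρ g u
    have hNσ : ∀ x ∈ U.map V.subtype, σ x ∈ U.map V.subtype := by
      rintro _ ⟨u, hu, rfl⟩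
      exact ⟨s u, hUs u hu, rfl⟩
    have hNne : U.map V.subtype ≠ ⊥ := by
      intro h
      apply hU
      rw [Subgroup.map_eq_bot_iff_of_injective U V.subtype_injective] at h
      exact h
    have hNle : U.map V.subtype ≤ V := by
      rintro _ ⟨u, _, rfl⟩
      exact u.2
    have hNV := hVmin _ hNn hNσ hNne hNle
    rw [eq_top_iff]
    intro v _
    have hv : (v : G) ∈ U.map V.subtype := by rw [hNV]; exact v.2
    obtain ⟨u, hu, huv⟩ := hv
    have : u = v := Subtype.ext huv
    rw [← this]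
    exact hu
  have hKcomm := c.comm_of_irreducible hoddK hinj p hVp hirr
  -- `G' ≤ C`
  have hG'C : commutator G ≤ C := by
    rw [commutator_def, Subgroup.commutator_le]
    intro g₁ _ g₂ _
    rw [← QuotientGroup.eq_one_iff (N := C), commutatorElement_def]
    have h1 : (((g₁ * g₂ * g₁⁻¹ * g₂⁻¹ : G)) : G ⧸ C) =
        (g₁ : G ⧸ C) * (g₂ : G ⧸ C) * (g₁ : G ⧸ C)⁻¹ * (g₂ : G ⧸ C)⁻¹ := rfl
    rw [h1, hKcomm (g₁ : G ⧸ C) (g₂ : G ⧸ C), mul_inv_cancel_right, mul_inv_cancel]
  -- induction on `G ⧸ V`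
  have hltV : Nat.card (G ⧸ V) < n := by
    rw [← hn, Subgroup.card_eq_card_quotient_mul_card_subgroup V]
    have h2 : 2 ≤ Nat.card V := by
      have : 0 < Nat.card V := Nat.card_pos
      omega
    have h3 : 0 < Nat.card (G ⧸ V) := Nat.card_pos
    nlinarith
  have hnilQ : Group.IsNilpotent (commutator (G ⧸ V)) :=
    IH _ hltV (G ⧸ V) rfl inferInstance (QuotientGroup.congr V V σ hVmap)
      (quot_pow4 σ hσ4 V hVmap) (quot_fpf σ hfpf V hVmap)
  let f : commutator G →* commutator (G ⧸ V) :=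
    ((QuotientGroup.mk' V).comp (commutator G).subtype).codRestrict (commutator (G ⧸ V)) (by
      intro x
      have h1 : (QuotientGroup.mk' V) (x : G) ∈
          Subgroup.map (QuotientGroup.mk' V) (⁅(⊤ : Subgroup G), (⊤ : Subgroup G)⁆ : Subgroup G) :=
        ⟨x, (show (x : G) ∈ (⁅(⊤ : Subgroup G), (⊤ : Subgroup G)⁆ : Subgroup G) from x.2), rfl⟩
      rw [Subgroup.map_commutator] at h1
      rw [commutator_def]
      exact Subgroup.commutator_mono le_top le_top h1)
  apply Subgroup.isNilpotent_of_ker_le_center f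
  intro x hx
  rw [MonoidHom.mem_ker] at hx
  have hxV : (x : G) ∈ V := by
    have h1 := congrArg Subtype.val hx
    have h2 : ((x : G) : G ⧸ V) = 1 := h1
    exact (QuotientGroup.eq_one_iff _).mp h2
  rw [Subgroup.mem_center_iff]
  intro y
  apply Subtype.ext
  have hyC : (y : G) ∈ C := hG'C y.2
  rw [hCmem] at hyC
  have := hyC _ hxV
  show (y : G) * x = x * y
  exact this.symm

end Cfsg.Agent.Lib.Helper34.Fpf4
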