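import Cfsg.Agent.Lib.Helper34.YoshidaAbs
import Cfsg.Agent.Lib.Helper88.BisetTransfer
import Cfsg.Agent.Lib.Helper88.CharBisetPt
import Cfsg.Agent.Lib.Helper54.FusFoc

set_option autoImplicit false

/-!
# Yoshida's transfer theorem for saturated fusion systems

If `S` has no quotient `Z_p ≀ Z_p` and `F` is a saturated fusion system over `S`, then the focal
subgroup of `F` is the focal subgroup of the normalizer system of `S`.  The transfer is that of the
characteristic biset (through Park's group); its value is computed by the Mackey formula and the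
abstract factor lemma.
-/

namespace Cfsg.Agent.Lib.Helper34.FusYoshida

open Cfsg Cfsg.FusionSystem MulAction
open Cfsg.Agent.Lib.Helper88
open Cfsg.Agent.Lib.Helper87 (hom_le hom_mem_S restrict_mem)
open Cfsg.Agent.Lib.Helper34.Yoshida
open Cfsg.Agent.Lib.Helper54.FusFoc Cfsg.Agent.Lib.Helper54.FusFix

variable {Ω : Type*} [Group Ω] {S : Subgroup Ω}

/-- the values of `lam` are invariant under the maps of the system, on the elements satisfying `C` -/
def FStable (F : FusionSystem S) {T : Type*} (lam : S → T) (C : Ω → Prop) : Prop :=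
  ∀ (Q : Subgroup Ω) (ψ : Q →* Ω) (hψ : ψ ∈ F.Hom Q) (v : Q), C (v : Ω) →
    lam ⟨ψ v, hom_mem_S F hψ v⟩ = lam ⟨(v : Ω), hom_le F hψ v.2⟩

/-- the Mackey homomorphisms of Park's group are `lam` composed with maps of the system -/
theorem mackey_park [Finite S] {F : FusionSystem S} {m : Subgroup (S × S) → ℕ} (hgen : Gen F m)
    (x₀ : OrbSum m) {T : Type*} [CommGroup T] (lam : S →* T)
    (q₀ : ParkGroup m ⧸ parkStab m x₀) :
    ∃ (Q : Subgroup Ω) (ψ : Q →* Ω) (hψ : ψ ∈ F.Hom Q),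
      ∀ (v : S) (hd : (⟨parkι m v, ⟨v, rfl⟩⟩ : (parkι m).range) ∈
          stabilizer (parkι m).range q₀),
        ∃ hvQ : (v : Ω) ∈ Q,
          mackeyHom (parkStab m x₀) (parkι m).range (parkϕ hgen x₀ lam) q₀
            ⟨⟨parkι m v, ⟨v, rfl⟩⟩, hd⟩ = lam ⟨ψ ⟨v, hvQ⟩, hom_mem_S F hψ _⟩ := by
  obtain ⟨Q, ψ, hψ, hD⟩ := inTw_stabilizer hgen ((Quotient.out q₀ : ParkGroup m).1 x₀)
  refine ⟨Q, ψ, hψ, ?_⟩
  intro v hd
  have hmem := mackey_mem (parkStab m x₀) (parkι m).range q₀ ⟨⟨parkι m v, ⟨v, rfl⟩⟩, hd⟩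
  obtain ⟨s, hs1, hs2⟩ := parkϕ_conj hgen x₀ lam (Quotient.out q₀) v hmem
  obtain ⟨q, hq1, hq2⟩ := (hD _).mp hs1
  have hq1' : (q : Ω) = (v : Ω) := hq1
  have hvQ : (v : Ω) ∈ Q := by
    rw [← hq1']; exact q.2
  refine ⟨hvQ, ?_⟩
  have e : (⟨(v : Ω), hvQ⟩ : Q) = q := Subtype.ext hq1'.symm
  have hs : s = ⟨ψ ⟨v, hvQ⟩, hom_mem_S F hψ _⟩ := by
    apply Subtype.ext
    rw [e]
    exact hq2.symm
  rw [← hs, mackeyHom_apply]
  exact hs2

theorem noWreath_of_equiv {p : ℕ} [Fact p.Prime] {P P' : Type*} [Group P] [Group P']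
    (e : P' ≃* P) (h : NoWreath p P) : NoWreath p P' := by
  rintro ⟨Q, f, hf⟩
  exact h ⟨Q, f.comp e.symm.toMonoidHom, hf.comp e.symm.surjective⟩

set_option maxHeartbeats 1600000 in
/-- the value of the transfer of the biset -/
theorem fus_key [Finite S] {p : ℕ} [Fact p.Prime] (hS : IsPGroup p S) (hno : NoWreath p S)
    {F : FusionSystem S} {m : Subgroup (S × S) → ℕ} (hgen : Gen F m) (x₀ : OrbSum m)
    {T : Type*} [CommGroup T] (lam : S →* T)
    (hinv : ∀ (Q : Subgroup Ω) (ψ : Q →* Ω) (hψ : ψ ∈ F.Hom Q), S ≤ Q → ∀ v : Q,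
      lam ⟨ψ v, hom_mem_S F hψ v⟩ = lam ⟨(v : Ω), hom_le F hψ v.2⟩)
    (hstab : FStable F (fun s => lam s ^ p) (fun _ => True))
    (u : S) (IH : FStable F lam (fun w => orderOf w < orderOf (u : Ω))) :
    bisetTransfer hgen x₀ lam u = lam u ^ (parkStab m x₀).index := by
  classical
  have hinj := parkι_injective hgen x₀
  obtain ⟨e, he⟩ : ∃ e : S ≃* (parkι m).range, ∀ v : S, e v = ⟨parkι m v, ⟨v, rfl⟩⟩ :=
    ⟨MonoidHom.ofInjective hinj, fun v => rfl⟩
  obtain ⟨lam', hlam'def⟩ : ∃ lam' : (parkι m).range →* T, lam' = lam.comp e.symm.toMonoidHom :=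
    ⟨_, rfl⟩
  have hlam' : ∀ v : S, lam' ⟨parkι m v, ⟨v, rfl⟩⟩ = lam v := by
    intro v
    rw [hlam'def, ← he v]
    simp
  have hPK : IsPGroup p (parkι m).range := hS.of_equiv e
  have hnoK : NoWreath p (parkι m).range := noWreath_of_equiv e.symm hno
  have hord : ∀ v : S, orderOf (⟨parkι m v, ⟨v, rfl⟩⟩ : (parkι m).range) = orderOf (v : Ω) := by
    intro v
    rw [← he v, MulEquiv.orderOf_eq, Subgroup.orderOf_coe]
  letI : Fintype (Quotient (MulAction.orbitRel (parkι m).range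
    (ParkGroup m ⧸ parkStab m x₀))) := Fintype.ofFinite _
  have hm := mackey_transfer (parkStab m x₀) (parkι m).range (parkϕ hgen x₀ lam)
    ⟨parkι m u, ⟨u, rfl⟩⟩
  have hfac : ∀ ω : Quotient (MulAction.orbitRel (parkι m).range (ParkGroup m ⧸ parkStab m x₀)),
      MonoidHom.transfer (mackeyHom (parkStab m x₀) (parkι m).range (parkϕ hgen x₀ lam)
        (Quotient.out ω)) ⟨parkι m u, ⟨u, rfl⟩⟩ =
      lam' ⟨parkι m u, ⟨u, rfl⟩⟩ ^
        (stabilizer (parkι m).range (Quotient.out ω)).index := by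
    intro ω
    obtain ⟨Q, ψ, hψ, hQ⟩ := mackey_park hgen x₀ lam (Quotient.out ω)
    have hrep : ∀ d : stabilizer (parkι m).range (Quotient.out ω), ∃ (v : S)
        (hd : (⟨parkι m v, ⟨v, rfl⟩⟩ : (parkι m).range) ∈
          stabilizer (parkι m).range (Quotient.out ω)),
        d = ⟨⟨parkι m v, ⟨v, rfl⟩⟩, hd⟩ := by
      rintro ⟨⟨k, ⟨v, rfl⟩⟩, hd⟩
      exact ⟨v, hd, rfl⟩
    refine factor_abs hPK hnoK lam' _ _ ?_ ?_ _ ?_
    · intro htop d
      have hSQ : S ≤ Q := by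
        intro w hw
        have hd : (⟨parkι m ⟨w, hw⟩, ⟨⟨w, hw⟩, rfl⟩⟩ : (parkι m).range) ∈
            stabilizer (parkι m).range (Quotient.out ω) := by
          rw [htop]; trivial
        obtain ⟨hvQ, -⟩ := hQ ⟨w, hw⟩ hd
        exact hvQ
      obtain ⟨v, hd, rfl⟩ := hrep d
      obtain ⟨hvQ, hμ⟩ := hQ v hd
      rw [hμ]
      show _ = lam' ⟨parkι m v, ⟨v, rfl⟩⟩
      rw [hlam']
      exact hinv Q ψ hψ hSQ ⟨v, hvQ⟩
    · intro d
      obtain ⟨v, hd, rfl⟩ := hrep d
      obtain ⟨hvQ, hμ⟩ := hQ v hd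
      rw [hμ]
      show _ = lam' ⟨parkι m v, ⟨v, rfl⟩⟩ ^ p
      rw [hlam']
      exact hstab Q ψ hψ ⟨v, hvQ⟩ trivial
    · intro d hlt
      obtain ⟨v, hd, rfl⟩ := hrep d
      obtain ⟨hvQ, hμ⟩ := hQ v hd
      rw [hμ]
      show _ = lam' ⟨parkι m v, ⟨v, rfl⟩⟩
      rw [hlam']
      have hlt' : orderOf (⟨parkι m v, ⟨v, rfl⟩⟩ : (parkι m).range) <
          orderOf (⟨parkι m u, ⟨u, rfl⟩⟩ : (parkι m).range) := hlt
      rw [hord, hord] at hlt'
      exact IH Q ψ hψ ⟨v, hvQ⟩ hlt'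
  unfold bisetTransfer
  rw [MonoidHom.comp_apply]
  have hm' : MonoidHom.transfer (parkϕ hgen x₀ lam) (parkι m u) = _ := hm
  rw [hm', Finset.prod_congr rfl (fun ω _ => hfac ω), Finset.prod_pow_eq_pow_sum,
    sum_index_stabilizer, hlam']

/-- one step: stability of the `p`-th power gives stability -/
theorem fus_step [Finite S] {p : ℕ} [Fact p.Prime] (hS : IsPGroup p S) (hno : NoWreath p S)
    {F : FusionSystem S} {m : Subgroup (S × S) → ℕ} (hgen : Gen F m) (hst0 : StabGe F m 0)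
    (x₀ : OrbSum m) (hidx : ¬ p ∣ (parkStab m x₀).index)
    {T : Type*} [CommGroup T] (lam : S →* T)
    (hinv : ∀ (Q : Subgroup Ω) (ψ : Q →* Ω) (hψ : ψ ∈ F.Hom Q), S ≤ Q → ∀ v : Q,
      lam ⟨ψ v, hom_mem_S F hψ v⟩ = lam ⟨(v : Ω), hom_le F hψ v.2⟩)
    (hstab : FStable F (fun s => lam s ^ p) (fun _ => True)) :
    FStable F lam (fun _ => True) := by
  have hp : p.Prime := Fact.out
  have main : ∀ n : ℕ, FStable F lam (fun w => orderOf w = n) := by
    intro n
    induction n using Nat.strong_induction_on with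
    | _ n ih =>
      intro Q ψ hψ v hvn
      have IH : FStable F lam (fun w => orderOf w < orderOf (v : Ω)) := by
        intro Q' ψ' hψ' w hlt
        exact ih (orderOf (w : Ω)) (by rw [← hvn]; exact hlt) Q' ψ' hψ' w rfl
      have hord : orderOf (ψ v) = orderOf (v : Ω) := by
        rw [orderOf_injective ψ (F.injective_of_mem hψ) v, Subgroup.orderOf_coe]
      have IH' : FStable F lam (fun w => orderOf w < orderOf (ψ v)) := by
        rw [hord]; exact IH
      have k1 := fus_key hS hno hgen x₀ lam hinv hstab ⟨(v : Ω), hom_le F hψ v.2⟩ IH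
      have k2 := fus_key hS hno hgen x₀ lam hinv hstab ⟨ψ v, hom_mem_S F hψ v⟩ IH'
      have k3 := bisetTransfer_map F hgen hst0 x₀ lam (hom_le F hψ) hψ v
      rw [k3, k1] at k2
      have hq : (lam ⟨ψ v, hom_mem_S F hψ v⟩ / lam ⟨(v : Ω), hom_le F hψ v.2⟩) ^
          (parkStab m x₀).index = 1 := by
        rw [div_pow, ← k2, div_self']
      have hq2 : (lam ⟨ψ v, hom_mem_S F hψ v⟩ / lam ⟨(v : Ω), hom_le F hψ v.2⟩) ^
          Nat.card S = 1 := by
        rw [div_pow, ← map_pow, ← map_pow, pow_card_eq_one', pow_card_eq_one', map_one, div_one]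
      obtain ⟨k, hk⟩ := IsPGroup.iff_card.mp hS
      have hcop : Nat.Coprime (parkStab m x₀).index (Nat.card S) := by
        rw [hk]
        exact Nat.Coprime.pow_right k ((Nat.Prime.coprime_iff_not_dvd hp).mpr hidx).symm
      have hone : orderOf (lam ⟨ψ v, hom_mem_S F hψ v⟩ / lam ⟨(v : Ω), hom_le F hψ v.2⟩) = 1 := by
        have d1 := orderOf_dvd_of_pow_eq_one hq
        have d2 := orderOf_dvd_of_pow_eq_one hq2
        exact Nat.eq_one_of_dvd_coprimes hcop d1 d2
      rw [orderOf_eq_one_iff, div_eq_one] at hone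
      exact hone
  intro Q ψ hψ v _
  exact main (orderOf (v : Ω)) Q ψ hψ v rfl

/-- downward induction: invariance under the automorphisms of `S` alone gives stability -/
theorem fus_stable_of_inv [Finite S] {p : ℕ} [Fact p.Prime] (hS : IsPGroup p S)
    (hno : NoWreath p S)
    {F : FusionSystem S} {m : Subgroup (S × S) → ℕ} (hgen : Gen F m) (hst0 : StabGe F m 0)
    (x₀ : OrbSum m) (hidx : ¬ p ∣ (parkStab m x₀).index)
    {T : Type*} [CommGroup T] (lam : S →* T)
    (hinv : ∀ (Q : Subgroup Ω) (ψ : Q →* Ω) (hψ : ψ ∈ F.Hom Q), S ≤ Q → ∀ v : Q,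
      lam ⟨ψ v, hom_mem_S F hψ v⟩ = lam ⟨(v : Ω), hom_le F hψ v.2⟩) :
    FStable F lam (fun _ => True) := by
  obtain ⟨J, hJ⟩ := IsPGroup.iff_card.mp hS
  have claim : ∀ k : ℕ, k ≤ J →
      FStable F ((powMonoidHom (p ^ (J - k)) : T →* T).comp lam) (fun _ => True) := by
    intro k
    induction k with
    | zero =>
      intro _ Q ψ hψ v _
      rw [Nat.sub_zero, MonoidHom.comp_apply, MonoidHom.comp_apply, powMonoidHom_apply,
        powMonoidHom_apply, ← map_pow, ← map_pow, ← hJ, pow_card_eq_one', pow_card_eq_one']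
    | succ k ih =>
      intro hk
      refine fus_step hS hno hgen hst0 x₀ hidx
        ((powMonoidHom (p ^ (J - (k + 1))) : T →* T).comp lam) ?_ ?_
      · intro Q ψ hψ hSQ v
        rw [MonoidHom.comp_apply, MonoidHom.comp_apply, hinv Q ψ hψ hSQ v]
      · intro Q ψ hψ v _
        have h1 := ih (by omega) Q ψ hψ v trivial
        have e : p ^ (J - k) = p ^ (J - (k + 1)) * p := by
          rw [← pow_succ]; congr 1; omega
        rw [e] at h1
        simpa [MonoidHom.comp_apply, powMonoidHom_apply, pow_mul] using h1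
  have h1 := claim J le_rfl
  intro Q ψ hψ v _
  have h2 := h1 Q ψ hψ v trivial
  simpa [MonoidHom.comp_apply, powMonoidHom_apply] using h2

/-- a map of the system defined on `S` is a map of the normalizer system of `S` -/
theorem mem_normalizerHom_top [Finite S] (F : FusionSystem S) {ψ : S →* Ω} (hψ : ψ ∈ F.Hom S) :
    ψ ∈ F.normalizerHom S S := by
  have hr : ψ.range = S := range_eq_of_forall_mem F hψ (hom_mem_S F hψ)
  have hle : S ⊔ S ≤ S := sup_le le_rfl le_rfl
  refine ⟨hψ, le_inf le_rfl Subgroup.le_normalizer,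
    fun x => ⟨hom_mem_S F hψ x, Subgroup.le_normalizer (hom_mem_S F hψ x)⟩,
    ψ.comp (Subgroup.inclusion hle), restrict_mem F hψ hle, fun x => ?_, ?_⟩
  · rw [MonoidHom.comp_apply]
    congr 1
  · ext y
    constructor
    · rintro ⟨z, -, rfl⟩
      exact hom_mem_S F hψ _
    · intro hy
      rw [← hr] at hy
      obtain ⟨x, rfl⟩ := hy
      refine ⟨Subgroup.inclusion le_sup_left x, ?_, ?_⟩
      · show _ ∈ S.subgroupOf (S ⊔ S)
        rw [Subgroup.mem_subgroupOf]
        exact x.2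
      · rw [MonoidHom.comp_apply]
        congr 1

/-- **Yoshida's theorem for saturated fusion systems.** -/
theorem focal_le_focN_of_noWreath [Finite S] {p : ℕ} [Fact p.Prime] (hS : IsPGroup p S)
    (F : FusionSystem S) (hF : F.IsSaturated p) (hno : NoWreath p S) :
    F.focalSubgroup ≤ focN F S := by
  obtain ⟨m, hgen, hst0, ⟨n, hcard, hpn⟩, x₀, -⟩ := exists_char_biset_pt hS F hF
  have hidx : ¬ p ∣ (parkStab m x₀).index := by
    have h1 := index_parkStab hgen x₀
    rw [hcard] at h1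
    have h2 : (parkStab m x₀).index = n := Nat.eq_of_mul_eq_mul_right Nat.card_pos h1
    rw [h2]; exact hpn
  -- the quotient of `S` by the focal subgroup of the normalizer system
  have hcomm : ∀ s : S, s ∈ _root_.commutator S → (s : Ω) ∈ focN F S := by
    intro s hs
    have h1 : ⁅S, S⁆ ≤ focN F S := commutator_le_focN F le_rfl Subgroup.le_normalizer
    apply h1
    rw [← Subgroup.map_subtype_commutator]
    exact ⟨s, hs, rfl⟩
  obtain ⟨K0, hK0⟩ : ∃ K0 : Subgroup S, K0 = (focN F S).subgroupOf S := ⟨_, rfl⟩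
  obtain ⟨lam, hlam⟩ : ∃ lam : S →* Abelianization S ⧸ (K0.map Abelianization.of),
      lam = (QuotientGroup.mk' _).comp Abelianization.of := ⟨_, rfl⟩
  have hker : ∀ s : S, lam s = 1 → (s : Ω) ∈ focN F S := by
    intro s hs
    rw [hlam, MonoidHom.comp_apply, QuotientGroup.mk'_apply, QuotientGroup.eq_one_iff] at hs
    obtain ⟨k, hk, hks⟩ := hs
    have h1 : k⁻¹ * s ∈ _root_.commutator S := by
      rw [← Abelianization.ker_of, MonoidHom.mem_ker, map_mul, map_inv, hks, inv_mul_cancel]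
    have h2 := hcomm _ h1
    have h3 : (k : Ω) ∈ focN F S := by
      rw [hK0] at hk
      exact Subgroup.mem_subgroupOf.mp hk
    have h4 : (s : Ω) = (k : Ω) * ((k⁻¹ * s : S) : Ω) := by
      simp
    rw [h4]
    exact Subgroup.mul_mem _ h3 h2
  have hker' : ∀ s : S, (s : Ω) ∈ focN F S → lam s = 1 := by
    intro s hs
    rw [hlam, MonoidHom.comp_apply, QuotientGroup.mk'_apply, QuotientGroup.eq_one_iff]
    refine ⟨s, ?_, rfl⟩
    rw [hK0]
    exact Subgroup.mem_subgroupOf.mpr hs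
  have hinv : ∀ (Q : Subgroup Ω) (ψ : Q →* Ω) (hψ : ψ ∈ F.Hom Q), S ≤ Q → ∀ v : Q,
      lam ⟨ψ v, hom_mem_S F hψ v⟩ = lam ⟨(v : Ω), hom_le F hψ v.2⟩ := by
    intro Q ψ hψ hSQ v
    obtain rfl : Q = S := le_antisymm (hom_le F hψ) hSQ
    have h1 := mem_focN F (mem_normalizerHom_top F hψ) v
    have h2 : lam ((⟨(v : Ω), hom_le F hψ v.2⟩ : Q)⁻¹ * ⟨ψ v, hom_mem_S F hψ v⟩) = 1 :=
      hker' _ h1
    rw [map_mul, map_inv, inv_mul_eq_one] at h2
    exact h2.symm
  have hstable := fus_stable_of_inv hS hno hgen hst0 x₀ hidx lam hinv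
  unfold focalSubgroup
  rw [Subgroup.closure_le]
  rintro y ⟨P, φ, x, hφ, rfl⟩
  have h1 := hstable P φ hφ x trivial
  have h2 : lam ((⟨(x : Ω), hom_le F hφ x.2⟩ : S)⁻¹ * ⟨φ x, hom_mem_S F hφ x⟩) = 1 := by
    rw [map_mul, map_inv, inv_mul_eq_one]
    exact h1.symm
  exact hker _ h2

end Cfsg.Agent.Lib.Helper34.FusYoshida
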