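import Mathlib
import Cfsg.Agent.Lib.Helper70.Kulakoff4
import Cfsg.Agent.Lib.Helper73.MaxClass
import Cfsg.Agent.Lib.Helper73.CyclicMax

set_option autoImplicit false
set_option linter.unusedSectionVars false
set_option linter.style.haveILetI false
set_option linter.unusedVariables false

/-!
Counting subgroups of a 2-group modulo 4: parity of the number of cyclic maximal subgroups.
-/

namespace Cfsg.Agent.Lib.Helper34.KulTwo

open Subgroup Cfsg.Agent.Lib.Helper70 Cfsg.Agent.Lib.Helper73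
open scoped commutatorElement

/-- the number of subgroups of index two above a proper subgroup of a 2-group is odd -/
theorem odd_card_max {X : Type*} [Group X] [Finite X] (hX : IsPGroup 2 X) (H : Subgroup X)
    (hH : H ≠ ⊤) : Odd (Nat.card {M : Subgroup X // M.index = 2 ∧ H ≤ M}) := by
  haveI : Fact (Nat.Prime 2) := ⟨Nat.prime_two⟩
  obtain ⟨e, he⟩ := kk_mu_formula (p := 2) hX H
  obtain ⟨M, hM, hHM⟩ := kk_exists_index_p hX H hH
  have hpos : 0 < Nat.card {M : Subgroup X // M.index = 2 ∧ H ≤ M} := by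
    haveI : Nonempty {M : Subgroup X // M.index = 2 ∧ H ≤ M} := ⟨⟨M, hM, hHM⟩⟩
    exact Nat.card_pos
  have h21 : (2 - 1 : ℕ) = 1 := rfl
  rw [h21, one_mul] at he
  have he0 : e ≠ 0 := by
    rintro rfl
    rw [pow_zero] at he
    omega
  obtain ⟨e', rfl⟩ : ∃ e', e = e' + 1 := ⟨e - 1, by omega⟩
  rw [pow_succ] at he
  exact ⟨2 ^ e' - 1, by have := Nat.one_le_two_pow (n := e'); omega⟩

theorem odd_card_max_all {X : Type*} [Group X] [Finite X] (hX : IsPGroup 2 X) (hnt : Nontrivial X) :
    Odd (Nat.card {M : Subgroup X // M.index = 2}) := by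
  have h := odd_card_max hX ⊥ (by exact bot_ne_top)
  have e : {M : Subgroup X // M.index = 2 ∧ (⊥ : Subgroup X) ≤ M} ≃ {M : Subgroup X // M.index = 2} :=
    Equiv.subtypeEquivRight (fun M => ⟨fun h => h.1, fun h => ⟨h, bot_le⟩⟩)
  rwa [Nat.card_congr e] at h


section CycMax

variable {X : Type*} [Group X] [Finite X]

theorem comm_of_mem_zpowers {f a b : X} (ha : a ∈ zpowers f) (hb : b ∈ zpowers f) :
    Commute a b := by
  obtain ⟨i, rfl⟩ := ha
  obtain ⟨j, rfl⟩ := hb
  exact (Commute.refl f).zpow_zpow i j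

theorem commutator_le_of_index_two {M : Subgroup X} (hM : M.index = 2) : commutator X ≤ M := by
  haveI : Fact (Nat.Prime 2) := ⟨Nat.prime_two⟩
  haveI : M.Normal := Subgroup.normal_of_index_eq_two hM
  have hc : IsCyclic (X ⧸ M) :=
    isCyclic_of_prime_card (p := 2) (by rw [← Subgroup.index_eq_card]; exact hM)
  have : IsMulCommutative (X ⧸ M) := IsCyclic.isMulCommutative
  exact Subgroup.Normal.quotient_commutative_iff_commutator_le.1 this

theorem exists_nat_pow_of_mem_zpowers {f y : X} (hy : y ∈ zpowers f) : ∃ i : ℕ, y = f ^ i := by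
  obtain ⟨i, hi⟩ := (Submonoid.mem_powers_iff _ _).mp (mem_powers_iff_mem_zpowers.mpr hy)
  exact ⟨i, hi.symm⟩

/-- in a noncyclic group with a cyclic subgroup `⟨f⟩` of index two and order `2 ^ k`, the square of
any element is an even power of `f` -/
theorem sq_eq_even_pow {f : X} (hf : (zpowers f).index = 2) (hnc : ¬ IsCyclic X)
    {k : ℕ} (hk : orderOf f = 2 ^ k) (x : X) (hx : x ∉ zpowers f) :
    ∃ j : ℕ, x * x = f ^ (2 * j) := by
  haveI : Fact (Nat.Prime 2) := ⟨Nat.prime_two⟩
  have hx2 : x * x ∈ zpowers f := Subgroup.mul_self_mem_of_index_two hf x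
  obtain ⟨i, hi⟩ := exists_nat_pow_of_mem_zpowers hx2
  rcases Nat.even_or_odd' i with ⟨j, hj | hj⟩
  · exact ⟨j, by rw [hi, hj]⟩
  · exfalso
    apply hnc
    have hcop : (orderOf f).Coprime i := by
      rw [hk, hj]
      apply Nat.Coprime.pow_left
      rw [Nat.coprime_two_left]
      exact ⟨j, rfl⟩
    have ho : orderOf (f ^ i) = orderOf f := Nat.Coprime.orderOf_pow hcop
    have hle : zpowers (f ^ i) ≤ zpowers f :=
      Subgroup.zpowers_le.2 (Subgroup.pow_mem _ (Subgroup.mem_zpowers f) i)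
    have heq : zpowers (f ^ i) = zpowers f := by
      apply Subgroup.eq_of_le_of_card_ge hle
      rw [Nat.card_zpowers, Nat.card_zpowers, ho]
    have hfx : f ∈ zpowers x := by
      have h1 : f ∈ zpowers (f ^ i) := by rw [heq]; exact Subgroup.mem_zpowers f
      have h2 : zpowers (f ^ i) ≤ zpowers x := by
        rw [← hi]
        exact Subgroup.zpowers_le.2 (Subgroup.mul_mem _ (Subgroup.mem_zpowers x) (Subgroup.mem_zpowers x))
      exact h2 h1
    have hCx : zpowers f ≤ zpowers x := Subgroup.zpowers_le.2 hfx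
    rcases kk_eq_or_top_of_index_prime (p := 2) hf hCx with h | h
    · exact absurd (h ▸ Subgroup.mem_zpowers x) hx
    · exact isCyclic_iff_exists_zpowers_eq_top.mpr ⟨x, h⟩


/-- the data for a noncyclic 2-group with a cyclic subgroup of index two whose commutator subgroup
has small exponent -/
structure CycData (X : Type*) [Group X] [Finite X] (f : X) (k : ℕ) : Prop where
  hf : (zpowers f).index = 2
  hnc : ¬ IsCyclic X
  hk : orderOf f = 2 ^ k
  hk2 : 2 ≤ k
  hD : ∀ c ∈ commutator X, c ^ (2 ^ (k - 2)) = 1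

namespace CycData

variable {f : X} {k : ℕ} (h : CycData X f k)

include h

theorem two_pow_eq : 2 ^ (k - 1) = 2 * 2 ^ (k - 2) := by
  obtain ⟨j, rfl⟩ : ∃ j, k = j + 2 := ⟨k - 2, by have := h.hk2; omega⟩
  have e1 : j + 2 - 1 = j + 1 := by omega
  have e2 : j + 2 - 2 = j := by omega
  rw [e1, e2, pow_succ, mul_comm]

theorem two_pow_eq' : 2 ^ k = 2 * 2 ^ (k - 1) := by
  obtain ⟨j, rfl⟩ : ∃ j, k = j + 1 := ⟨k - 1, by have := h.hk2; omega⟩
  have e1 : j + 1 - 1 = j := by omega
  rw [e1, pow_succ, mul_comm]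

theorem card_eq : Nat.card X = 2 * 2 ^ k := by
  have := (zpowers f).card_mul_index
  rw [h.hf, Nat.card_zpowers, h.hk] at this
  omega

theorem pow_mul_hom (x y : X) :
    (x * y) ^ (2 ^ (k - 1)) = x ^ (2 ^ (k - 1)) * y ^ (2 ^ (k - 1)) := by
  have hC : commutator X ≤ zpowers f := commutator_le_of_index_two h.hf
  have hc : x⁻¹ * y * x * y⁻¹ ∈ commutator X := by
    have : ⁅x⁻¹, y⁆ ∈ commutator X :=
      Subgroup.commutator_mem_commutator (Subgroup.mem_top _) (Subgroup.mem_top _)
    rwa [commutatorElement_def, inv_inv] at this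
  have hx2 : x * x ∈ zpowers f := Subgroup.mul_self_mem_of_index_two h.hf x
  have hy2 : y * y ∈ zpowers f := Subgroup.mul_self_mem_of_index_two h.hf y
  have hcC : x⁻¹ * y * x * y⁻¹ ∈ zpowers f := hC hc
  have e : (x * y) * (x * y) = (x * x) * (x⁻¹ * y * x * y⁻¹) * (y * y) := by group
  rw [h.two_pow_eq, pow_mul, pow_mul, pow_mul, pow_two, pow_two, pow_two, e]
  have c1 : Commute (x * x) (x⁻¹ * y * x * y⁻¹) := comm_of_mem_zpowers hx2 hcC
  have c2 : Commute ((x * x) * (x⁻¹ * y * x * y⁻¹)) (y * y) :=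
    comm_of_mem_zpowers (Subgroup.mul_mem _ hx2 hcC) hy2
  rw [c2.mul_pow, c1.mul_pow, h.hD _ hc, mul_one]

theorem pow_eq_one (x : X) : x ^ (2 ^ k) = 1 := by
  by_cases hx : x ∈ zpowers f
  · obtain ⟨i, rfl⟩ := exists_nat_pow_of_mem_zpowers hx
    rw [← pow_mul, mul_comm, pow_mul, ← h.hk, pow_orderOf_eq_one, one_pow]
  · obtain ⟨j, hj⟩ := sq_eq_even_pow h.hf h.hnc h.hk x hx
    rw [h.two_pow_eq', pow_mul, pow_two, hj, ← pow_mul, mul_assoc, mul_comm j, ← mul_assoc,
      ← h.two_pow_eq', pow_mul, ← h.hk, pow_orderOf_eq_one, one_pow]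

theorem half_mem (x : X) : x ^ (2 ^ (k - 1)) ∈ zpowers f := by
  rw [h.two_pow_eq, pow_mul, pow_two]
  exact Subgroup.pow_mem _ (Subgroup.mul_self_mem_of_index_two h.hf x) _

theorem z_ne_one : f ^ (2 ^ (k - 1)) ≠ 1 := by
  intro hz
  have := orderOf_dvd_of_pow_eq_one hz
  rw [h.hk] at this
  have h2 := Nat.le_of_dvd (by positivity) this
  have : k ≤ k - 1 := (Nat.pow_le_pow_iff_right (by norm_num : 1 < 2)).mp h2
  have := h.hk2
  omega

theorem z_mul_z : f ^ (2 ^ (k - 1)) * f ^ (2 ^ (k - 1)) = 1 := by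
  rw [← pow_add, ← two_mul, ← h.two_pow_eq', ← h.hk, pow_orderOf_eq_one]

theorem half_eq (x : X) : x ^ (2 ^ (k - 1)) = 1 ∨ x ^ (2 ^ (k - 1)) = f ^ (2 ^ (k - 1)) := by
  by_cases hx1 : x ^ (2 ^ (k - 1)) = 1
  · exact Or.inl hx1
  · right
    apply eq_pow_half_of_sq_eq_one (m := 2 ^ (k - 1)) _ (h.half_mem x) _ hx1
    · rw [h.hk, h.two_pow_eq']
    · rw [← pow_add, ← two_mul, ← h.two_pow_eq', h.pow_eq_one]

/-- the subgroup of elements of order less than `2 ^ k` -/
def K : Subgroup X where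
  carrier := {x | x ^ (2 ^ (k - 1)) = 1}
  one_mem' := one_pow _
  mul_mem' := by
    intro a b ha hb
    show (a * b) ^ (2 ^ (k - 1)) = 1
    rw [h.pow_mul_hom, ha, hb, one_mul]
  inv_mem' := by
    intro a ha
    show (a⁻¹) ^ (2 ^ (k - 1)) = 1
    rw [inv_pow, ha, inv_one]

theorem mem_K (x : X) : x ∈ h.K ↔ x ^ (2 ^ (k - 1)) = 1 := Iff.rfl

theorem K_index : h.K.index = 2 := by
  rw [Subgroup.index_eq_two_iff]
  refine ⟨f, fun b => ?_⟩
  rw [h.mem_K, h.mem_K, h.pow_mul_hom]
  rcases h.half_eq b with hb | hb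
  · right
    refine ⟨hb, ?_⟩
    rw [hb, one_mul]
    exact h.z_ne_one
  · left
    refine ⟨?_, ?_⟩
    · rw [hb]; exact h.z_mul_z
    · rw [hb]; exact h.z_ne_one

theorem card_of_index_two (N : Subgroup X) (hN : N.index = 2) : Nat.card N = 2 ^ k := by
  have := N.card_mul_index
  rw [hN, h.card_eq] at this
  omega

theorem isCyclic_iff (N : Subgroup X) (hN : N.index = 2) : IsCyclic N ↔ N ≠ h.K := by
  haveI : Fact (Nat.Prime 2) := ⟨Nat.prime_two⟩
  have hcard := h.card_of_index_two N hN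
  obtain ⟨j, hj⟩ : ∃ j, k = j + 1 := ⟨k - 1, by have := h.hk2; omega⟩
  have hj' : k - 1 = j := by omega
  constructor
  · intro hc hNK
    obtain ⟨g, hg⟩ := hc.exists_generator
    have ho : orderOf g = Nat.card N := orderOf_eq_card_of_forall_mem_zpowers hg
    have hgK : (g : X) ∈ h.K := hNK ▸ g.2
    rw [h.mem_K] at hgK
    have := orderOf_dvd_of_pow_eq_one hgK
    rw [Subgroup.orderOf_coe, ho, hcard] at this
    have h2 := Nat.le_of_dvd (by positivity) this
    have : k ≤ k - 1 := (Nat.pow_le_pow_iff_right (by norm_num : 1 < 2)).mp h2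
    omega
  · intro hne
    have hnle : ¬ N ≤ h.K := by
      intro hle
      rcases kk_eq_or_top_of_index_prime (p := 2) hN hle with h1 | h1
      · exact hne h1.symm
      · have := h.K_index
        rw [h1, Subgroup.index_top] at this
        omega
    obtain ⟨x, hxN, hxK⟩ := SetLike.not_le_iff_exists.mp hnle
    rw [h.mem_K, hj'] at hxK
    have hx1 := h.pow_eq_one x
    rw [hj] at hx1
    have ho : orderOf x = 2 ^ (j + 1) := orderOf_eq_prime_pow hxK hx1
    apply isCyclic_of_orderOf_eq_card (⟨x, hxN⟩ : N)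
    rw [Subgroup.orderOf_mk, ho, hcard, hj]

theorem card_cyclic_add_one :
    Nat.card {M : Subgroup X // M.index = 2 ∧ IsCyclic M} + 1 =
      Nat.card {M : Subgroup X // M.index = 2} := by
  rw [← kk_card_subtype_ne (X := {M : Subgroup X // M.index = 2}) ⟨h.K, h.K_index⟩]
  congr 1
  apply Nat.card_congr
  refine ⟨fun M => ⟨⟨M.1, M.2.1⟩, ?_⟩, fun M => ⟨M.1.1, M.1.2, ?_⟩, ?_, ?_⟩
  · intro hM
    exact (h.isCyclic_iff M.1 M.2.1).mp M.2.2 (congrArg Subtype.val hM)
  · apply (h.isCyclic_iff M.1.1 M.1.2).mpr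
    intro hM
    exact M.2 (Subtype.ext hM)
  · intro M; rfl
  · intro M; rfl

end CycData

end CycMax


section Facts

variable {X : Type*} [Group X] [Finite X]

theorem pow_eq_one_of_dvd' {x : X} {a b : ℕ} (h : x ^ a = 1) (hab : a ∣ b) : x ^ b = 1 := by
  obtain ⟨t, rfl⟩ := hab
  rw [pow_mul, h, one_pow]

/-- **Fact 1.** In a noncyclic 2-group of order at least eight which is not of maximal class, the
number of cyclic maximal subgroups is even. -/
theorem even_card_cyclic_max (hX : IsPGroup 2 X) (hnc : ¬ IsCyclic X) (hMC : ¬ MC X) {n : ℕ}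
    (hn : Nat.card X = 2 ^ n) (hn3 : 3 ≤ n) :
    Even (Nat.card {M : Subgroup X // M.index = 2 ∧ IsCyclic M}) := by
  haveI : Fact (Nat.Prime 2) := ⟨Nat.prime_two⟩
  by_cases hex : Nonempty {M : Subgroup X // M.index = 2 ∧ IsCyclic M}
  · obtain ⟨⟨M, hM, hMc⟩⟩ := hex
    obtain ⟨g, hg⟩ := hMc.exists_generator
    have hgtop : zpowers g = ⊤ := (Subgroup.eq_top_iff' _).mpr hg
    have hzM : zpowers (g : X) = M := by
      have h1 : (zpowers g).map M.subtype = zpowers (g : X) := by
        rw [MonoidHom.map_zpowers]; rfl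
      rw [← h1, hgtop, ← MonoidHom.range_eq_map, Subgroup.range_subtype]
    have hcardM : Nat.card M = 2 ^ (n - 1) := by
      have := M.card_mul_index
      rw [hM, hn] at this
      obtain ⟨j, rfl⟩ : ∃ j, n = j + 1 := ⟨n - 1, by omega⟩
      rw [pow_succ] at this
      have e : j + 1 - 1 = j := by omega
      rw [e]; omega
    have hdata : CycData X (g : X) (n - 1) := by
      refine ⟨by rw [hzM]; exact hM, hnc, ?_, by omega, ?_⟩
      · rw [← Nat.card_zpowers, hzM, hcardM]
      · intro c hc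
        by_cases hD1 : commutator X = ⊥
        · rw [hD1, Subgroup.mem_bot] at hc
          rw [hc, one_pow]
        · have h4 := sq_dvd_index_commutator hX hD1
          have hne4 : (commutator X).index ≠ 4 := fun h => hMC ⟨h, hD1⟩
          have hdvd : (commutator X).index ∣ 2 ^ n := hn ▸ Subgroup.index_dvd_card _
          obtain ⟨j, hjn, hj⟩ := (Nat.dvd_prime_pow Nat.prime_two).1 hdvd
          have hj3 : 3 ≤ j := by
            by_contra hlt
            push Not at hlt
            rw [hj] at h4 hne4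
            interval_cases j
            · norm_num at h4
            · norm_num at h4
            · norm_num at hne4
          have hcardD : Nat.card (commutator X) * 2 ^ j = 2 ^ n := by
            rw [← hj, ← hn]; exact Subgroup.card_mul_index _
          have hcardD' : Nat.card (commutator X) = 2 ^ (n - j) := by
            have e : 2 ^ n = 2 ^ (n - j) * 2 ^ j := by
              rw [← pow_add]; congr 1; omega
            rw [e] at hcardD
            exact Nat.eq_of_mul_eq_mul_right (by positivity) hcardD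
          have h2 : c ^ Nat.card (commutator X) = 1 := by
            rw [← orderOf_dvd_iff_pow_eq_one, ← Subgroup.orderOf_mk c hc]
            exact orderOf_dvd_natCard _
          apply pow_eq_one_of_dvd' h2
          rw [hcardD']
          exact pow_dvd_pow 2 (by omega)
    have h1 := hdata.card_cyclic_add_one
    have hnt : Nontrivial X := by
      apply (Finite.one_lt_card_iff_nontrivial).mp
      rw [hn]
      exact Nat.one_lt_two_pow (by omega)
    obtain ⟨r, hr⟩ := odd_card_max_all hX hnt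
    exact ⟨r, by omega⟩
  · rw [not_nonempty_iff] at hex
    rw [Nat.card_of_isEmpty]
    exact ⟨0, rfl⟩


theorem exists_eq_mul_zpow {a b x : X} (ha : (zpowers a).index = 2) (hb : b ∉ zpowers a)
    (hx : x ∉ zpowers a) : ∃ i : ℤ, x = b * a ^ i := by
  have h1 : b⁻¹ * x ∈ zpowers a := by
    rw [Subgroup.mul_mem_iff_of_index_two ha, Subgroup.inv_mem_iff]
    exact ⟨fun h => absurd h hb, fun h => absurd h hx⟩
  obtain ⟨i, hi⟩ := h1
  refine ⟨i, ?_⟩
  simp only [] at hi
  rw [hi]; group

theorem conj_eq_of_not_mem {a b x : X} (ha : (zpowers a).index = 2) (hb : b ∉ zpowers a)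
    (hx : x ∉ zpowers a) : x * a * x⁻¹ = b * a * b⁻¹ := by
  obtain ⟨i, rfl⟩ := exists_eq_mul_zpow ha hb hx
  group

theorem am_sq {a : X} {m : ℕ} (hm : orderOf a = 2 * m) : a ^ m * a ^ m = 1 := by
  rw [← pow_add, ← two_mul, ← hm, pow_orderOf_eq_one]

theorem mc_outside_sq {a b : X} {m : ℕ} (hm : orderOf a = 2 * m) (ha : (zpowers a).index = 2)
    (hb : b ∉ zpowers a)
    (hcases : (b * a * b⁻¹ = a⁻¹ ∧ b * b = 1) ∨ (b * a * b⁻¹ = a⁻¹ ∧ b * b = a ^ m) ∨
       (b * a * b⁻¹ = a⁻¹ * a ^ m ∧ b * b = 1 ∧ 4 ≤ m)) :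
    (∀ x, x ∉ zpowers a → x * x = 1) ∨ (∀ x, x ∉ zpowers a → x * x = a ^ m) ∨
      (4 ≤ m ∧ ∀ x, x ∉ zpowers a → (x * x) * (x * x) = 1) := by
  have key : ∀ i : ℤ, (b * a ^ i) * (b * a ^ i) = (b * a * b⁻¹) ^ i * (b * b) * a ^ i := by
    intro i
    rw [conj_zpow]; group
  rcases hcases with ⟨hc, hbb⟩ | ⟨hc, hbb⟩ | ⟨hc, hbb, hm4⟩
  · left
    intro x hx
    obtain ⟨i, rfl⟩ := exists_eq_mul_zpow ha hb hx
    rw [key, hc, hbb, mul_one, inv_zpow, inv_mul_cancel]
  · right; left
    intro x hx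
    obtain ⟨i, rfl⟩ := exists_eq_mul_zpow ha hb hx
    rw [key, hc, hbb, inv_zpow, ← zpow_natCast, ← zpow_neg, ← zpow_add, ← zpow_add]
    congr 1; ring
  · right; right
    refine ⟨hm4, ?_⟩
    intro x hx
    obtain ⟨i, rfl⟩ := exists_eq_mul_zpow ha hb hx
    have hcomm : Commute a⁻¹ (a ^ m) := (Commute.refl a).inv_left.pow_right m
    have e1 : (b * a ^ i) * (b * a ^ i) = (a ^ m) ^ i := by
      have c2 : Commute ((a ^ m) ^ i) (a ^ i) := ((Commute.refl a).pow_left m).zpow_zpow i i
      rw [key, hc, hbb, mul_one, hcomm.mul_zpow, inv_zpow, mul_assoc, c2.eq,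
        ← mul_assoc, inv_mul_cancel, one_mul]
    rw [e1, ← (Commute.refl (a ^ m)).mul_zpow, am_sq hm, one_zpow]


/-- if no element outside the cyclic subgroup `⟨a⟩` of index two has order `|⟨a⟩|`, then `⟨a⟩` is
the only cyclic maximal subgroup -/
theorem card_cyclic_max_eq_one {a : X} (ha : (zpowers a).index = 2)
    (hout : ∀ x, x ∉ zpowers a → orderOf x ≠ orderOf a) :
    Nat.card {M : Subgroup X // M.index = 2 ∧ IsCyclic M} = 1 := by
  rw [Nat.card_eq_one_iff_unique]
  refine ⟨⟨?_⟩, ⟨⟨zpowers a, ha, inferInstance⟩⟩⟩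
  have key : ∀ N : {M : Subgroup X // M.index = 2 ∧ IsCyclic M}, N.1 = zpowers a := by
    rintro ⟨N, hN, hNc⟩
    obtain ⟨g, hg⟩ := hNc.exists_generator
    have ho : orderOf g = Nat.card N := orderOf_eq_card_of_forall_mem_zpowers hg
    have hcard : Nat.card N = orderOf a := by
      have h1 := N.card_mul_index
      have h2 := (zpowers a).card_mul_index
      rw [hN] at h1
      rw [ha, Nat.card_zpowers] at h2
      omega
    have hgC : (g : X) ∈ zpowers a := by
      by_contra hgC
      apply hout _ hgC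
      rw [Subgroup.orderOf_coe, ho, hcard]
    have hle : N ≤ zpowers a := by
      intro y hy
      obtain ⟨i, hi⟩ := hg ⟨y, hy⟩
      have : y = (g : X) ^ i := by
        have := congrArg Subtype.val hi
        simpa using this.symm
      rw [this]
      exact Subgroup.zpow_mem _ hgC i
    rcases kk_eq_or_top_of_index_prime (p := 2) hN hle with h | h
    · exact h.symm
    · rw [h, Subgroup.index_top] at ha
      omega
  intro N N'
  exact Subtype.ext ((key N).trans (key N').symm)

/-- **Fact 2.** A 2-group of maximal class has an odd number of cyclic maximal subgroups. -/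
theorem odd_card_cyclic_max_of_MC (hX : IsPGroup 2 X) (hMC : MC X) :
    Odd (Nat.card {M : Subgroup X // M.index = 2 ∧ IsCyclic M}) := by
  haveI : Fact (Nat.Prime 2) := ⟨Nat.prime_two⟩
  obtain ⟨a, b, m, hm, hG4, hm2, ha, hb, hcases⟩ := exists_generators hX hMC.1 hMC.2
  have h4 : ∀ x : X, (x * x) * (x * x) = 1 → orderOf x ≤ 4 := by
    intro x hx
    apply Nat.le_of_dvd (by norm_num)
    apply orderOf_dvd_of_pow_eq_one
    rw [show (4 : ℕ) = 2 * 2 from rfl, pow_mul, pow_two, pow_two]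
    exact hx
  rcases mc_outside_sq hm ha hb hcases with h1 | h1 | ⟨hm4, h1⟩
  · rw [card_cyclic_max_eq_one ha]
    · exact odd_one
    · intro x hx ho
      have h2 : orderOf x ≤ 2 := by
        apply Nat.le_of_dvd (by norm_num)
        apply orderOf_dvd_of_pow_eq_one
        rw [pow_two]; exact h1 x hx
      omega
  · by_cases hm3 : 3 ≤ m
    · rw [card_cyclic_max_eq_one ha]
      · exact odd_one
      · intro x hx ho
        have := h4 x (by rw [h1 x hx]; exact am_sq hm)
        omega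
    · have hm2' : m = 2 := by omega
      subst hm2'
      have hall : ∀ N : Subgroup X, N.index = 2 → IsCyclic N := by
        intro N hN
        by_cases hNC : N = zpowers a
        · rw [hNC]; infer_instance
        · have hnle : ¬ N ≤ zpowers a := by
            intro hle
            rcases kk_eq_or_top_of_index_prime (p := 2) hN hle with h | h
            · exact hNC h.symm
            · rw [h, Subgroup.index_top] at ha
              omega
          obtain ⟨x, hxN, hxC⟩ := SetLike.not_le_iff_exists.mp hnle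
          have hx2 : x * x = a ^ 2 := h1 x hxC
          have ha2 : a ^ 2 ≠ 1 := by
            intro h
            have := orderOf_dvd_of_pow_eq_one h
            rw [hm] at this
            have := Nat.le_of_dvd (by norm_num) this
            omega
          have ho : orderOf x = 2 ^ (1 + 1) := by
            apply orderOf_eq_prime_pow
            · rw [pow_one, pow_two, hx2]; exact ha2
            · rw [show (2 : ℕ) ^ (1 + 1) = 2 * 2 from rfl, pow_mul, pow_two, pow_two, hx2]
              exact am_sq hm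
          apply isCyclic_of_orderOf_eq_card (⟨x, hxN⟩ : N)
          rw [Subgroup.orderOf_mk, ho]
          have := N.card_mul_index
          rw [hN, hG4] at this
          omega
      have e : {M : Subgroup X // M.index = 2 ∧ IsCyclic M} ≃ {M : Subgroup X // M.index = 2} :=
        Equiv.subtypeEquivRight (fun M => ⟨fun h => h.1, fun h => ⟨h, hall M h⟩⟩)
      rw [Nat.card_congr e]
      apply odd_card_max_all hX
      apply (Finite.one_lt_card_iff_nontrivial).mp
      rw [hG4]; norm_num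
  · rw [card_cyclic_max_eq_one ha]
    · exact odd_one
    · intro x hx ho
      have := h4 x (h1 x hx)
      omega


/-- **Fact 4.** Every maximal subgroup of a 2-group of maximal class and order at least 16 is
cyclic or of maximal class. -/
theorem cyclic_or_MC_of_MC (hX : IsPGroup 2 X) (hMC : MC X) (h16 : 16 ≤ Nat.card X)
    (N : Subgroup X) (hN : N.index = 2) : IsCyclic N ∨ MC N := by
  haveI : Fact (Nat.Prime 2) := ⟨Nat.prime_two⟩
  obtain ⟨a, b, m, hm, hG4, hm2, ha, hb, hcases⟩ := exists_generators hX hMC.1 hMC.2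
  obtain ⟨n, hn⟩ := (IsPGroup.iff_card).1 hX
  have hn4 : 4 ≤ n := by
    by_contra hlt
    push Not at hlt
    have : 2 ^ n ≤ 2 ^ 3 := Nat.pow_le_pow_right (by norm_num) (by omega)
    omega
  obtain ⟨j, rfl⟩ : ∃ j, n = j + 4 := ⟨n - 4, by omega⟩
  have hmj : m = 2 ^ (j + 2) := by
    have : 4 * m = 4 * 2 ^ (j + 2) := by rw [← hG4, hn]; ring
    omega
  by_cases hNC : N = zpowers a
  · left; rw [hNC]; infer_instance
  right
  have hnle : ¬ N ≤ zpowers a := by
    intro hle
    rcases kk_eq_or_top_of_index_prime (p := 2) hN hle with h | h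
    · exact hNC h.symm
    · rw [h, Subgroup.index_top] at ha
      omega
  obtain ⟨x, hxN, hxC⟩ := SetLike.not_le_iff_exists.mp hnle
  have hcN : a * a ∈ N := Subgroup.mul_self_mem_of_index_two hN a
  have hconj : x * a * x⁻¹ = b * a * b⁻¹ := conj_eq_of_not_mem ha hb hxC
  have hamam : a ^ m * a ^ m = 1 := am_sq hm
  have hconj2 : x * (a * a) * x⁻¹ = (a * a)⁻¹ := by
    have e : x * (a * a) * x⁻¹ = (x * a * x⁻¹) * (x * a * x⁻¹) := by group
    rw [e, hconj]
    rcases hcases with ⟨hc, -⟩ | ⟨hc, -⟩ | ⟨hc, -, -⟩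
    · rw [hc, mul_inv_rev]
    · rw [hc, mul_inv_rev]
    · rw [hc]
      have hcomm : Commute (a ^ m) a⁻¹ := ((Commute.refl a).inv_right).pow_left m
      calc a⁻¹ * a ^ m * (a⁻¹ * a ^ m) = a⁻¹ * (a ^ m * a⁻¹) * a ^ m := by group
        _ = a⁻¹ * (a⁻¹ * a ^ m) * a ^ m := by rw [hcomm.eq]
        _ = a⁻¹ * a⁻¹ * (a ^ m * a ^ m) := by group
        _ = (a * a)⁻¹ := by rw [hamam, mul_one, mul_inv_rev]
  -- inside N
  have hcc : (⟨a * a, hcN⟩ : N) * ⟨a * a, hcN⟩ ∈ commutator N := by
    have h1 : ⁅(⟨x, hxN⟩ : N), ⟨a * a, hcN⟩⁆ ∈ commutator N :=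
      Subgroup.commutator_mem_commutator (Subgroup.mem_top _) (Subgroup.mem_top _)
    have h2 : ⁅(⟨x, hxN⟩ : N), ⟨a * a, hcN⟩⁆ = ((⟨a * a, hcN⟩ : N) * ⟨a * a, hcN⟩)⁻¹ := by
      apply Subtype.ext
      rw [commutatorElement_def]
      show x * (a * a) * x⁻¹ * (a * a)⁻¹ = ((a * a) * (a * a))⁻¹
      rw [hconj2]; group
    rw [h2] at h1
    exact (Subgroup.inv_mem_iff _).mp h1
  have ho4 : orderOf ((a * a) * (a * a)) = 2 ^ (j + 1) := by
    have e : (a * a) * (a * a) = a ^ 4 := by
      rw [show (4 : ℕ) = 2 + 2 from rfl, pow_add, pow_two]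
    rw [e, orderOf_pow_of_dvd (by norm_num), hm, hmj]
    · rw [show 2 * 2 ^ (j + 2) = 2 ^ (j + 1) * 4 by ring]
      exact Nat.mul_div_cancel _ (by norm_num)
    · rw [hm, hmj]
      exact ⟨2 ^ (j + 1), by ring⟩
  have hcardN : Nat.card N = 2 ^ (j + 3) := by
    have := N.card_mul_index
    rw [hN, hn] at this
    have e : 2 ^ (j + 4) = 2 ^ (j + 3) * 2 := by ring
    omega
  have hD1 : commutator N ≠ ⊥ := by
    intro h
    rw [h, Subgroup.mem_bot] at hcc
    have h1 : (a * a) * (a * a) = 1 := by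
      have := congrArg Subtype.val hcc
      simpa using this
    rw [h1, orderOf_one] at ho4
    have : 2 ≤ 2 ^ (j + 1) := by
      calc 2 = 2 ^ 1 := rfl
        _ ≤ 2 ^ (j + 1) := Nat.pow_le_pow_right (by norm_num) (by omega)
    omega
  refine ⟨?_, hD1⟩
  have hle : zpowers ((⟨a * a, hcN⟩ : N) * ⟨a * a, hcN⟩) ≤ commutator N :=
    Subgroup.zpowers_le.2 hcc
  have hidx : (zpowers ((⟨a * a, hcN⟩ : N) * ⟨a * a, hcN⟩)).index = 4 := by
    have h1 := (zpowers ((⟨a * a, hcN⟩ : N) * ⟨a * a, hcN⟩)).card_mul_index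
    rw [Nat.card_zpowers, hcardN] at h1
    have h2 : orderOf ((⟨a * a, hcN⟩ : N) * ⟨a * a, hcN⟩) = 2 ^ (j + 1) := by
      rw [← ho4, ← Subgroup.orderOf_coe]
      rfl
    rw [h2] at h1
    have e : 2 ^ (j + 3) = 2 ^ (j + 1) * 4 := by ring
    rw [e] at h1
    exact Nat.eq_of_mul_eq_mul_left (by positivity) h1
  have hdvd : (commutator N).index ∣ 4 := hidx ▸ Subgroup.index_dvd_of_le hle
  have h4 := sq_dvd_index_commutator (hX.to_subgroup N) hD1
  exact Nat.dvd_antisymm hdvd h4

end Facts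

end Cfsg.Agent.Lib.Helper34.KulTwo
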