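import Mathlib
import Cfsg.Agent.Lib.Helper34.KulTwoA

set_option autoImplicit false
set_option linter.unusedSectionVars false
set_option linter.style.haveILetI false
set_option linter.unusedVariables false

/-!
Counting subgroups of a 2-group modulo 4: parity of the number of maximal subgroups of maximal
class.
-/

namespace Cfsg.Agent.Lib.Helper34.KulTwo

open Subgroup Cfsg.Agent.Lib.Helper70 Cfsg.Agent.Lib.Helper73
open scoped commutatorElement

section Q16

variable {Q : Type*} [Group Q] [Finite Q]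

theorem comm_elt_mul_left (x y u : Q) :
    ⁅x * y, u⁆ = x * ⁅y, u⁆ * x⁻¹ * ⁅x, u⁆ := by
  simp only [commutatorElement_def]; group

/-- a group of order 16 all of whose commutators lie in a subgroup of order two has a central
element outside that subgroup -/
theorem exists_central_not_mem (hQ : Nat.card Q = 16) (Z₀ : Subgroup Q) (hZ₀ : Nat.card Z₀ = 2)
    (hcomm : ∀ u v : Q, ⁅u, v⁆ ∈ Z₀) : ∃ w ∈ center Q, w ∉ Z₀ := by
  haveI : Fact (Nat.Prime 2) := ⟨Nat.prime_two⟩
  have hZn : Z₀.Normal := by
    constructor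
    intro z hz g
    have h1 : ⁅g, z⁆ ∈ Z₀ := hcomm g z
    have e : g * z * g⁻¹ = ⁅g, z⁆ * z := by simp only [commutatorElement_def]; group
    rw [e]
    exact Subgroup.mul_mem _ h1 hz
  have hZc : Z₀ ≤ center Q := le_center_of_normal_card_two Z₀ hZ₀
  have hZne : ∃ w : Q, w ∉ Z₀ := by
    by_contra hall
    push Not at hall
    have : Z₀ = ⊤ := (Subgroup.eq_top_iff' _).mpr hall
    rw [this, Subgroup.card_top, hQ] at hZ₀
    omega
  by_cases hab : ∀ u v : Q, u * v = v * u
  · obtain ⟨w, hw⟩ := hZne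
    exact ⟨w, Subgroup.mem_center_iff.mpr (fun g => hab g w), hw⟩
  push Not at hab
  obtain ⟨u, v, huv⟩ := hab
  -- the two elements of Z₀
  have htwo : ∀ s t : Q, s ∈ Z₀ → t ∈ Z₀ → s ≠ 1 → t ≠ 1 → s = t := by
    intro s t hs ht hs1 ht1
    obtain ⟨y, hy, hyu⟩ := (Nat.card_eq_two_iff' (1 : Z₀)).mp hZ₀
    have h1 := hyu ⟨s, hs⟩ (fun h => hs1 (congrArg Subtype.val h))
    have h2 := hyu ⟨t, ht⟩ (fun h => ht1 (congrArg Subtype.val h))
    exact congrArg Subtype.val (h1.trans h2.symm)
  have hsq : ∀ s : Q, s ∈ Z₀ → s * s = 1 := by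
    intro s hs
    have : (⟨s, hs⟩ : Z₀) ^ Nat.card Z₀ = 1 := pow_card_eq_one'
    rw [hZ₀, pow_two] at this
    exact congrArg Subtype.val this
  -- bilinearity
  have hbil : ∀ x y t : Q, ⁅x * y, t⁆ = ⁅x, t⁆ * ⁅y, t⁆ := by
    intro x y t
    rw [comm_elt_mul_left]
    have hc : ⁅y, t⁆ ∈ center Q := hZc (hcomm y t)
    have h1 : x * ⁅y, t⁆ = ⁅y, t⁆ * x := (Subgroup.mem_center_iff.mp hc x)
    rw [h1, mul_assoc ⁅y, t⁆, mul_inv_cancel, mul_one]
    exact (Subgroup.mem_center_iff.mp hc _).symm
  -- centralizers have index two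
  have hidx : ∀ s t : Q, s * t ≠ t * s → (centralizer ({s} : Set Q)).index = 2 := by
    intro s t hst
    rw [Subgroup.index_eq_two_iff]
    refine ⟨t, fun b => ?_⟩
    rw [Subgroup.mem_centralizer_singleton_iff, Subgroup.mem_centralizer_singleton_iff]
    have hts : ⁅t, s⁆ ≠ 1 := by
      rw [Ne, commutatorElement_eq_one_iff_mul_comm]
      exact fun h => hst h.symm
    have hiff : ∀ c : Q, c * s = s * c ↔ ⁅c, s⁆ = 1 := fun c =>
      (commutatorElement_eq_one_iff_mul_comm).symm
    rw [hiff, hiff, hbil]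
    by_cases hb : ⁅b, s⁆ = 1
    · right
      refine ⟨hb, ?_⟩
      rw [hb, one_mul]; exact hts
    · left
      have : ⁅b, s⁆ = ⁅t, s⁆ := htwo _ _ (hcomm b s) (hcomm t s) hb hts
      refine ⟨?_, hb⟩
      rw [this]; exact hsq _ (hcomm t s)
  have hCu : (centralizer ({u} : Set Q)).index = 2 := hidx u v huv
  have hCv : (centralizer ({v} : Set Q)).index = 2 := hidx v u (fun h => huv h.symm)
  obtain ⟨A, hA⟩ : ∃ A, A = centralizer ({u} : Set Q) ⊓ centralizer ({v} : Set Q) := ⟨_, rfl⟩
  have hAu : A ≤ centralizer ({u} : Set Q) := hA ▸ inf_le_left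
  have hAv : A ≤ centralizer ({v} : Set Q) := hA ▸ inf_le_right
  have huA : u ∉ A := by
    intro h
    have := hAv h
    rw [Subgroup.mem_centralizer_singleton_iff] at this
    exact huv this
  have hcardCu : Nat.card (centralizer ({u} : Set Q)) = 8 := by
    have := (centralizer ({u} : Set Q)).card_mul_index
    rw [hCu, hQ] at this
    omega
  have hAidx : A.index ≤ 4 := by
    have := Subgroup.index_inf_le (H := centralizer ({u} : Set Q)) (K := centralizer ({v} : Set Q))
    rw [hCu, hCv, ← hA] at this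
    exact this
  have hcardA : Nat.card A = 4 := by
    have h1 := A.card_mul_index
    rw [hQ] at h1
    have h2 : Nat.card A ∣ 8 := hcardCu ▸ Subgroup.card_dvd_of_le hAu
    have h3 : Nat.card A ≠ 8 := by
      intro h
      have : A = centralizer ({u} : Set Q) :=
        Subgroup.eq_of_le_of_card_ge hAu (by rw [h, hcardCu])
      apply huA
      rw [this, Subgroup.mem_centralizer_singleton_iff]
    have h4 : Nat.card A ≤ 8 := Nat.le_of_dvd (by norm_num) h2
    have h5 : 0 < A.index := Nat.pos_of_ne_zero (Subgroup.index_ne_zero_of_finite)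
    interval_cases hc : Nat.card A <;> omega
  have hAcomm : ∀ s t : A, s * t = t * s := by
    have hc : IsMulCommutative A :=
      IsPGroup.isMulCommutative_of_card_eq_prime_sq (p := 2) (by rw [hcardA]; norm_num)
    exact isMulCommutative_iff.1 hc
  have hZA : Z₀ ≤ A := by
    intro s hs
    rw [hA, Subgroup.mem_inf, Subgroup.mem_centralizer_singleton_iff,
      Subgroup.mem_centralizer_singleton_iff]
    have := Subgroup.mem_center_iff.mp (hZc hs)
    exact ⟨(this u).symm, (this v).symm⟩
  obtain ⟨w, hwA, hwZ⟩ : ∃ w ∈ A, w ∉ Z₀ := by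
    by_contra hall
    push Not at hall
    have : A ≤ Z₀ := fun s hs => hall s hs
    have := Subgroup.card_le_of_le this
    omega
  refine ⟨w, ?_, hwZ⟩
  -- w commutes with everything
  have hwu : w * u = u * w := Subgroup.mem_centralizer_singleton_iff.mp (hAu hwA)
  have hwv : w * v = v * w := Subgroup.mem_centralizer_singleton_iff.mp (hAv hwA)
  have hwAll : ∀ s ∈ A, s * w = w * s := by
    intro s hs
    have := hAcomm ⟨s, hs⟩ ⟨w, hwA⟩
    exact congrArg Subtype.val this
  have hwCu : ∀ q ∈ centralizer ({u} : Set Q), q * w = w * q := by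
    intro q hq
    have hx := (Subgroup.index_eq_two_iff.mp hCv)
    obtain ⟨a, ha⟩ := hx
    -- use the element u as the coset representative of C(v)
    by_cases hqv : q ∈ centralizer ({v} : Set Q)
    · exact hwAll q (by rw [hA]; exact ⟨hq, hqv⟩)
    · have hquv : q * u ∈ centralizer ({v} : Set Q) := by
        rw [Subgroup.mul_mem_iff_of_index_two hCv]
        constructor
        · intro h; exact absurd h hqv
        · intro h
          rw [Subgroup.mem_centralizer_singleton_iff] at h
          exact absurd h huv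
      have hquu : q * u ∈ centralizer ({u} : Set Q) :=
        Subgroup.mul_mem _ hq (by rw [Subgroup.mem_centralizer_singleton_iff])
      have h1 := hwAll (q * u) (by rw [hA]; exact ⟨hquu, hquv⟩)
      -- q u w = w q u, and u w = w u
      have : q * w * u = w * q * u := by
        calc q * w * u = q * (w * u) := by group
          _ = q * (u * w) := by rw [hwu]
          _ = q * u * w := by group
          _ = w * (q * u) := h1
          _ = w * q * u := by group
      exact mul_right_cancel this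
  rw [Subgroup.mem_center_iff]
  intro q
  by_cases hq : q ∈ centralizer ({u} : Set Q)
  · exact hwCu q hq
  · have hqv : q * v ∈ centralizer ({u} : Set Q) := by
      rw [Subgroup.mul_mem_iff_of_index_two hCu]
      constructor
      · intro h; exact absurd h hq
      · intro h
        rw [Subgroup.mem_centralizer_singleton_iff] at h
        exact absurd h.symm huv
    have h1 := hwCu (q * v) hqv
    have : q * w * v = w * q * v := by
      calc q * w * v = q * (w * v) := by group
        _ = q * (v * w) := by rw [hwv]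
        _ = q * v * w := by group
        _ = w * (q * v) := h1
        _ = w * q * v := by group
    exact mul_right_cancel this

end Q16


section MCMax

variable {X : Type*} [Group X] [Finite X]

/-- commutators lie in a normal subgroup containing all squares -/
theorem commutator_le_of_sq_mem (N : Subgroup X) [hN : N.Normal] (hsq : ∀ g : X, g ^ 2 ∈ N) :
    commutator X ≤ N := by
  rw [commutator_def, Subgroup.commutator_le]
  intro x _ y _
  have e : ⁅x, y⁆ = (x * y) ^ 2 * (y⁻¹ * (x ^ 2)⁻¹ * y⁻¹⁻¹) * (y ^ 2)⁻¹ := by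
    simp only [commutatorElement_def, pow_two]; group
  rw [e]
  refine Subgroup.mul_mem _ (Subgroup.mul_mem _ (hsq _) ?_) (Subgroup.inv_mem _ (hsq _))
  exact hN.conj_mem _ (Subgroup.inv_mem _ (hsq _)) _


theorem cyc_not_mem {c : X} {e : ℕ} (hc : orderOf c = 2 ^ (e + 1)) :
    orderOf (c * c) = 2 ^ e ∧ c ∉ zpowers (c * c) := by
  have ho : orderOf (c * c) = 2 ^ e := by
    rw [← pow_two, orderOf_pow_of_dvd (by norm_num), hc, pow_succ]
    · exact Nat.mul_div_cancel _ (by norm_num)
    · rw [hc, pow_succ]; exact Dvd.intro_left _ rfl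
  refine ⟨ho, ?_⟩
  intro h
  have hle : zpowers c ≤ zpowers (c * c) := Subgroup.zpowers_le.2 h
  have := Subgroup.card_le_of_le hle
  rw [Nat.card_zpowers, Nat.card_zpowers, ho, hc] at this
  have : 2 ^ e < 2 ^ (e + 1) := Nat.pow_lt_pow_right (by norm_num) (by omega)
  omega

theorem cyc_le_of_not_le {c : X} {e : ℕ} (hc : orderOf c = 2 ^ (e + 1)) (H : Subgroup X)
    (hH : H ≤ zpowers c) (hnot : ¬ H ≤ zpowers (c * c)) : zpowers c ≤ H := by
  obtain ⟨y, hyH, hyL⟩ := SetLike.not_le_iff_exists.mp hnot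
  obtain ⟨i, rfl⟩ := exists_nat_pow_of_mem_zpowers (hH hyH)
  rcases Nat.even_or_odd' i with ⟨j, hj | hj⟩
  · exfalso
    apply hyL
    rw [hj, pow_mul, pow_two]
    exact Subgroup.pow_mem _ (Subgroup.mem_zpowers _) _
  · have hcop : (orderOf c).Coprime i := by
      rw [hc, hj]
      apply Nat.Coprime.pow_left
      rw [Nat.coprime_two_left]
      exact ⟨j, rfl⟩
    have ho : orderOf (c ^ i) = orderOf c := Nat.Coprime.orderOf_pow hcop
    have hle : zpowers (c ^ i) ≤ zpowers c :=
      Subgroup.zpowers_le.2 (Subgroup.pow_mem _ (Subgroup.mem_zpowers c) i)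
    have heq : zpowers (c ^ i) = zpowers c := by
      apply Subgroup.eq_of_le_of_card_ge hle
      rw [Nat.card_zpowers, Nat.card_zpowers, ho]
    rw [← heq]
    exact Subgroup.zpowers_le.2 hyH


theorem exists_zpowers_eq_of_le_zpowers {a : X} (F : Subgroup X) (h : F ≤ zpowers a) :
    ∃ c, zpowers c = F := by
  haveI : IsCyclic (F.subgroupOf (zpowers a)) := inferInstance
  haveI : IsCyclic F :=
    isCyclic_of_surjective (Subgroup.subgroupOfEquivOfLe h) (MulEquiv.surjective _)
  obtain ⟨g, hg⟩ := IsCyclic.exists_generator (α := F)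
  have hgtop : zpowers g = ⊤ := (Subgroup.eq_top_iff' _).mpr hg
  refine ⟨(g : X), ?_⟩
  have h1 : (zpowers g).map F.subtype = zpowers (g : X) := by
    rw [MonoidHom.map_zpowers]; rfl
  rw [← h1, hgtop, ← MonoidHom.range_eq_map, Subgroup.range_subtype]

/-- In a 2-group of rank at least three with a maximal subgroup `M` of maximal class, there is a
proper subgroup `R` such that a maximal subgroup is of maximal class iff it does not contain `R`. -/
theorem exists_R (hX : IsPGroup 2 X) (hr : ¬ QuotRankTwo X) (M : Subgroup X) (hM : M.index = 2)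
    (hMC : MC ↥M) :
    ∃ R : Subgroup X, R ≠ ⊤ ∧ ∀ N : Subgroup X, N.index = 2 → (MC ↥N ↔ ¬ R ≤ N) := by
  haveI : Fact (Nat.Prime 2) := ⟨Nat.prime_two⟩
  haveI hMn : M.Normal := Subgroup.normal_of_index_eq_two hM
  obtain ⟨hMc, hMne⟩ := hMC
  obtain ⟨F, hF⟩ : ∃ F, F = ⁅M, M⁆ := ⟨_, rfl⟩
  have hFn : F.Normal := by rw [hF]; exact Subgroup.commutator_normal M M
  have hmapM : (commutator ↥M).map M.subtype = F := by
    rw [hF]; exact Subgroup.map_subtype_commutator M
  have hFX : F ≤ commutator X := by rw [hF]; exact Subgroup.commutator_mono le_top le_top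
  have hXM : commutator X ≤ M := commutator_le_of_index_two hM
  have hFM : F ≤ M := hFX.trans hXM
  have hrel : F.relIndex M = 4 := by
    rw [← hMc, ← hmapM]
    unfold Subgroup.relIndex Subgroup.subgroupOf
    rw [Subgroup.comap_map_eq_self_of_injective M.subtype_injective]
  have hFidx : F.index = 8 := by
    have := Subgroup.relIndex_mul_index hFM
    rw [hrel, hM] at this
    omega
  have hF1 : F ≠ ⊥ := by
    intro h
    apply hMne
    rw [← hmapM, Subgroup.map_eq_bot_iff_of_injective _ M.subtype_injective] at h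
    exact h
  -- rank at least three
  unfold QuotRankTwo at hr
  push Not at hr
  obtain ⟨N₀, hN₀n, hN₀sq, hN₀idx⟩ := hr
  have hXN₀ : commutator X ≤ N₀ := commutator_le_of_sq_mem N₀ hN₀sq
  have hFN₀ : F ≤ N₀ := hFX.trans hXN₀
  have hN₀F : N₀ ≤ F := by
    have h1 := Subgroup.relIndex_mul_index hFN₀
    rw [hFidx] at h1
    have h2 : F.relIndex N₀ = 1 := by
      have hpos : 0 < F.relIndex N₀ := by
        rcases Nat.eq_zero_or_pos (F.relIndex N₀) with h | h
        · rw [h] at h1; omega
        · exact h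
      by_contra hne
      have : 2 ≤ F.relIndex N₀ := by omega
      nlinarith
    exact Subgroup.relIndex_eq_one.1 h2
  have hXF : commutator X ≤ F := hXN₀.trans hN₀F
  -- F is cyclic
  obtain ⟨a, ha⟩ := exists_zpowers_index_two (hX.to_subgroup M) hMc
  have hMa : commutator ↥M ≤ zpowers a := commutator_le_of_index_two ha
  have hFa : F ≤ zpowers (a : X) := by
    rw [← hmapM]
    rintro y ⟨y', hy', rfl⟩
    obtain ⟨i, hi⟩ := hMa hy'
    refine ⟨i, ?_⟩
    simp only [] at hi ⊢
    rw [← hi]; simp
  obtain ⟨c, hc⟩ := exists_zpowers_eq_of_le_zpowers F hFa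
  have hcF : c ∈ F := hc ▸ Subgroup.mem_zpowers c
  obtain ⟨n, hn⟩ := (IsPGroup.iff_card).1 hX
  have hcardF : Nat.card F * 8 = 2 ^ n := by
    rw [← hn, ← hFidx]; exact F.card_mul_index
  obtain ⟨e, he⟩ : ∃ e, orderOf c = 2 ^ (e + 1) := by
    have h1 : Nat.card F ∣ 2 ^ n := Dvd.intro _ hcardF
    obtain ⟨j, -, hj⟩ := (Nat.dvd_prime_pow Nat.prime_two).1 h1
    have hj0 : j ≠ 0 := by
      rintro rfl
      rw [pow_zero] at hj
      exact hF1 (Subgroup.eq_bot_of_card_eq _ hj)
    refine ⟨j - 1, ?_⟩
    rw [← Nat.card_zpowers, hc, hj]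
    congr 1; omega
  obtain ⟨hoL, hcL⟩ := cyc_not_mem he
  obtain ⟨L, hL⟩ : ∃ L, L = zpowers (c * c) := ⟨_, rfl⟩
  rw [← hL] at hcL
  have hLF : L ≤ F := by
    rw [hL]; exact Subgroup.zpowers_le.2 (Subgroup.mul_mem _ hcF hcF)
  have hLn : L.Normal := by
    constructor
    intro y hy x
    rw [hL] at hy ⊢
    obtain ⟨i, rfl⟩ := hy
    have h1 : x * c * x⁻¹ ∈ zpowers c := by rw [hc]; exact hFn.conj_mem c hcF x
    obtain ⟨k, hk⟩ := h1
    simp only [] at hk
    have e1 : x * (c * c) ^ i * x⁻¹ = ((x * c * x⁻¹) * (x * c * x⁻¹)) ^ i := by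
      rw [← conj_zpow]; congr 1; group
    rw [e1, ← hk]
    have : c ^ k * c ^ k = (c * c) ^ k := ((Commute.refl c).mul_zpow k).symm
    rw [this]
    exact Subgroup.zpow_mem _ (Subgroup.zpow_mem _ (Subgroup.mem_zpowers _) _) _
  have hcardF' : Nat.card F = 2 ^ (e + 1) := by rw [← hc, Nat.card_zpowers, he]
  have hLidx : L.index = 16 := by
    have h1 := L.card_mul_index
    rw [hL, Nat.card_zpowers, hoL, ← hL, hn, ← hcardF, hcardF'] at h1
    have e1 : 2 ^ (e + 1) * 8 = 2 ^ e * 16 := by ring
    rw [e1] at h1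
    exact Nat.eq_of_mul_eq_mul_left (by positivity) h1
  have hrelLF : L.relIndex F = 2 := by
    have := Subgroup.relIndex_mul_index hLF
    rw [hFidx, hLidx] at this
    omega
  -- the quotient of order 16
  have hπs : Function.Surjective (QuotientGroup.mk' L) := QuotientGroup.mk'_surjective L
  have hQ : Nat.card (X ⧸ L) = 16 := by rw [← Subgroup.index_eq_card]; exact hLidx
  have hZ₀ : Nat.card (F.map (QuotientGroup.mk' L)) = 2 := by
    have h3 := Subgroup.relIndex_comap (⊥ : Subgroup (X ⧸ L)) (QuotientGroup.mk' L) F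
    rw [MonoidHom.comap_bot, QuotientGroup.ker_mk', Subgroup.relIndex_bot_left, hrelLF] at h3
    exact h3.symm
  have hcommQ : ∀ u v : X ⧸ L, ⁅u, v⁆ ∈ F.map (QuotientGroup.mk' L) := by
    intro u v
    obtain ⟨x, rfl⟩ := hπs u
    obtain ⟨y, rfl⟩ := hπs v
    rw [← map_commutatorElement]
    exact Subgroup.mem_map_of_mem _
      (hXF (Subgroup.commutator_mem_commutator (Subgroup.mem_top x) (Subgroup.mem_top y)))
  obtain ⟨w, hwc, hwZ⟩ := exists_central_not_mem hQ _ hZ₀ hcommQ
  have hZ₀n : (F.map (QuotientGroup.mk' L)).Normal := Subgroup.Normal.map hFn _ hπs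
  have hZ₀c : F.map (QuotientGroup.mk' L) ≤ center (X ⧸ L) :=
    le_center_of_normal_card_two _ hZ₀
  have hcenidx : (center (X ⧸ L)).index ≤ 4 := by
    have h1 := (center (X ⧸ L)).card_mul_index
    rw [hQ] at h1
    have h2 : Nat.card (F.map (QuotientGroup.mk' L)) ∣ Nat.card (center (X ⧸ L)) :=
      Subgroup.card_dvd_of_le hZ₀c
    rw [hZ₀] at h2
    obtain ⟨t, ht⟩ := h2
    have ht1 : t ≠ 1 := by
      rintro rfl
      have : F.map (QuotientGroup.mk' L) = center (X ⧸ L) :=
        Subgroup.eq_of_le_of_card_ge hZ₀c (by rw [ht, hZ₀])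
      exact hwZ (this ▸ hwc)
    have ht0 : t ≠ 0 := by
      rintro rfl
      rw [ht] at h1; omega
    rw [ht] at h1
    by_contra hlt
    push Not at hlt
    have : 2 ≤ t := by omega
    nlinarith
  obtain ⟨R, hR⟩ : ∃ R, R = (center (X ⧸ L)).comap (QuotientGroup.mk' L) := ⟨_, rfl⟩
  have hRidx : R.index ≤ 4 := by
    rw [hR, Subgroup.index_comap_of_surjective _ hπs]; exact hcenidx
  have hRn : R.Normal := by rw [hR]; exact Subgroup.Normal.comap inferInstance _
  have hkey : ∀ r ∈ R, ∀ g : X, Commute (QuotientGroup.mk' L r) (QuotientGroup.mk' L g) := by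
    intro r hr g
    rw [hR] at hr
    exact (Subgroup.mem_center_iff.1 (Subgroup.mem_comap.1 hr) (QuotientGroup.mk' L g)).symm
  have hnotcomm : (∀ x y : X, Commute (QuotientGroup.mk' L x) (QuotientGroup.mk' L y)) → False := by
    intro hall
    apply hcL
    apply (show F ≤ L from ?_) hcF
    rw [hF, Subgroup.commutator_le]
    intro m₁ _ m₂ _
    rw [← QuotientGroup.eq_one_iff, ← QuotientGroup.mk'_apply, map_commutatorElement,
      commutatorElement_eq_one_iff_commute]
    exact hall m₁ m₂
  refine ⟨R, ?_, ?_⟩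
  · intro hRtop
    apply hnotcomm
    intro x y
    exact hkey x (hRtop ▸ Subgroup.mem_top x) y
  intro N hN
  haveI hNn : N.Normal := Subgroup.normal_of_index_eq_two hN
  have hFN : F ≤ N := hFX.trans (commutator_le_of_index_two hN)
  have hmapN : (commutator ↥N).map N.subtype = ⁅N, N⁆ := Subgroup.map_subtype_commutator N
  have hNNF : ⁅N, N⁆ ≤ F := (Subgroup.commutator_mono le_top le_top).trans hXF
  have hNNN : ⁅N, N⁆ ≤ N := hNNF.trans hFN
  have hrelFN : F.relIndex N = 4 := by
    have := Subgroup.relIndex_mul_index hFN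
    rw [hN, hFidx] at this
    omega
  have hrelNN : (⁅N, N⁆).relIndex N = (commutator ↥N).index := by
    rw [← hmapN]
    unfold Subgroup.relIndex Subgroup.subgroupOf
    rw [Subgroup.comap_map_eq_self_of_injective N.subtype_injective]
  have hMCiff : MC ↥N ↔ F ≤ ⁅N, N⁆ := by
    constructor
    · rintro ⟨h4, -⟩
      have h1 := Subgroup.relIndex_mul_relIndex ⁅N, N⁆ F N hNNF hFN
      rw [hrelNN, h4, hrelFN] at h1
      have h2 : (⁅N, N⁆).relIndex F = 1 := by omega
      exact Subgroup.relIndex_eq_one.1 h2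
    · intro hle
      have heq : ⁅N, N⁆ = F := le_antisymm hNNF hle
      refine ⟨?_, ?_⟩
      · rw [← hrelNN, heq, hrelFN]
      · intro hbot
        rw [hbot, Subgroup.map_bot] at hmapN
        rw [← hmapN] at heq
        exact hF1 heq.symm
  rw [hMCiff]
  constructor
  · intro hFle hRN
    have hNNL : ⁅N, N⁆ ≤ L := by
      rw [Subgroup.commutator_le]
      intro n₁ hn₁ n₂ hn₂
      rw [← QuotientGroup.eq_one_iff, ← QuotientGroup.mk'_apply, map_commutatorElement,
        commutatorElement_eq_one_iff_commute]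
      by_cases h1 : n₁ ∈ R
      · exact hkey n₁ h1 n₂
      by_cases h2 : n₂ ∈ R
      · exact (hkey n₂ h2 n₁).symm
      have hRrel := Subgroup.relIndex_mul_index hRN
      rw [hN] at hRrel
      have hidx2 : (R.subgroupOf N).index = 2 := by
        have h0 : R.relIndex N ≠ 0 := by
          intro h
          rw [h] at hRrel
          have := Subgroup.index_ne_zero_of_finite (H := R)
          omega
        have h1' : R.relIndex N ≠ 1 := by
          intro h
          exact h1 (Subgroup.relIndex_eq_one.1 h hn₁)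
        show R.relIndex N = 2
        omega
      have hmem : (⟨n₁, hn₁⟩ : ↥N)⁻¹ * ⟨n₂, hn₂⟩ ∈ R.subgroupOf N := by
        rw [Subgroup.mul_mem_iff_of_index_two hidx2, Subgroup.inv_mem_iff]
        constructor
        · intro h; exact absurd (Subgroup.mem_subgroupOf.1 h) h1
        · intro h; exact absurd (Subgroup.mem_subgroupOf.1 h) h2
      have hcR : n₁⁻¹ * n₂ ∈ R := Subgroup.mem_subgroupOf.1 hmem
      have hn₂eq : n₂ = n₁ * (n₁⁻¹ * n₂) := by group
      rw [hn₂eq, map_mul]
      exact (Commute.refl _).mul_right (hkey _ hcR n₁).symm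
    exact hcL (hNNL (hFle hcF))
  · intro hRN
    rw [← hc]
    apply cyc_le_of_not_le he
    · rw [hc]; exact hNNF
    · rw [← hL]
      intro hNNL
      apply hnotcomm
      have hsup : N ⊔ R = ⊤ := by
        rcases kk_eq_or_top_of_index_prime (p := 2) hN (le_sup_left : N ≤ N ⊔ R) with h | h
        · exact absurd (h ▸ le_sup_right) hRN
        · exact h
      have hdecomp : ∀ x : X, ∃ n ∈ N, ∃ r ∈ R, n * r = x := by
        intro x
        have hx : x ∈ ((N ⊔ R : Subgroup X) : Set X) := by rw [hsup]; trivial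
        rw [Subgroup.mul_normal N R] at hx
        exact Set.mem_mul.mp hx
      have hNcomm : ∀ n₁ ∈ N, ∀ n₂ ∈ N,
          Commute (QuotientGroup.mk' L n₁) (QuotientGroup.mk' L n₂) := by
        intro n₁ hn₁ n₂ hn₂
        rw [← commutatorElement_eq_one_iff_commute, ← map_commutatorElement,
          QuotientGroup.mk'_apply, QuotientGroup.eq_one_iff]
        exact hNNL (Subgroup.commutator_mem_commutator hn₁ hn₂)
      intro x y
      obtain ⟨n₁, hn₁, r₁, hr₁, rfl⟩ := hdecomp x
      obtain ⟨n₂, hn₂, r₂, hr₂, rfl⟩ := hdecomp y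
      rw [map_mul, map_mul]
      apply Commute.mul_left
      · apply Commute.mul_right
        · exact hNcomm n₁ hn₁ n₂ hn₂
        · exact (hkey r₂ hr₂ n₁).symm
      · apply Commute.mul_right
        · exact hkey r₁ hr₁ n₂
        · exact hkey r₁ hr₁ r₂


theorem card_split (R : Subgroup X) :
    Nat.card {N : Subgroup X // N.index = 2} =
      Nat.card {N : Subgroup X // N.index = 2 ∧ R ≤ N} +
        Nat.card {N : Subgroup X // N.index = 2 ∧ ¬ R ≤ N} := by
  classical
  have e1 : {N : Subgroup X // N.index = 2 ∧ R ≤ N} ≃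
      {N' : {N : Subgroup X // N.index = 2} // R ≤ N'.1} :=
    (Equiv.subtypeSubtypeEquivSubtypeInter (fun N : Subgroup X => N.index = 2)
      (fun N => R ≤ N)).symm
  have e2 : {N : Subgroup X // N.index = 2 ∧ ¬ R ≤ N} ≃
      {N' : {N : Subgroup X // N.index = 2} // ¬ R ≤ N'.1} :=
    (Equiv.subtypeSubtypeEquivSubtypeInter (fun N : Subgroup X => N.index = 2)
      (fun N => ¬ R ≤ N)).symm
  rw [Nat.card_congr e1, Nat.card_congr e2, ← Nat.card_sum]
  exact Nat.card_congr (Equiv.sumCompl (fun N' : {N : Subgroup X // N.index = 2} => R ≤ N'.1)).symm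

/-- In a 2-group of rank at least three, the number of maximal subgroups of maximal class is
even. -/
theorem even_card_MC_max (hX : IsPGroup 2 X) (hr : ¬ QuotRankTwo X) :
    Even (Nat.card {N : Subgroup X // N.index = 2 ∧ MC ↥N}) := by
  by_cases hex : Nonempty {N : Subgroup X // N.index = 2 ∧ MC ↥N}
  · obtain ⟨⟨M, hM, hMC⟩⟩ := hex
    obtain ⟨R, hRtop, hiff⟩ := exists_R hX hr M hM hMC
    have e : {N : Subgroup X // N.index = 2 ∧ MC ↥N} ≃
        {N : Subgroup X // N.index = 2 ∧ ¬ R ≤ N} :=
      Equiv.subtypeEquivRight (fun N => and_congr_right (fun h => hiff N h))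
    rw [Nat.card_congr e]
    have hnt : Nontrivial X := by
      by_contra hnt
      rw [not_nontrivial_iff_subsingleton] at hnt
      have : M = ⊤ := Subsingleton.elim _ _
      rw [this, Subgroup.index_top] at hM
      omega
    obtain ⟨r₁, hr₁⟩ := odd_card_max_all hX hnt
    obtain ⟨r₂, hr₂⟩ := odd_card_max hX R hRtop
    have := card_split R
    exact ⟨r₁ - r₂, by omega⟩
  · rw [not_nonempty_iff] at hex
    rw [Nat.card_of_isEmpty]
    exact ⟨0, rfl⟩

/-- a group with a cyclic subgroup of index two has rank at most two -/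
theorem quotRankTwo_of_cyclic_max (M : Subgroup X) (hM : M.index = 2) (hMc : IsCyclic M)
    (h4 : 4 ∣ Nat.card X) : QuotRankTwo X := by
  obtain ⟨g, hg⟩ := hMc.exists_generator
  have hgtop : zpowers g = ⊤ := (Subgroup.eq_top_iff' _).mpr hg
  have hzM : zpowers (g : X) = M := by
    have h1 : (zpowers g).map M.subtype = zpowers (g : X) := by
      rw [MonoidHom.map_zpowers]; rfl
    rw [← h1, hgtop, ← MonoidHom.range_eq_map, Subgroup.range_subtype]
  have hcard : orderOf (g : X) * 2 = Nat.card X := by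
    rw [← Nat.card_zpowers, hzM, ← hM]; exact M.card_mul_index
  intro N hNn hsq
  have hle : zpowers ((g : X) ^ 2) ≤ N := Subgroup.zpowers_le.2 (hsq _)
  have hdvd : N.index ∣ (zpowers ((g : X) ^ 2)).index := Subgroup.index_dvd_of_le hle
  have h2 : 2 ∣ orderOf (g : X) := by
    obtain ⟨t, ht⟩ := h4
    exact ⟨t, by omega⟩
  have hidx : (zpowers ((g : X) ^ 2)).index = 4 := by
    have h1 := (zpowers ((g : X) ^ 2)).card_mul_index
    rw [Nat.card_zpowers, orderOf_pow_of_dvd (by norm_num) h2, ← hcard] at h1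
    obtain ⟨t, ht⟩ := h2
    rw [ht, Nat.mul_div_cancel_left _ (by norm_num)] at h1
    have ht0 : 0 < t := by
      rcases Nat.eq_zero_or_pos t with h | h
      · rw [h, mul_zero] at ht
        have := orderOf_pos (g : X)
        omega
      · exact h
    have e1 : 2 * t * 2 = t * 4 := by ring
    rw [e1] at h1
    exact Nat.eq_of_mul_eq_mul_left ht0 h1
  rw [hidx] at hdvd
  exact Nat.le_of_dvd (by norm_num) hdvd

/-- **Fact 3.** In a noncyclic 2-group of order at least eight which is not of maximal class, the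
number of maximal subgroups that are cyclic or of maximal class is even. -/
theorem even_card_cyclic_or_MC_max (hX : IsPGroup 2 X) (hnc : ¬ IsCyclic X) (hMC : ¬ MC X) {n : ℕ}
    (hn : Nat.card X = 2 ^ n) (hn3 : 3 ≤ n) :
    Even (Nat.card {M : Subgroup X // M.index = 2 ∧ (IsCyclic M ∨ MC ↥M)}) := by
  by_cases hr : QuotRankTwo X
  · have e : {M : Subgroup X // M.index = 2 ∧ (IsCyclic M ∨ MC ↥M)} ≃
        {M : Subgroup X // M.index = 2 ∧ IsCyclic M} :=
      Equiv.subtypeEquivRight (fun M => and_congr_right (fun h =>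
        ⟨fun h' => h'.resolve_right (fun hM => hMC (MC_step hX hr M h hM)), Or.inl⟩))
    rw [Nat.card_congr e]
    exact even_card_cyclic_max hX hnc hMC hn hn3
  · have h4 : 4 ∣ Nat.card X := by
      rw [hn]
      exact pow_dvd_pow 2 (show 2 ≤ n by omega)
    have e : {M : Subgroup X // M.index = 2 ∧ (IsCyclic M ∨ MC ↥M)} ≃
        {M : Subgroup X // M.index = 2 ∧ MC ↥M} :=
      Equiv.subtypeEquivRight (fun M => and_congr_right (fun h =>
        ⟨fun h' => h'.resolve_left (fun hM => hr (quotRankTwo_of_cyclic_max M h hM h4)), Or.inr⟩))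
    rw [Nat.card_congr e]
    exact even_card_MC_max hX hr

end MCMax

end Cfsg.Agent.Lib.Helper34.KulTwo
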