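import Mathlib
import Cfsg.Agent.Lib.Helper4.LcDefs

set_option autoImplicit false

/-! LC-SH8 (Lc hive S0406, owner helper4): integer vectors with sum of squares `8`:
`(±2, ±2)`, or four odd coordinates, or eight `±1`. -/

namespace Cfsg.Agent.Lib.Helper4.Lc

/-- `hammingNorm (red a)` counts the odd coordinates. -/
theorem lcsh8_norm (a : V) :
    hammingNorm (red a) = (Finset.univ.filter (fun i => ¬ (2 : ℤ) ∣ a i)).card := by
  unfold hammingNorm
  apply congrArg Finset.card
  apply Finset.filter_congr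
  intro i _
  rw [red_apply, ne_eq, ZMod.intCast_zmod_eq_zero_iff_dvd]
  rfl

theorem lcsh8_bound (a : V) (hs : sq a = 8) (i : Fin 24) : -2 ≤ a i ∧ a i ≤ 2 := by
  have h : a i ^ 2 ≤ 8 := by
    rw [← hs]
    unfold sq
    exact Finset.single_le_sum (f := fun i => a i ^ 2) (fun j _ => sq_nonneg (a j)) (Finset.mem_univ i)
  constructor <;> nlinarith

/-- pointwise: `x² = [x odd] + 4 [x = ±2]` for `|x| ≤ 2`. -/
theorem lcsh8_pt (x : ℤ) (h : -2 ≤ x ∧ x ≤ 2) :
    x ^ 2 = (if ¬ (2 : ℤ) ∣ x then 1 else 0) + 4 * (if (x = 2 ∨ x = -2) then 1 else 0) := by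
  obtain ⟨h1, h2⟩ := h
  interval_cases x <;> simp

/-- LC-SH8 (pure integers) -/
theorem shape8 (a : V) (hs : sq a = 8) :
    (∃ i j : Fin 24, i < j ∧ ∃ s t : ℤ, (s = 2 ∨ s = -2) ∧ (t = 2 ∨ t = -2) ∧
        a = Pi.single i s + Pi.single j t)
    ∨ hammingNorm (red a) = 4
    ∨ ((∀ i, a i = 0 ∨ a i = 1 ∨ a i = -1) ∧ hammingNorm (red a) = 8) := by
  have hb := lcsh8_bound a hs
  rw [lcsh8_norm a]
  set O := Finset.univ.filter (fun i => ¬ (2 : ℤ) ∣ a i) with hO
  set T := Finset.univ.filter (fun i => a i = 2 ∨ a i = -2) with hT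
  have hsum : (O.card : ℤ) + 4 * (T.card : ℤ) = 8 := by
    rw [← hs]
    unfold sq
    rw [Finset.sum_congr rfl (fun i _ => lcsh8_pt (a i) (hb i)), Finset.sum_add_distrib,
      ← Finset.mul_sum, Finset.sum_boole, Finset.sum_boole]
  have hsumN : O.card + 4 * T.card = 8 := by exact_mod_cast hsum
  have hT2 : T.card ≤ 2 := by omega
  -- coordinates outside `O` and `T` vanish
  have hzero : ∀ k, k ∉ O → k ∉ T → a k = 0 := by
    intro k hkO hkT
    simp only [hO, hT, Finset.mem_filter, Finset.mem_univ, true_and, not_not, not_or] at hkO hkT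
    obtain ⟨h1, h2⟩ := hb k
    omega
  rcases Nat.lt_or_ge T.card 1 with h0 | h1
  · -- no `±2`: eight odd coordinates
    right; right
    have hT0 : T.card = 0 := by omega
    refine ⟨fun i => ?_, by omega⟩
    have hiT : i ∉ T := by
      rw [Finset.card_eq_zero] at hT0
      rw [hT0]
      exact Finset.notMem_empty i
    have hiT' := hiT
    simp only [hT, Finset.mem_filter, Finset.mem_univ, true_and, not_or] at hiT'
    obtain ⟨h1, h2⟩ := hb i
    omega
  · rcases Nat.lt_or_ge T.card 2 with h2 | h2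
    · -- one `±2`: four odd coordinates
      right; left
      omega
    · -- two `±2`
      left
      have hT2' : T.card = 2 := by omega
      have hO0 : O.card = 0 := by omega
      obtain ⟨x, y, hxy, hTxy⟩ := Finset.card_eq_two.1 hT2'
      have hxT : x ∈ T := by rw [hTxy]; simp
      have hyT : y ∈ T := by rw [hTxy]; simp
      have hx2 : a x = 2 ∨ a x = -2 := by
        simpa [hT] using hxT
      have hy2 : a y = 2 ∨ a y = -2 := by
        simpa [hT] using hyT
      have hrest : ∀ k, k ≠ x → k ≠ y → a k = 0 := by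
        intro k hkx hky
        apply hzero k
        · rw [Finset.card_eq_zero] at hO0
          rw [hO0]
          exact Finset.notMem_empty k
        · rw [hTxy]
          simp [hkx, hky]
      have key : ∀ i j : Fin 24, i ≠ j → (∀ k, k ≠ i → k ≠ j → a k = 0) →
          a = Pi.single i (a i) + Pi.single j (a j) := by
        intro i j hij hk
        funext k
        by_cases hki : k = i
        · subst hki
          simp [Pi.single_eq_of_ne hij]
        · by_cases hkj : k = j
          · subst hkj
            simp [Pi.single_eq_of_ne hki]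
          · simp [Pi.single_eq_of_ne hki, Pi.single_eq_of_ne hkj, hk k hki hkj]
      rcases lt_or_gt_of_ne hxy with hlt | hgt
      · exact ⟨x, y, hlt, a x, a y, hx2, hy2, key x y hxy hrest⟩
      · exact ⟨y, x, hgt, a y, a x, hy2, hx2, key y x hxy.symm (fun k h1 h2 => hrest k h2 h1)⟩

end Cfsg.Agent.Lib.Helper4.Lc
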