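import Mathlib
import Cfsg.Agent.Lib.Helper59.MiDsDefs

set_option autoImplicit false

/-! MI-DS-REP (Mi hive S2140, MI-DS sub-hive of helper59): every functional on `dsPhi F n` is a dot product. -/

namespace Cfsg.Agent.Lib.Helper81.Mi

open Matrix

variable {F : Type*} [Field F] {n : ℕ}

/-- MI-DS-REP -/
theorem ds_rep (x : Module.Dual F (dsPhi F n)) :
    ∃ x' : Fin n → F, ∀ φ : dsPhi F n, x φ = (φ : Fin n → F) ⬝ᵥ x' := by
  obtain ⟨g, hg⟩ := LinearMap.exists_extend x
  refine ⟨fun i => g (fun j => if i = j then 1 else 0), fun φ => ?_⟩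
  have h1 : x φ = g (φ : Fin n → F) := by
    rw [← hg]
    rfl
  rw [h1, LinearMap.pi_apply_eq_sum_univ g (φ : Fin n → F), dotProduct]
  simp only [smul_eq_mul]

end Cfsg.Agent.Lib.Helper81.Mi
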