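import Cfsg.Agent.Lib.Helper34.MiLEVIcore
import Cfsg.Agent.Lib.Helper54.MiTV2
import Cfsg.Agent.Lib.Helper69.MiQV
import Cfsg.Agent.Lib.Helper13.MiTRANS

set_option autoImplicit false

/-! MI-LEVI (Mi hive S2140, owner helper81): the subgroup `L = {diag(1, A)} ≅ SL_(n-1)(F)` normalises `Qv e0` and is
transitive on its non-identity elements.  Wrapper of `levi_core` over the landed leaves TV2 / QV / TRANS. -/

namespace Cfsg.Agent.Lib.Helper81.Mi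

open Matrix

variable {F : Type*} [Field F] {n : ℕ}

/-- MI-LEVI -/
theorem exists_levi (hn : 3 ≤ n) : ∃ (L : Subgroup (SLn n F)) (_ : SLn (n - 1) F ≃* L),
    (∀ l ∈ L, ∀ t ∈ Qv (e0 F n), l * t * l⁻¹ ∈ Qv (e0 F n)) ∧
    (∀ t ∈ Qv (e0 F n), ∀ t' ∈ Qv (e0 F n), t ≠ 1 → t' ≠ 1 → ∃ l ∈ L, l * t * l⁻¹ = t') := by
  obtain ⟨k, rfl⟩ : ∃ k, n = k + 1 := ⟨n - 1, by omega⟩
  exact levi_core k conj_tv vecMul_inv_dotProduct mem_Qv_iff (exists_smul_e0 (by omega))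

end Cfsg.Agent.Lib.Helper81.Mi
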