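import Cfsg.Agent.Lib.Helper43.MiTV1

set_option autoImplicit false

/-! MI-LEVI core (Mi hive S2140, owner helper81; the leaves TV2 / QV / TRANS enter as hypotheses): the Levi complement `L = {diag(1, A)} ≅ SL_(n-1)(F)` of the point
stabiliser normalises `Qv e0` and is transitive on its non-identity elements. -/

namespace Cfsg.Agent.Lib.Helper81.Mi

open Matrix

variable {F : Type*} [Field F] {n : ℕ}

/-- the block matrix `diag(1, A)`. -/
def leviMat (k : ℕ) (A : Matrix (Fin k) (Fin k) F) : Matrix (Fin (k + 1)) (Fin (k + 1)) F :=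
  Matrix.of fun i j =>
    Fin.cases (Fin.cases (1 : F) (fun _ => 0) j) (fun i' => Fin.cases (0 : F) (fun j' => A i' j') j) i

@[simp] theorem levi_00 (k : ℕ) (A : Matrix (Fin k) (Fin k) F) : leviMat k A 0 0 = 1 := rfl
@[simp] theorem levi_0s (k : ℕ) (A : Matrix (Fin k) (Fin k) F) (j : Fin k) : leviMat k A 0 j.succ = 0 := rfl
@[simp] theorem levi_s0 (k : ℕ) (A : Matrix (Fin k) (Fin k) F) (i : Fin k) : leviMat k A i.succ 0 = 0 := rfl
@[simp] theorem levi_ss (k : ℕ) (A : Matrix (Fin k) (Fin k) F) (i j : Fin k) :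
    leviMat k A i.succ j.succ = A i j := rfl

theorem levi_one (k : ℕ) : leviMat k (1 : Matrix (Fin k) (Fin k) F) = 1 := by
  ext i j
  refine Fin.cases ?_ (fun i' => ?_) i <;> refine Fin.cases ?_ (fun j' => ?_) j
  · simp
  · simp [Matrix.one_apply_ne (Fin.succ_ne_zero j').symm]
  · simp [Matrix.one_apply_ne (Fin.succ_ne_zero i')]
  · simp [Matrix.one_apply]

theorem levi_mul (k : ℕ) (A B : Matrix (Fin k) (Fin k) F) :
    leviMat k (A * B) = leviMat k A * leviMat k B := by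
  ext i j
  rw [Matrix.mul_apply, Fin.sum_univ_succ]
  refine Fin.cases ?_ (fun i' => ?_) i <;> refine Fin.cases ?_ (fun j' => ?_) j
  · simp
  · simp
  · simp
  · simp [Matrix.mul_apply]

theorem levi_det (k : ℕ) (A : Matrix (Fin k) (Fin k) F) : (leviMat k A).det = A.det := by
  rw [Matrix.det_succ_column_zero, Fin.sum_univ_succ]
  have hsub : (leviMat k A).submatrix Fin.succ Fin.succ = A := by
    ext i j
    simp
  simp [hsub]

/-- the embedding `SL_k → SL_(k+1)`, `A ↦ diag(1, A)`. -/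
def leviHom (F : Type*) [Field F] (k : ℕ) : SLn k F →* SLn (k + 1) F where
  toFun A := ⟨leviMat k A.1, by rw [levi_det]; exact A.2⟩
  map_one' := Subtype.ext (levi_one k)
  map_mul' A B := Subtype.ext (levi_mul k A.1 B.1)

theorem levi_hom_coe (k : ℕ) (A : SLn k F) :
    ((leviHom F k A : SLn (k + 1) F) : Matrix (Fin (k + 1)) (Fin (k + 1)) F) = leviMat k A.1 := rfl

theorem levi_hom_injective (k : ℕ) : Function.Injective (leviHom F k) := by
  intro A B h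
  apply Subtype.ext
  ext i j
  have := congrArg (fun M : SLn (k + 1) F => M.1 i.succ j.succ) h
  simpa [levi_hom_coe] using this

theorem levi_e0_zero (k : ℕ) : e0 F (k + 1) 0 = 1 := by simp [e0]

theorem levi_e0_succ (k : ℕ) (j : Fin k) : e0 F (k + 1) j.succ = 0 := by simp [e0]

theorem levi_dot_e0 (k : ℕ) (φ : Fin (k + 1) → F) : φ ⬝ᵥ e0 F (k + 1) = φ 0 := by
  rw [dotProduct, Fin.sum_univ_succ]
  simp [levi_e0_zero, levi_e0_succ]

theorem levi_mulVec_e0 (k : ℕ) (A : Matrix (Fin k) (Fin k) F) :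
    leviMat k A *ᵥ e0 F (k + 1) = e0 F (k + 1) := by
  funext i
  rw [Matrix.mulVec, levi_dot_e0]
  refine Fin.cases ?_ (fun i' => ?_) i
  · simp [levi_e0_zero]
  · simp [levi_e0_succ]

theorem levi_vecMul (k : ℕ) (B : Matrix (Fin k) (Fin k) F) (φ : Fin (k + 1) → F) (h0 : φ 0 = 0) :
    φ ᵥ* leviMat k B = Fin.cases 0 ((fun j => φ (Fin.succ j)) ᵥ* B) := by
  funext j
  rw [Matrix.vecMul, dotProduct, Fin.sum_univ_succ]
  refine Fin.cases ?_ (fun j' => ?_) j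
  · simp [h0]
  · simp [h0, Matrix.vecMul, dotProduct]

theorem levi_core (k : ℕ)
    (conj_tv : ∀ (γ : SLn (k + 1) F) (v φ : Fin (k + 1) → F), γ * tv v φ * γ⁻¹ =
      tv ((γ : Matrix (Fin (k + 1)) (Fin (k + 1)) F) *ᵥ v)
        (φ ᵥ* ((γ⁻¹ : SLn (k + 1) F) : Matrix (Fin (k + 1)) (Fin (k + 1)) F)))
    (vecMul_inv_dotProduct : ∀ (γ : SLn (k + 1) F) (φ x : Fin (k + 1) → F),
      (φ ᵥ* ((γ⁻¹ : SLn (k + 1) F) : Matrix (Fin (k + 1)) (Fin (k + 1)) F)) ⬝ᵥ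
        ((γ : Matrix (Fin (k + 1)) (Fin (k + 1)) F) *ᵥ x) = φ ⬝ᵥ x)
    (mem_Qv_iff : ∀ (v : Fin (k + 1) → F) (g : SLn (k + 1) F),
      g ∈ Qv v ↔ ∃ φ : Fin (k + 1) → F, φ ⬝ᵥ v = 0 ∧ g = tv v φ)
    (exists_smul_e0 : ∀ (v : Fin k → F), v ≠ 0 →
      ∃ γ : SLn k F, (γ : Matrix (Fin k) (Fin k) F) *ᵥ e0 F k = v) :
    ∃ (L : Subgroup (SLn (k + 1) F)) (_ : SLn k F ≃* L),
    (∀ l ∈ L, ∀ t ∈ Qv (e0 F (k + 1)), l * t * l⁻¹ ∈ Qv (e0 F (k + 1))) ∧
    (∀ t ∈ Qv (e0 F (k + 1)), ∀ t' ∈ Qv (e0 F (k + 1)), t ≠ 1 → t' ≠ 1 → ∃ l ∈ L, l * t * l⁻¹ = t') := by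
  refine ⟨(leviHom F k).range, MonoidHom.ofInjective (levi_hom_injective k), ?_, ?_⟩
  · rintro l ⟨A, rfl⟩ t ht
    obtain ⟨φ, hφ, rfl⟩ := (mem_Qv_iff _ _).1 ht
    rw [conj_tv, levi_hom_coe, levi_mulVec_e0]
    refine (mem_Qv_iff _ _).2 ⟨_, ?_, rfl⟩
    have h := vecMul_inv_dotProduct (leviHom F k A) φ (e0 F (k + 1))
    rw [levi_hom_coe, levi_mulVec_e0] at h
    rw [h]
    exact hφ
  · intro t ht t' ht' hne hne'
    obtain ⟨φ, hφ, rfl⟩ := (mem_Qv_iff _ _).1 ht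
    obtain ⟨φ', hφ', rfl⟩ := (mem_Qv_iff _ _).1 ht'
    rw [levi_dot_e0] at hφ hφ'
    have hf : (fun j => φ (Fin.succ j)) ≠ 0 := by
      intro h
      apply hne
      have h0 : φ = 0 := by
        funext i
        exact Fin.cases hφ (fun i' => congrFun h i') i
      rw [h0, tv_zero_right]
    have hf' : (fun j => φ' (Fin.succ j)) ≠ 0 := by
      intro h
      apply hne'
      have h0 : φ' = 0 := by
        funext i
        exact Fin.cases hφ' (fun i' => congrFun h i') i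
      rw [h0, tv_zero_right]
    obtain ⟨γ₁, h1⟩ := exists_smul_e0 _ hf
    obtain ⟨γ₂, h2⟩ := exists_smul_e0 _ hf'
    have hC : ((γ₂ * γ₁⁻¹ : SLn k F) : Matrix (Fin k) (Fin k) F) *ᵥ (fun j => φ (Fin.succ j)) =
        fun j => φ' (Fin.succ j) := by
      rw [← h1, Matrix.mulVec_mulVec, ← Matrix.SpecialLinearGroup.coe_mul, inv_mul_cancel_right]
      exact h2
    refine ⟨leviHom F k ((γ₂ * γ₁⁻¹).transpose)⁻¹, ⟨_, rfl⟩, ?_⟩
    rw [conj_tv, ← map_inv, inv_inv, levi_hom_coe, levi_hom_coe, levi_mulVec_e0, levi_vecMul _ _ _ hφ]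
    congr 1
    funext j
    refine Fin.cases ?_ (fun j' => ?_) j
    · simp [hφ']
    · simp only [Fin.cases_succ]
      rw [Matrix.SpecialLinearGroup.coe_transpose, Matrix.vecMul_transpose, hC]

end Cfsg.Agent.Lib.Helper81.Mi
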