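import Mathlib
import Cfsg.Prelude.Def_CaseTheorems
import Cfsg.Agent.S3734

/-! N57 hive = S1957, leaf N57-GEN: generation (from the landed S3734). -/
set_option autoImplicit false
open Cfsg

namespace Cfsg.Agent.Lib.Helper84.N57

variable {G : Type*} [Group G] [Finite G]

/-- N57-GEN: generation (from the landed S3734). U a four-group normalizing K of odd order; if U centralizes
K ⊓ C_G(u) for every u ∈ U \ {1}, then U centralizes K. -/
theorem gen (U K : Subgroup G) (hU4 : IsKleinFour ↥U) (hK : Odd (Nat.card ↥K))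
    (hUK : U ≤ Subgroup.normalizer (K : Set G))
    (h : ∀ u ∈ U, u ≠ 1 → ∀ x ∈ K ⊓ Subgroup.centralizer ({u} : Set G), ∀ w ∈ U, x * w = w * x) :
    U ≤ Subgroup.centralizer (K : Set G) := by
  have hAab : IsMulCommutative ↥U := IsKleinFour.isMulCommutative
  have hcop : (Nat.card ↥U).Coprime (Nat.card ↥K) := by
    rw [hU4.card_four]
    have h2 : Nat.Coprime 2 (Nat.card ↥K) := Nat.coprime_two_left.mpr hK
    have : Nat.Coprime (2 ^ 2) (Nat.card ↥K) := Nat.Coprime.pow_left 2 h2
    simpa using this
  have hres := (Cfsg.Agent.S3734.result U K hAab hUK hcop).2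
  have hbot : ⁅K, U⁆ = ⊥ := by
    rw [← hres, eq_bot_iff]
    apply iSup₂_le
    intro B hB
    obtain ⟨hBU, a, haU, hBa⟩ := hB
    -- B is nontrivial, as U is not cyclic
    have hBne : B ≠ ⊥ := by
      intro hB0
      rw [hB0, bot_sup_eq] at hBa
      have hcyc : IsCyclic ↥(Subgroup.zpowers a) := inferInstance
      rw [hBa] at hcyc
      exact (IsKleinFour.not_isCyclic (G := ↥U)) hcyc
    obtain ⟨u, huB, hu1⟩ : ∃ u ∈ B, u ≠ 1 := by
      rcases Subgroup.bot_or_exists_ne_one B with h0 | h0
      · exact absurd h0 hBne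
      · exact h0
    have hle : K ⊓ Subgroup.centralizer (B : Set G) ≤ K ⊓ Subgroup.centralizer ({u} : Set G) := by
      apply inf_le_inf_left
      apply Subgroup.centralizer_le
      intro z hz
      rw [Set.mem_singleton_iff] at hz
      rw [hz]
      exact huB
    rw [← eq_bot_iff, Subgroup.commutator_eq_bot_iff_le_centralizer]
    intro x hx
    rw [Subgroup.mem_centralizer_iff]
    intro w hw
    exact (h u (hBU huB) hu1 x (hle hx) w hw).symm
  have h1 : K ≤ Subgroup.centralizer (U : Set G) :=
    Subgroup.commutator_eq_bot_iff_le_centralizer.mp hbot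
  exact Subgroup.le_centralizer_iff.mp h1

end Cfsg.Agent.Lib.Helper84.N57
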