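import Mathlib
import Cfsg.Prelude.Def_ClassicalGeometry
import Cfsg.Agent.Lib.Helper4.NdDefs
import Cfsg.Agent.Lib.Helper55.NdD3

set_option autoImplicit false
open Matrix
open Cfsg.Agent.Lib.Helper99 (Nd dker sympB)

/-! S5956 hive (helper4), leaf ND-D4 `good_of_ss`: core, with ND-D2 and ND-G4 as hypotheses (helper34). -/

namespace Cfsg.Agent.Lib.Helper4.NdH

universe u v

variable {F : Type u} [Field F] {V : Type v} [AddCommGroup V] [Module F V]

theorem d4_cOf_pos {i : ℕ} (hi : 0 < i) : 0 < cOf i := by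
  unfold cOf
  split_ifs <;> omega

theorem d4_cOf_even (i : ℕ) : Even (cOf i) := by
  unfold cOf
  split_ifs with h
  · exact h
  · exact even_two_mul i

/-- orthogonal sum of two nondegenerate invariant subspaces -/
theorem d4_sup [FiniteDimensional F V] (B : V →ₗ[F] V →ₗ[F] F) (hB : Alt B) (g : V →ₗ[F] V)
    (C R U W : Submodule F V) (hCR : C ⊓ R = ⊥) (hperp : Perp B C R) (hU : U ≤ R) (hW : W ≤ C)
    (hUnd : Nd B U) (hWnd : Nd B W) (hUinv : Inv g U) (hWinv : Inv g W) :
    Module.finrank F ↥(U ⊔ W) = Module.finrank F U + Module.finrank F W ∧ Nd B (U ⊔ W) ∧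
      Inv g (U ⊔ W) := by
  have hdisj : U ⊓ W = ⊥ := by
    apply le_bot_iff.mp
    calc U ⊓ W ≤ R ⊓ C := inf_le_inf hU hW
      _ = C ⊓ R := inf_comm _ _
      _ = ⊥ := hCR
  refine ⟨?_, ?_, ?_⟩
  · have h := Submodule.finrank_sup_add_finrank_inf_eq U W
    rw [hdisj, finrank_bot, add_zero] at h
    exact h
  · intro x hx hx0
    obtain ⟨a, ha, b, hb, rfl⟩ := Submodule.mem_sup.mp hx
    have hRC : ∀ r ∈ R, ∀ c ∈ C, B r c = 0 := by
      intro r hr c hc
      rw [d3_skew B hB, hperp c hc r hr, neg_zero]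
    have ha0 : a = 0 := by
      apply hUnd a ha
      intro v hv
      have h1 := hx0 v (Submodule.mem_sup_left hv)
      rw [map_add, LinearMap.add_apply, hperp b (hW hb) v (hU hv), add_zero] at h1
      exact h1
    have hb0 : b = 0 := by
      apply hWnd b hb
      intro v hv
      have h1 := hx0 v (Submodule.mem_sup_right hv)
      rw [map_add, LinearMap.add_apply, hRC a (hU ha) v (hW hv), zero_add] at h1
      exact h1
    rw [ha0, hb0, add_zero]
  · intro x hx
    obtain ⟨a, ha, b, hb, rfl⟩ := Submodule.mem_sup.mp hx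
    rw [map_add]
    exact Submodule.add_mem _ (Submodule.mem_sup_left (hUinv a ha))
      (Submodule.mem_sup_right (hWinv b hb))

theorem d4_core [Fintype F] [FiniteDimensional F V] (p : ℕ) [Fact p.Prime] [CharP F p]
    (B : V →ₗ[F] V →ₗ[F] F) (hB : Alt B) (hV : Nd B ⊤) (y : V →ₗ[F] V) (hy : Isom B y) (r : ℕ)
    [Fact r.Prime] (hr2 : r ≠ 2) (hrp : r ≠ p) (hyr : (y : Module.End F V) ^ r = 1) (m : ℕ)
    (hme : Even m) (hm : m ≤ Module.finrank F V)
    (hcm : cOf (orderOf ((Fintype.card F : ℕ) : ZMod r)) ≤ m)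
    (hmod : m % cOf (orderOf ((Fintype.card F : ℕ) : ZMod r)) ≤
      Module.finrank F V % cOf (orderOf ((Fintype.card F : ℕ) : ZMod r)))
    (hD2 : ∀ X : Submodule F V, Inv y X → Nd B X → (∀ v ∈ X, y v = v → v = 0) →
      ∃ s : ℕ, Module.finrank F X = cOf (orderOf ((Fintype.card F : ℕ) : ZMod r)) * s ∧
      ∀ s' ≤ s, ∃ U : Submodule F V, U ≤ X ∧ Inv y U ∧ Nd B U ∧
        Module.finrank F U = cOf (orderOf ((Fintype.card F : ℕ) : ZMod r)) * s')
    (hG4 : ∀ X : Submodule F V, Nd B X → ∀ m : ℕ, Even m → m ≤ Module.finrank F X →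
      ∃ W : Submodule F V, W ≤ X ∧ Module.finrank F W = m ∧ Nd B W) : Good B y m := by
  have hrpr : r.Prime := Fact.out
  have hppr : p.Prime := Fact.out
  have hrF : (r : F) ≠ 0 := by
    intro h0
    have h1 := (CharP.cast_eq_zero_iff F p r).mp h0
    rcases (Nat.dvd_prime hrpr).mp h1 with h | h
    · exact hppr.one_lt.ne' h
    · exact hrp h.symm
  set c := cOf (orderOf ((Fintype.card F : ℕ) : ZMod r)) with hc
  have hceven : Even c := d4_cOf_even _
  obtain ⟨C, R, hCdef, -, hCR, hsup, hperp, hCnd, hRnd, hRinv, hRfix⟩ :=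
    fix_decomp B hB y hy r hrpr.pos hrF hyr ⊤ (fun w _ => Submodule.mem_top) hV
  obtain ⟨s, hs, hpieces⟩ := hD2 R hRinv hRnd hRfix
  have hdim : Module.finrank F V = Module.finrank F C + c * s := by
    have h := Submodule.finrank_sup_add_finrank_inf_eq C R
    rw [hCR, hsup, finrank_bot, add_zero, finrank_top, hs] at h
    exact h
  set a := m / c with ha
  set s' := min a s with hs'
  have hs's : s' ≤ s := min_le_right _ _
  have hcs'm : c * s' ≤ m := by
    calc c * s' ≤ c * a := Nat.mul_le_mul_left _ (min_le_left _ _)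
      _ ≤ m := Nat.mul_div_le m c
  have hle : m - c * s' ≤ Module.finrank F C := by
    rcases le_total a s with h | h
    · have e : s' = a := min_eq_left h
      rw [e]
      have h1 : m - c * a = m % c := by
        have := Nat.div_add_mod m c
        rw [← ha] at this
        omega
      rw [h1]
      have h2 : Module.finrank F V % c = Module.finrank F C % c := by
        rw [hdim, Nat.add_mul_mod_self_left]
      calc m % c ≤ Module.finrank F V % c := hmod
        _ = Module.finrank F C % c := h2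
        _ ≤ Module.finrank F C := Nat.mod_le _ _
    · have e : s' = s := min_eq_right h
      rw [e]
      omega
  have heven : Even (m - c * s') := by
    apply (Nat.even_sub hcs'm).mpr
    constructor
    · intro _; exact hceven.mul_right _
    · intro _; exact hme
  obtain ⟨U, hUR, hUinv, hUnd, hUdim⟩ := hpieces s' hs's
  obtain ⟨W, hWC, hWdim, hWnd⟩ := hG4 C hCnd (m - c * s') heven hle
  have hWinv : Inv y W := by
    intro w hw
    have hwC : w ∈ C := hWC hw
    rw [hCdef] at hwC
    have h1 : (y - 1) w = 0 := LinearMap.mem_ker.mp hwC.2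
    rw [LinearMap.sub_apply, Module.End.one_apply, sub_eq_zero] at h1
    rw [h1]
    exact hw
  obtain ⟨h1, h2, h3⟩ := d4_sup B hB y C R U W hCR hperp hUR hWC hUnd hWnd hUinv hWinv
  refine ⟨U ⊔ W, ?_, h2, h3⟩
  rw [h1, hUdim, hWdim]
  omega

end Cfsg.Agent.Lib.Helper4.NdH
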