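import Mathlib
import Cfsg.Prelude.Def_ClassicalGeometry
import Cfsg.Agent.Lib.Helper4.NdDefs
import Cfsg.Agent.Lib.Helper34.NdD4Core
import Cfsg.Agent.Lib.Helper52.NdD2
import Cfsg.Agent.Lib.Helper68.NdA11

set_option autoImplicit false
open Matrix
open Cfsg.Agent.Lib.Helper99 (Nd dker sympB)

/-! S5956 hive (helper4), leaf ND-D4 `good_of_ss` (helper34). -/

namespace Cfsg.Agent.Lib.Helper4.NdH

universe u v

variable {F : Type u} [Field F] {V : Type v} [AddCommGroup V] [Module F V]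

/-- ND-G4 in the `Even m` shape, from helper68's `a11_exists_nd_le` -/
theorem d4_exists_nd_le [FiniteDimensional F V] (B : V →ₗ[F] V →ₗ[F] F) (hB : Alt B)
    (X : Submodule F V) (hX : Nd B X) (m : ℕ) (hme : Even m) (hm : m ≤ Module.finrank F X) :
    ∃ W : Submodule F V, W ≤ X ∧ Module.finrank F W = m ∧ Nd B W := by
  obtain ⟨k, hk⟩ := hme
  have hk2 : m = 2 * k := by omega
  rw [hk2] at hm ⊢
  exact a11_exists_nd_le B hB k X hX hm

theorem good_of_ss [Fintype F] [FiniteDimensional F V] (p : ℕ) [Fact p.Prime] [CharP F p]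
    (B : V →ₗ[F] V →ₗ[F] F) (hB : Alt B) (hV : Nd B ⊤) (y : V →ₗ[F] V) (hy : Isom B y) (r : ℕ)
    [Fact r.Prime] (hr2 : r ≠ 2) (hrp : r ≠ p) (hyr : (y : Module.End F V) ^ r = 1) (m : ℕ)
    (hme : Even m) (hm : m ≤ Module.finrank F V)
    (hcm : cOf (orderOf ((Fintype.card F : ℕ) : ZMod r)) ≤ m)
    (hmod : m % cOf (orderOf ((Fintype.card F : ℕ) : ZMod r)) ≤
      Module.finrank F V % cOf (orderOf ((Fintype.card F : ℕ) : ZMod r))) : Good B y m :=
  d4_core p B hB hV y hy r hr2 hrp hyr m hme hm hcm hmod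
    (fun X hX hXnd hfix => exists_pieces_ss p B hB y hy r hr2 hrp hyr X hX hXnd hfix)
    (fun X hX m hme hm => d4_exists_nd_le B hB X hX m hme hm)

end Cfsg.Agent.Lib.Helper4.NdH
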