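import Mathlib
import Cfsg.Prelude.Def_ClassicalGeometry
import Cfsg.Agent.Lib.Helper4.NdDefs
import Cfsg.Agent.Lib.Helper34.NdD7Core
import Cfsg.Agent.Lib.Helper45.NdD6
import Cfsg.Agent.Lib.Helper68.NdA11

set_option autoImplicit false
open Matrix
open Cfsg.Agent.Lib.Helper99 (Nd dker sympB)

/-! S5956 hive (helper4), leaf ND-D7 `exists_isom_ss` (helper34). -/

namespace Cfsg.Agent.Lib.Helper4.NdH

universe u v

variable {F : Type u} [Field F] {V : Type v} [AddCommGroup V] [Module F V]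

theorem exists_isom_ss [Fintype F] [FiniteDimensional F V] (p : ℕ) [Fact p.Prime] [CharP F p]
    (B : V →ₗ[F] V →ₗ[F] F) (hB : Alt B) (hV : Nd B ⊤) (r : ℕ) [Fact r.Prime] (hr2 : r ≠ 2)
    (hrp : r ≠ p)
    (hdim : cOf (orderOf ((Fintype.card F : ℕ) : ZMod r)) ≤ Module.finrank F V) :
    ∃ y : V →ₗ[F] V, Isom B y ∧ (y : Module.End F V) ^ r = 1 ∧ y ≠ 1 ∧
      Module.finrank F (LinearMap.ker (y - 1)) =
        Module.finrank F V % cOf (orderOf ((Fintype.card F : ℕ) : ZMod r)) := by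
  obtain ⟨y, h1, h2, h3, h4⟩ := d7_main (F := F) p r hrp
    (fun V' _ _ _ B' hB' hV' hdim' => exists_fpf_isom p B' hB' hV' r hr2 hrp hdim')
    (fun V' _ _ _ B' hB' X hX m hme hm => by
      obtain ⟨k, hk⟩ := hme
      have hk2 : m = 2 * k := by omega
      rw [hk2] at hm ⊢
      exact a11_exists_nd_le B' hB' k X hX hm)
    _ V B hB hV rfl
  exact ⟨y, h1, h2, h3 hdim, h4⟩

end Cfsg.Agent.Lib.Helper4.NdH
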