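import Mathlib
import Cfsg.Agent.Lib.Helper41.OmBNDefs

/-! # S2549 OmBN hive (helper41): auxiliary lemmas for the leaves FACS / FACL (helper34) -/

set_option autoImplicit false

namespace Cfsg.Agent.Lib.Helper41.OmBN

open Matrix Cfsg Cfsg.Agent.Lib.Helper13 Cfsg.Agent.Lib.Helper8 Cfsg.Agent.Lib.Helper43
  Cfsg.Agent.Lib.Helper41.SpBN

variable {F : Type*} [Field F] {m : ℕ} {a b : F}

/-- the `c`-th column of the matrix -/
theorem faclx_col (g : OG F m a b) (c : MIdx m) :
    mat g *ᵥ Pi.single c 1 = fun i => mat g i c := by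
  ext i
  simp

/-- the extension of a permutation of the `e_i, f_i` by the identity on `W` -/
def faclx_hat (σ : Equiv.Perm (Idx m)) : Equiv.Perm (MIdx m) := Equiv.sumCongr σ (Equiv.refl (Fin 2))

theorem faclx_hat_inl (σ : Equiv.Perm (Idx m)) (s : Idx m) :
    faclx_hat σ (Sum.inl s) = Sum.inl (σ s) := rfl

theorem faclx_hat_inr (σ : Equiv.Perm (Idx m)) (j : Fin 2) :
    faclx_hat σ (Sum.inr j) = Sum.inr j := rfl

theorem faclx_permBlock_apply (σ : Equiv.Perm (Idx m)) (i j : MIdx m) :
    (permBlock σ : Matrix (MIdx m) (MIdx m) F) i j = if i = faclx_hat σ j then 1 else 0 := by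
  rcases i with i | i <;> rcases j with j | j
  · simp [permBlock, permMat, faclx_hat_inl]
  · simp [permBlock, faclx_hat_inr]
  · simp [permBlock, faclx_hat_inl]
  · simp [permBlock, faclx_hat_inr, Matrix.one_apply]

theorem faclx_permBlock_mul (σ : Equiv.Perm (Idx m)) (M : Matrix (MIdx m) (MIdx m) F) (i j : MIdx m) :
    ((permBlock σ : Matrix (MIdx m) (MIdx m) F) * M) i j = M ((faclx_hat σ).symm i) j := by
  rw [Matrix.mul_apply, Finset.sum_eq_single ((faclx_hat σ).symm i)]
  · rw [faclx_permBlock_apply, if_pos (by simp), one_mul]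
  · intro u _ hu
    rw [faclx_permBlock_apply, if_neg ?_, zero_mul]
    intro h
    apply hu
    rw [h]
    simp
  · simp

theorem faclx_mul_permBlock (σ : Equiv.Perm (Idx m)) (M : Matrix (MIdx m) (MIdx m) F) (i j : MIdx m) :
    (M * (permBlock σ : Matrix (MIdx m) (MIdx m) F)) i j = M i (faclx_hat σ j) := by
  rw [Matrix.mul_apply, Finset.sum_eq_single (faclx_hat σ j)]
  · rw [faclx_permBlock_apply, if_pos rfl, mul_one]
  · intro u _ hu
    rw [faclx_permBlock_apply, if_neg hu, mul_zero]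
  · simp

/-- entries of a conjugate by a permutation matrix -/
theorem faclx_conj_apply (s g : OG F m a b) {σ : Equiv.Perm (Idx m)} (hs : mat s = permBlock σ)
    (i j : MIdx m) :
    mat (s * g * s⁻¹) i j = mat g ((faclx_hat σ).symm i) ((faclx_hat σ).symm j) := by
  have h1 : mat (s * g * s⁻¹) * mat s = mat s * mat g := by
    rw [← mat_mul, ← mat_mul, inv_mul_cancel_right]
  have h2 := congrFun (congrFun h1 i) ((faclx_hat σ).symm j)
  rw [hs, faclx_mul_permBlock, faclx_permBlock_mul, Equiv.apply_symm_apply] at h2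
  exact h2

/-- the diagonal entries of `g ∈ B` at the `e_i` and `f_i` do not vanish -/
theorem faclx_diag_ne_zero {g : OG F m a b} (hg : g ∈ Bo F m a b) (i : MIdx m)
    (hi : ∀ c : MIdx m, oord m c = oord m i → c = i) : mat g i i ≠ 0 := by
  intro h0
  have hg' := (Bo F m a b).inv_mem hg
  rw [mem_Bo_iff] at hg hg'
  have h1 : (mat g⁻¹ * mat g) i i = 1 := by
    rw [mat_inv_mul]
    simp
  rw [Matrix.mul_apply, Finset.sum_eq_zero] at h1
  · exact zero_ne_one h1
  · intro c _
    rcases lt_trichotomy (oord m c) (oord m i) with h | h | h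
    · rw [hg' i c h, zero_mul]
    · rw [hi c h, h0, mul_zero]
    · rw [hg c i h, mul_zero]

theorem faclx_oord_e_inj (i : Fin m) (c : MIdx m) (h : oord m c = oord m (Sum.inl (Sum.inl i))) :
    c = Sum.inl (Sum.inl i) := by
  rcases c with (j | j) | j
  · rw [oord_e, oord_e] at h
    rw [Fin.ext h]
  · rw [oord_e, oord_f] at h
    have := i.2
    have := j.2
    omega
  · rw [oord_e, oord_w] at h
    have := i.2
    omega

theorem faclx_oord_f_inj (i : Fin m) (c : MIdx m) (h : oord m c = oord m (Sum.inl (Sum.inr i))) :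
    c = Sum.inl (Sum.inr i) := by
  rcases c with (j | j) | j
  · rw [oord_e, oord_f] at h
    have := i.2
    have := j.2
    omega
  · rw [oord_f, oord_f] at h
    have := i.2
    have := j.2
    have : (j : ℕ) = i := by omega
    rw [Fin.ext this]
  · rw [oord_f, oord_w] at h
    have := i.2
    omega


theorem faclx_sS_symm_inl (k k' i : Fin m) :
    (simpleShort k k').symm (Sum.inl i) = Sum.inl (Equiv.swap k k' i) := by
  rw [Equiv.symm_apply_eq]
  unfold simpleShort
  have h1 : Equiv.swap (Sum.inr k : Idx m) (Sum.inr k') (Sum.inl (Equiv.swap k k' i)) =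
      Sum.inl (Equiv.swap k k' i) := Equiv.swap_apply_of_ne_of_ne (by simp) (by simp)
  rw [Equiv.Perm.mul_apply, h1, ← Sum.inl_injective.swap_apply, Equiv.swap_apply_self]

theorem faclx_sS_symm_inr (k k' i : Fin m) :
    (simpleShort k k').symm (Sum.inr i) = Sum.inr (Equiv.swap k k' i) := by
  rw [Equiv.symm_apply_eq]
  unfold simpleShort
  have h1 : Equiv.swap (Sum.inl k : Idx m) (Sum.inl k') (Sum.inr i) = Sum.inr i :=
    Equiv.swap_apply_of_ne_of_ne (by simp) (by simp)
  rw [Equiv.Perm.mul_apply, ← Sum.inr_injective.swap_apply, Equiv.swap_apply_self, h1]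

theorem faclx_hat_symm_inl (σ : Equiv.Perm (Idx m)) (s : Idx m) :
    (faclx_hat σ).symm (Sum.inl s) = Sum.inl (σ.symm s) := rfl

theorem faclx_hat_symm_inr (σ : Equiv.Perm (Idx m)) (j : Fin 2) :
    (faclx_hat σ).symm (Sum.inr j) = Sum.inr j := rfl

theorem faclx_tau_val (k k' x : Fin m) :
    ((Equiv.swap k k' x : Fin m) : ℕ) = if x = k then (k' : ℕ) else if x = k' then (k : ℕ) else x := by
  rw [Equiv.swap_apply_def]
  split_ifs <;> rfl

theorem faclx_tau_lt {k k' : Fin m} (hkk : (k : ℕ) + 1 = (k' : ℕ)) {i j : Fin m}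
    (hji : (j : ℕ) < (i : ℕ)) (hne : ¬(j = k ∧ i = k')) :
    ((Equiv.swap k k' j : Fin m) : ℕ) < ((Equiv.swap k k' i : Fin m) : ℕ) := by
  rw [faclx_tau_val, faclx_tau_val]
  simp only [Fin.ext_iff] at hne ⊢
  split_ifs <;> omega

end Cfsg.Agent.Lib.Helper41.OmBN
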