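import Mathlib
import Cfsg.Agent.Lib.Helper41.OmBNDefs
import Cfsg.Agent.Lib.Helper34.OmBN_FacAux

/-! # S2549 OmBN hive (helper41), leaf FACL `facL` (helper34) -/

set_option autoImplicit false

namespace Cfsg.Agent.Lib.Helper41.OmBN

open Matrix Cfsg Cfsg.Agent.Lib.Helper13 Cfsg.Agent.Lib.Helper8 Cfsg.Agent.Lib.Helper43
  Cfsg.Agent.Lib.Helper41.SpBN

variable {F : Type*} [Field F] {m : ℕ} {a b : F}

theorem facl_polar_e_vw (k : Fin m) (c : Fin 2 → F) :
    QuadraticMap.polar (⇑(minusForm m F a b)) (ve F k) (vw F m c) = 0 := by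
  have := polar_minusForm_inl m F a b k (vw F m c)
  rw [ve, this]
  rfl

/-- the action of the root element `E(e_k, c)`, `c ∈ W` -/
theorem facl_root_mulVec {k : Fin m} (c : Fin 2 → F) {x : OG F m a b}
    (hx : ActsAs F m a b x (ve F k) (vw F m c)) (v : MIdx m → F) :
    mat x *ᵥ v = v + v (Sum.inl (Sum.inr k)) • vw F m c -
      (QuadraticMap.polar (⇑(minusForm m F a b)) (vw F m c) v +
        minusForm m F a b (vw F m c) * v (Sum.inl (Sum.inr k))) • ve F k := by
  rw [hx v, eichlerLin_apply]
  have h1 : QuadraticMap.polar (⇑(minusForm m F a b)) (ve F k) v = v (Sum.inl (Sum.inr k)) :=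
    polar_minusForm_inl m F a b k v
  rw [h1, add_smul]
  abel

theorem facl_polar_vw_e (c : Fin 2 → F) (l : Fin m) :
    QuadraticMap.polar (⇑(minusForm m F a b)) (vw F m c) (Pi.single (Sum.inl (Sum.inl l)) 1) = 0 := by
  rw [QuadraticMap.polar_comm, polar_minusForm_inl]
  rfl

theorem facl_polar_vw_f (c : Fin 2 → F) (l : Fin m) :
    QuadraticMap.polar (⇑(minusForm m F a b)) (vw F m c) (Pi.single (Sum.inl (Sum.inr l)) 1) = 0 := by
  rw [QuadraticMap.polar_comm, polar_minusForm_inr]
  rfl

theorem facl_mulVec_vw (M : Matrix (MIdx m) (MIdx m) F) (c : Fin 2 → F) (i : MIdx m) :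
    (M *ᵥ vw F m c) i = ∑ l : Fin 2, M i (Sum.inr l) * c l := by
  rw [Matrix.mulVec, dotProduct, Fintype.sum_sum_type]
  simp [vw]

theorem facl_sL_symm (k : Fin m) : (simpleLong k).symm = simpleLong k := by
  unfold simpleLong
  exact Equiv.symm_swap _ _

theorem facl_sL_inl (k i : Fin m) :
    simpleLong k (Sum.inl i) = if i = k then Sum.inr k else Sum.inl i := by
  unfold simpleLong
  by_cases h : i = k
  · subst h
    rw [Equiv.swap_apply_left, if_pos rfl]
  · rw [if_neg h, Equiv.swap_apply_of_ne_of_ne (by simpa using h) (by simp)]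

theorem facl_sL_inr (k i : Fin m) :
    simpleLong k (Sum.inr i) = if i = k then Sum.inl k else Sum.inr i := by
  unfold simpleLong
  by_cases h : i = k
  · subst h
    rw [Equiv.swap_apply_right, if_pos rfl]
  · rw [if_neg h, Equiv.swap_apply_of_ne_of_ne (by simp) (by simpa using h)]

theorem facL [Fintype F] (hab : Aniso a b) {k : Fin m} (hk : (k : ℕ) + 1 = m) {s : OG F m a b}
    (hs : mat s = permBlock (simpleLong k)) :
    ∀ g ∈ Bo F m a b, ∃ g' ∈ Bo F m a b, ∃ x ∈ XL F m a b k, g = g' * x ∧
      s * g' * s⁻¹ ∈ Bo F m a b := by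
  intro g hg
  have hgB := (mem_Bo_iff g).1 hg
  have hgiB := (mem_Bo_iff g⁻¹).1 ((Bo F m a b).inv_mem hg)
  -- the `W`-block of `g` is invertible
  have hDD : ∀ i j : Fin 2, ∑ l : Fin 2, mat g (Sum.inr i) (Sum.inr l) * mat g⁻¹ (Sum.inr l) (Sum.inr j) =
      if i = j then 1 else 0 := by
    intro i j
    have h1 : (mat g * mat g⁻¹) (Sum.inr i) (Sum.inr j) = (1 : Matrix (MIdx m) (MIdx m) F) (Sum.inr i) (Sum.inr j) := by
      rw [mat_mul_inv]
    rw [Matrix.mul_apply, Fintype.sum_sum_type, Fintype.sum_sum_type, Matrix.one_apply] at h1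
    have e1 : ∀ l : Fin m, mat g (Sum.inr i) (Sum.inl (Sum.inl l)) = 0 := fun l =>
      hgB _ _ (by
        rw [oord_e, oord_w]
        exact l.2)
    have e2 : ∀ l : Fin m, mat g⁻¹ (Sum.inl (Sum.inr l)) (Sum.inr j) = 0 := fun l =>
      hgiB _ _ (by
        rw [oord_f, oord_w]
        have := l.2
        omega)
    simp only [e1, e2, zero_mul, mul_zero, Finset.sum_const_zero, zero_add] at h1
    rw [h1]
    simp
  set c : Fin 2 → F := fun l => ∑ j : Fin 2, mat g⁻¹ (Sum.inr l) (Sum.inr j) *
    mat g (Sum.inr j) (Sum.inl (Sum.inr k)) with hc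
  have hcD : ∀ i : Fin 2, ∑ l : Fin 2, mat g (Sum.inr i) (Sum.inr l) * c l =
      mat g (Sum.inr i) (Sum.inl (Sum.inr k)) := by
    intro i
    calc ∑ l : Fin 2, mat g (Sum.inr i) (Sum.inr l) * c l
        = ∑ l : Fin 2, ∑ j : Fin 2, (mat g (Sum.inr i) (Sum.inr l) * mat g⁻¹ (Sum.inr l) (Sum.inr j)) *
            mat g (Sum.inr j) (Sum.inl (Sum.inr k)) := by
          apply Finset.sum_congr rfl
          intro l _
          rw [hc, Finset.mul_sum]
          apply Finset.sum_congr rfl
          intro j _
          rw [mul_assoc]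
      _ = ∑ j : Fin 2, ∑ l : Fin 2, (mat g (Sum.inr i) (Sum.inr l) * mat g⁻¹ (Sum.inr l) (Sum.inr j)) *
            mat g (Sum.inr j) (Sum.inl (Sum.inr k)) := Finset.sum_comm
      _ = ∑ j : Fin 2, (if i = j then 1 else 0) * mat g (Sum.inr j) (Sum.inl (Sum.inr k)) := by
          apply Finset.sum_congr rfl
          intro j _
          rw [← Finset.sum_mul, hDD]
      _ = mat g (Sum.inr i) (Sum.inl (Sum.inr k)) := by simp
  obtain ⟨x, hx⟩ := eichler_exists (m := m) hab (ve F k) (vw F m c)
    (minusForm_single_inl m F a b k) (facl_polar_e_vw k c)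
  have hxB : x ∈ Bo F m a b := by
    rw [mem_Bo_iff]
    intro i j hij
    have h2 : mat x i j = (mat x *ᵥ Pi.single j 1) i := by rw [faclx_col]
    have hne' : i ≠ j := by
      rintro rfl
      omega
    rw [h2, facl_root_mulVec c hx]
    simp only [Pi.add_apply, Pi.sub_apply, Pi.smul_apply, ve, Pi.single_apply, smul_eq_mul,
      if_neg hne']
    by_cases h3 : (Sum.inl (Sum.inr k) : MIdx m) = j
    · subst h3
      rcases i with (i | i) | i
      · rw [oord_e, oord_f] at hij
        have := i.2
        have := k.2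
        omega
      · simp [vw]
      · rw [oord_w, oord_f] at hij
        have := k.2
        omega
    · rw [if_neg h3]
      by_cases h6 : i = Sum.inl (Sum.inl k)
      · subst h6
        rcases j with (j | j) | j
        · have := facl_polar_vw_e (F := F) (m := m) (a := a) (b := b) c j
          rw [this]
          simp
        · rw [oord_e, oord_f] at hij
          have := j.2
          have := k.2
          omega
        · rw [oord_e, oord_w] at hij
          have := k.2
          omega
      · rw [if_neg h6]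
        simp
  set g' : OG F m a b := g * x⁻¹ with hg'def
  have hg'B : g' ∈ Bo F m a b := (Bo F m a b).mul_mem hg ((Bo F m a b).inv_mem hxB)
  have hgg' : g = g' * x := by
    rw [hg'def, inv_mul_cancel_right]
  have hb' := (mem_Bo_iff g').1 hg'B
  have hform : ∀ i j : MIdx m, mat g i j = mat g' i j
      + (if (Sum.inl (Sum.inr k) : MIdx m) = j then 1 else 0) *
          (∑ l : Fin 2, mat g' i (Sum.inr l) * c l)
      - (QuadraticMap.polar (⇑(minusForm m F a b)) (vw F m c) (Pi.single j 1) +
        minusForm m F a b (vw F m c) * (if (Sum.inl (Sum.inr k) : MIdx m) = j then 1 else 0)) *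
          mat g' i (Sum.inl (Sum.inl k)) := by
    intro i j
    have h1 : mat g = mat g' * mat x := by rw [← mat_mul, ← hgg']
    have h2 : mat g i j = (mat g *ᵥ Pi.single j 1) i := by rw [faclx_col]
    rw [h2, h1, ← Matrix.mulVec_mulVec, facl_root_mulVec c hx, Matrix.mulVec_sub, Matrix.mulVec_add,
      Matrix.mulVec_smul, Matrix.mulVec_smul]
    unfold ve
    rw [faclx_col, faclx_col]
    simp only [Pi.add_apply, Pi.sub_apply, Pi.smul_apply, Pi.single_apply, smul_eq_mul,
      facl_mulVec_vw]
  have hek : ∀ i : Fin 2, mat g' (Sum.inr i) (Sum.inl (Sum.inl k)) = 0 := fun i =>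
    hb' _ _ (by
      rw [oord_e, oord_w]
      exact k.2)
  have hWW : ∀ i l : Fin 2, mat g' (Sum.inr i) (Sum.inr l) = mat g (Sum.inr i) (Sum.inr l) := by
    intro i l
    have h1 := hform (Sum.inr i) (Sum.inr l)
    rw [hek, mul_zero, sub_zero, if_neg (by simp), zero_mul, add_zero] at h1
    exact h1.symm
  have h0 : ∀ i : Fin 2, mat g' (Sum.inr i) (Sum.inl (Sum.inr k)) = 0 := by
    intro i
    have h1 := hform (Sum.inr i) (Sum.inl (Sum.inr k))
    rw [hek, mul_zero, sub_zero, if_pos rfl, one_mul] at h1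
    have h2 : ∑ l : Fin 2, mat g' (Sum.inr i) (Sum.inr l) * c l =
        mat g (Sum.inr i) (Sum.inl (Sum.inr k)) := by
      rw [← hcD i]
      apply Finset.sum_congr rfl
      intro l _
      rw [hWW]
    rw [h2] at h1
    linear_combination (-1 : F) * h1
  have hdk : mat g' (Sum.inl (Sum.inr k)) (Sum.inl (Sum.inr k)) ≠ 0 :=
    faclx_diag_ne_zero hg'B _ (faclx_oord_f_inj k)
  have hfk : ∀ i : Fin m, i ≠ k → mat g' (Sum.inl (Sum.inr i)) (Sum.inl (Sum.inr k)) = 0 := by
    intro i hik
    apply hb'
    rw [oord_f, oord_f]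
    have := Fin.val_ne_of_ne hik
    have := i.2
    omega
  have h1 : mat g' (Sum.inl (Sum.inl k)) (Sum.inl (Sum.inr k)) = 0 := by
    have hp := mat_preserves g' (Pi.single (Sum.inl (Sum.inr k)) 1)
    rw [minusForm_single_inr, faclx_col, ← minusForm_coe] at hp
    unfold Cfsg.quadFormMinus at hp
    beta_reduce at hp
    rw [h0, h0, Finset.sum_eq_single k] at hp
    · have hp' : mat g' (Sum.inl (Sum.inl k)) (Sum.inl (Sum.inr k)) *
          mat g' (Sum.inl (Sum.inr k)) (Sum.inl (Sum.inr k)) = 0 := by
        linear_combination hp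
      rcases mul_eq_zero.1 hp' with h | h
      · exact h
      · exact absurd h hdk
    · intro i _ hik
      rw [hfk i hik, mul_zero]
    · simp
  have h2 : ∀ j : Fin 2, mat g' (Sum.inl (Sum.inl k)) (Sum.inr j) = 0 := by
    intro j
    have hp := iso_polar (minusForm m F a b) g' (Pi.single (Sum.inl (Sum.inr k)) 1)
      (Pi.single (Sum.inr j) 1)
    rw [polar_minusForm_inr, Pi.single_apply, if_neg (by simp)] at hp
    change QuadraticMap.polar (⇑(minusForm m F a b)) (mat g' *ᵥ _) (mat g' *ᵥ _) = 0 at hp
    rw [faclx_col, faclx_col, polar_minusForm] at hp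
    have hz1 : ∀ i : Fin m, mat g' (Sum.inl (Sum.inr i)) (Sum.inr j) = 0 := fun i =>
      hb' _ _ (by
        rw [oord_w, oord_f]
        have := i.2
        omega)
    simp only [hz1, h0, mul_zero, zero_mul, add_zero, zero_add] at hp
    rw [Finset.sum_eq_single k] at hp
    · rcases mul_eq_zero.1 hp with h | h
      · exact h
      · exact absurd h hdk
    · intro i _ hik
      rw [hfk i hik, mul_zero]
    · simp
  refine ⟨g', hg'B, x, ⟨c, hx⟩, hgg', ?_⟩
  have hlast : ∀ i : Fin m, i ≠ k → (i : ℕ) < (k : ℕ) := by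
    intro i hi
    have := Fin.val_ne_of_ne hi
    have := i.2
    omega
  rw [mem_Bo_iff]
  intro i j hij
  rw [faclx_conj_apply s g' hs]
  rcases i with (i | i) | i <;> rcases j with (j | j) | j
  · rw [faclx_hat_symm_inl, faclx_hat_symm_inl, facl_sL_symm, facl_sL_inl, facl_sL_inl]
    rw [oord_e, oord_e] at hij
    have hjk : j ≠ k := by
      rintro rfl
      have := i.2
      omega
    rw [if_neg hjk]
    by_cases hik : i = k
    · rw [if_pos hik]
      exact hb' _ _ (by
        rw [oord_e, oord_f]
        have := j.2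
        have := k.2
        omega)
    · rw [if_neg hik]
      exact hb' _ _ (by
        rw [oord_e, oord_e]
        exact hij)
  · rw [oord_e, oord_f] at hij
    have := i.2
    have := j.2
    omega
  · rw [oord_e, oord_w] at hij
    have := i.2
    omega
  · rw [faclx_hat_symm_inl, faclx_hat_symm_inl, facl_sL_symm, facl_sL_inr, facl_sL_inl]
    by_cases hik : i = k
    · rw [if_pos hik]
      by_cases hjk : j = k
      · rw [if_pos hjk]
        exact h1
      · rw [if_neg hjk]
        exact hb' _ _ (by
          rw [oord_e, oord_e]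
          exact hlast j hjk)
    · rw [if_neg hik]
      by_cases hjk : j = k
      · rw [if_pos hjk]
        exact hfk i hik
      · rw [if_neg hjk]
        exact hb' _ _ (by
          rw [oord_e, oord_f]
          have := i.2
          have := j.2
          omega)
  · rw [faclx_hat_symm_inl, faclx_hat_symm_inl, facl_sL_symm, facl_sL_inr, facl_sL_inr]
    rw [oord_f, oord_f] at hij
    have hij' : (i : ℕ) < (j : ℕ) := by
      have := i.2
      have := j.2
      omega
    have hik : i ≠ k := by
      rintro rfl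
      have := j.2
      omega
    rw [if_neg hik]
    by_cases hjk : j = k
    · rw [if_pos hjk]
      exact hb' _ _ (by
        rw [oord_e, oord_f]
        have := i.2
        have := k.2
        omega)
    · rw [if_neg hjk]
      exact hb' _ _ (by
        rw [oord_f, oord_f]
        have := i.2
        have := j.2
        omega)
  · rw [faclx_hat_symm_inl, faclx_hat_symm_inr, facl_sL_symm, facl_sL_inr]
    by_cases hik : i = k
    · rw [if_pos hik]
      exact h2 j
    · rw [if_neg hik]
      exact hb' _ _ (by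
        rw [oord_w, oord_f]
        have := i.2
        omega)
  · rw [faclx_hat_symm_inr, faclx_hat_symm_inl, facl_sL_symm, facl_sL_inl]
    by_cases hjk : j = k
    · rw [if_pos hjk]
      exact h0 i
    · rw [if_neg hjk]
      exact hb' _ _ (by
        rw [oord_e, oord_w]
        exact j.2)
  · rw [oord_w, oord_f] at hij
    have := j.2
    omega
  · rw [oord_w, oord_w] at hij
    omega

end Cfsg.Agent.Lib.Helper41.OmBN
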