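import Mathlib
import Cfsg.Agent.Lib.Helper40.OpBNDefs

/-! # S2548 OpBN hive (helper40), leaf FACD: core (the other leaves as hypotheses) (helper34) -/

set_option autoImplicit false

namespace Cfsg.Agent.Lib.Helper40.OpBN

open Matrix Cfsg Cfsg.Agent.Lib.Helper13 Cfsg.Agent.Lib.Helper41.SpBN

variable {F : Type*} [Field F] {m : ℕ}

theorem facd_sD_inl_k {k k' : Fin m} (h : k ≠ k') :
    simpleD k k' (Sum.inl k) = Sum.inr k' := by
  simp [simpleD, Equiv.swap_apply_def, h]

theorem facd_sD_inr_k' {k k' : Fin m} (h : k ≠ k') :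
    simpleD k k' (Sum.inr k') = Sum.inl k := by
  simp [simpleD, Equiv.swap_apply_def, h.symm]

theorem facd_sD_inl_k' {k k' : Fin m} (h : k ≠ k') :
    simpleD k k' (Sum.inl k') = Sum.inr k := by
  simp [simpleD, Equiv.swap_apply_def, h]

theorem facd_sD_inr_k {k k' : Fin m} (h : k ≠ k') :
    simpleD k k' (Sum.inr k) = Sum.inl k' := by
  simp [simpleD, Equiv.swap_apply_def, h.symm]

theorem facd_sD_inl_other {k k' i : Fin m} (hi : i ≠ k) (hi' : i ≠ k') :
    simpleD k k' (Sum.inl i) = Sum.inl i := by
  simp [simpleD, Equiv.swap_apply_def, hi, hi']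

theorem facd_sD_inr_other {k k' i : Fin m} (hi : i ≠ k) (hi' : i ≠ k') :
    simpleD k k' (Sum.inr i) = Sum.inr i := by
  simp [simpleD, Equiv.swap_apply_def, hi, hi']

theorem facd_sD_symm {k k' : Fin m} (h : k ≠ k') : (simpleD k k').symm = simpleD k k' := by
  ext a
  rw [Equiv.symm_apply_eq]
  rcases a with i | i
  · by_cases h1 : i = k
    · subst h1
      rw [facd_sD_inl_k h, facd_sD_inr_k' h]
    · by_cases h2 : i = k'
      · subst h2
        rw [facd_sD_inl_k' h, facd_sD_inr_k h]
      · rw [facd_sD_inl_other h1 h2, facd_sD_inl_other h1 h2]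
  · by_cases h1 : i = k
    · subst h1
      rw [facd_sD_inr_k h, facd_sD_inl_k' h]
    · by_cases h2 : i = k'
      · subst h2
        rw [facd_sD_inr_k' h, facd_sD_inl_k h]
      · rw [facd_sD_inr_other h1 h2, facd_sD_inr_other h1 h2]

/-- entries of a conjugate by a permutation matrix -/
theorem facd_conj_apply (s g : OG F m) {σ : Equiv.Perm (Idx m)} (hs : mt s = permMat F σ)
    (a c : Idx m) : mt (s * g * s⁻¹) a c = mt g (σ.symm a) (σ.symm c) := by
  have hn : IsMono (mt s) σ (fun _ => (1 : F)) := by
    rw [hs]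
    exact permMat_isMono σ
  have hn' := isMono_inv' (mt_inv_mul s) hn
  rw [mt_mul, mt_mul, Matrix.mul_apply, Finset.sum_eq_single (σ.symm c)]
  · rw [Matrix.mul_apply, Finset.sum_eq_single (σ.symm a)]
    · rw [hn a (σ.symm a), if_pos (by simp), hn' (σ.symm c) c, if_pos rfl]
      simp
    · intro u _ hu
      rw [hn a u, if_neg ?_, zero_mul]
      intro h
      apply hu
      rw [h]
      simp
    · simp
  · intro v _ hv
    rw [hn' v c, if_neg hv, mul_zero]
  · simp

theorem facd_mul_single_apply (M : Matrix (Idx m) (Idx m) F) (p q a c : Idx m) :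
    (M * Matrix.single p q (1 : F)) a c = if c = q then M a p else 0 := by
  by_cases h : c = q
  · subst h
    rw [if_pos rfl, Matrix.mul_single_apply_same, mul_one]
  · rw [if_neg h, Matrix.mul_single_apply_of_ne _ _ _ _ _ h]

theorem facd_mul_root2 (M : Matrix (Idx m) (Idx m) F) (t : F) (p q p' q' a c : Idx m) :
    (M * (1 + t • Matrix.single p q (1 : F) - t • Matrix.single p' q' (1 : F))) a c =
      M a c + t * (if c = q then M a p else 0) - t * (if c = q' then M a p' else 0) := by
  rw [Matrix.mul_sub, Matrix.mul_add, Matrix.mul_one, Matrix.mul_smul, Matrix.mul_smul]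
  simp only [Matrix.sub_apply, Matrix.add_apply, Matrix.smul_apply, smul_eq_mul,
    facd_mul_single_apply]

section core

variable
  (hBo : ∀ g : OG F m, g ∈ Bo F m ↔
      (∀ i j : Fin m, (j : ℕ) < (i : ℕ) → mt g (Sum.inl i) (Sum.inl j) = 0) ∧
      (∀ i j : Fin m, mt g (Sum.inr i) (Sum.inl j) = 0))
  (hlower : ∀ {g : OG F m}, g ∈ Bo F m →
    ∀ i j : Fin m, (i : ℕ) < (j : ℕ) → mt g (Sum.inr i) (Sum.inr j) = 0)
  (hgram : ∀ (g : OG F m) (a s : Idx m),
    ∑ i : Fin m, (mt g (Sum.inl i) a * mt g (Sum.inr i) s + mt g (Sum.inr i) a * mt g (Sum.inl i) s) =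
      if s = a.swap then 1 else 0)

include hBo hlower hgram in
/-- the product of the two diagonal entries `(e_k,e_k)`, `(f_k,f_k)` of `b ∈ B` is `1` -/
theorem facd_diag {b : OG F m} (hb : b ∈ Bo F m) (k : Fin m) :
    mt b (Sum.inl k) (Sum.inl k) * mt b (Sum.inr k) (Sum.inr k) = 1 := by
  have h := hgram b (Sum.inl k) (Sum.inr k)
  rw [if_pos (show (Sum.inr k : Idx m) = (Sum.inl k : Idx m).swap from rfl),
    Finset.sum_eq_single k] at h
  · rw [((hBo b).1 hb).2 k k, zero_mul, add_zero] at h
    exact h
  · intro i _ hik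
    rw [((hBo b).1 hb).2 i k, zero_mul, add_zero]
    rcases lt_or_gt_of_ne (Fin.val_ne_of_ne hik) with h1 | h1
    · rw [hlower hb i k h1, mul_zero]
    · rw [((hBo b).1 hb).1 i k h1, zero_mul]
  · simp

end core

theorem facd_core {k k' : Fin m} (hkk : (k : ℕ) + 1 = (k' : ℕ)) (hk' : (k' : ℕ) + 1 = m) {s : OG F m}
    (hs : mt s = permMat F (simpleD k k'))
    (hroot : ∀ t : F, ∃ g : OG F m, mt g = 1 + t • Matrix.single (Sum.inl k) (Sum.inr k') (1 : F)
      - t • Matrix.single (Sum.inl k') (Sum.inr k) (1 : F))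
    (hBo : ∀ g : OG F m, g ∈ Bo F m ↔
      (∀ i j : Fin m, (j : ℕ) < (i : ℕ) → mt g (Sum.inl i) (Sum.inl j) = 0) ∧
      (∀ i j : Fin m, mt g (Sum.inr i) (Sum.inl j) = 0))
    (hlower : ∀ {g : OG F m}, g ∈ Bo F m →
      ∀ i j : Fin m, (i : ℕ) < (j : ℕ) → mt g (Sum.inr i) (Sum.inr j) = 0)
    (hlast : ∀ {g : OG F m}, g ∈ Bo F m → ∀ {k : Fin m}, (k : ℕ) + 1 = m →
      mt g (Sum.inl k) (Sum.inr k) = 0)
    (hgram : ∀ (g : OG F m) (a s : Idx m),
      ∑ i : Fin m, (mt g (Sum.inl i) a * mt g (Sum.inr i) s + mt g (Sum.inr i) a * mt g (Sum.inl i) s) =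
        if s = a.swap then 1 else 0)
    (hsing : ∀ (g : OG F m) (a : Idx m),
      ∑ i : Fin m, mt g (Sum.inl i) a * mt g (Sum.inr i) a = 0) :
    ∀ b ∈ Bo F m, ∃ b' ∈ Bo F m, ∃ x ∈ XD F m k k', b = b' * x ∧ s * b' * s⁻¹ ∈ Bo F m := by
  intro b hb
  have hne : k ≠ k' := by
    intro h
    rw [h] at hkk
    omega
  have hd : mt b (Sum.inl k) (Sum.inl k) ≠ 0 := by
    intro h0
    have := facd_diag hBo hlower hgram hb k
    rw [h0, zero_mul] at this
    exact zero_ne_one this
  set t : F := mt b (Sum.inl k) (Sum.inr k') / mt b (Sum.inl k) (Sum.inl k) with ht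
  obtain ⟨x, hxval⟩ := hroot t
  have hxB : x ∈ Bo F m := by
    rw [hBo]
    constructor
    · intro i j hij
      have hij' : i ≠ j := by
        intro h
        rw [h] at hij
        omega
      rw [hxval]
      simp [hij']
    · intro i j
      rw [hxval]
      simp
  set b' : OG F m := b * x⁻¹ with hb'def
  have hb'B : b' ∈ Bo F m := (Bo F m).mul_mem hb ((Bo F m).inv_mem hxB)
  have hbb' : b = b' * x := by
    rw [hb'def, inv_mul_cancel_right]
  have hform : ∀ a c : Idx m, mt b a c = mt b' a c +
      t * (if c = Sum.inr k' then mt b' a (Sum.inl k) else 0) -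
      t * (if c = Sum.inr k then mt b' a (Sum.inl k') else 0) := by
    intro a c
    have h1 : mt b = mt b' * mt x := by rw [← mt_mul, ← hbb']
    rw [h1, hxval, facd_mul_root2]
  -- the four vanishing entries
  have h0 : mt b' (Sum.inl k) (Sum.inr k') = 0 := by
    have h1 := hform (Sum.inl k) (Sum.inr k')
    have h2 := hform (Sum.inl k) (Sum.inl k)
    rw [if_pos rfl, if_neg (by simpa using hne.symm)] at h1
    rw [if_neg (by simp), if_neg (by simp)] at h2
    have h3 : t * mt b (Sum.inl k) (Sum.inl k) = mt b (Sum.inl k) (Sum.inr k') := by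
      rw [ht, div_mul_cancel₀ _ hd]
    linear_combination (-1 : F) * h1 - h3 + t * h2
  have hb'' := (hBo b').1 hb'B
  have hlow := hlower hb'B
  have hbig : ∀ i : Fin m, i ≠ k → i ≠ k' → (i : ℕ) < (k : ℕ) := by
    intro i hi hi'
    have := Fin.val_ne_of_ne hi
    have := Fin.val_ne_of_ne hi'
    have := i.2
    omega
  have hkk'lt : (k : ℕ) < (k' : ℕ) := by omega
  have hdk' : mt b' (Sum.inr k') (Sum.inr k') ≠ 0 := by
    intro h0
    have := facd_diag hBo hlower hgram hb'B k'
    rw [h0, mul_zero] at this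
    exact zero_ne_one this
  have hdk : mt b' (Sum.inr k) (Sum.inr k) ≠ 0 := by
    intro h0
    have := facd_diag hBo hlower hgram hb'B k
    rw [h0, mul_zero] at this
    exact zero_ne_one this
  have h1 : mt b' (Sum.inl k') (Sum.inr k') = 0 := hlast hb'B hk'
  have h2 : mt b' (Sum.inl k') (Sum.inr k) = 0 := by
    have h := hgram b' (Sum.inr k) (Sum.inr k')
    rw [if_neg (by simp), Finset.sum_eq_single k'] at h
    · rw [h1, mul_zero, add_zero] at h
      rcases mul_eq_zero.1 h with h | h
      · exact h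
      · exact absurd h hdk'
    · intro i _ hik'
      by_cases hik : i = k
      · subst hik
        rw [hlow i k' hkk'lt, mul_zero, h0, mul_zero, add_zero]
      · have hlt := hbig i hik hik'
        rw [hlow i k' (by omega), mul_zero, hlow i k hlt, zero_mul, add_zero]
    · simp
  have h3 : mt b' (Sum.inl k) (Sum.inr k) = 0 := by
    have h := hsing b' (Sum.inr k)
    rw [Finset.sum_eq_single k] at h
    · rcases mul_eq_zero.1 h with h | h
      · exact h
      · exact absurd h hdk
    · intro i _ hik
      by_cases hik' : i = k'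
      · subst hik'
        rw [h2, zero_mul]
      · rw [hlow i k (hbig i hik hik'), mul_zero]
    · simp
  refine ⟨b', hb'B, x, ⟨t, hxval⟩, hbb', ?_⟩
  rw [hBo]
  constructor
  · intro i j hij
    rw [facd_conj_apply s b' hs, facd_sD_symm hne]
    have hjk' : j ≠ k' := by
      rintro rfl
      have := i.2
      omega
    by_cases hik : i = k
    · subst hik
      have hji : j ≠ i := by
        rintro rfl
        omega
      rw [facd_sD_inl_k hne, facd_sD_inl_other hji hjk']
      exact hb''.2 _ _
    · by_cases hik' : i = k'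
      · subst hik'
        rw [facd_sD_inl_k' hne]
        by_cases hjk : j = k
        · subst hjk
          rw [facd_sD_inl_k hne]
          exact hlow _ _ hkk'lt
        · rw [facd_sD_inl_other hjk hjk']
          exact hb''.2 _ _
      · have hjk : j ≠ k := by
          rintro rfl
          have := hbig i hik hik'
          omega
        rw [facd_sD_inl_other hik hik', facd_sD_inl_other hjk hjk']
        exact hb''.1 _ _ hij
  · intro i j
    rw [facd_conj_apply s b' hs, facd_sD_symm hne]
    by_cases hik : i = k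
    · subst hik
      rw [facd_sD_inr_k hne]
      by_cases hjk : j = i
      · subst hjk
        rw [facd_sD_inl_k hne]
        exact h1
      · by_cases hjk' : j = k'
        · subst hjk'
          rw [facd_sD_inl_k' hne]
          exact h2
        · rw [facd_sD_inl_other hjk hjk']
          have := hbig j hjk hjk'
          exact hb''.1 _ _ (by omega)
    · by_cases hik' : i = k'
      · subst hik'
        rw [facd_sD_inr_k' hne]
        by_cases hjk : j = k
        · subst hjk
          rw [facd_sD_inl_k hne]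
          exact h0
        · by_cases hjk' : j = i
          · subst hjk'
            rw [facd_sD_inl_k' hne]
            exact h3
          · rw [facd_sD_inl_other hjk hjk']
            exact hb''.1 _ _ (hbig j hjk hjk')
      · rw [facd_sD_inr_other hik hik']
        have hilt := hbig i hik hik'
        by_cases hjk : j = k
        · subst hjk
          rw [facd_sD_inl_k hne]
          exact hlow _ _ (by omega)
        · by_cases hjk' : j = k'
          · subst hjk'
            rw [facd_sD_inl_k' hne]
            exact hlow _ _ hilt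
          · rw [facd_sD_inl_other hjk hjk']
            exact hb''.2 _ _

end Cfsg.Agent.Lib.Helper40.OpBN
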