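import Mathlib
import Cfsg.Agent.Lib.Helper40.OpBNDefs
import Cfsg.Agent.Lib.Helper34.OpBN_FACDcore
import Cfsg.Agent.Lib.Helper40.OpBN_ROOT
import Cfsg.Agent.Lib.Helper87.OpBN_BOREL
import Cfsg.Agent.Lib.Helper87.OpBN_LOWER
import Cfsg.Agent.Lib.Helper2.OpBN_POLAR

/-! # S2548 OpBN hive (helper40), leaf FACD `facD` (helper34) -/

set_option autoImplicit false

namespace Cfsg.Agent.Lib.Helper40.OpBN

open Matrix Cfsg Cfsg.Agent.Lib.Helper13 Cfsg.Agent.Lib.Helper41.SpBN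

variable {F : Type*} [Field F] {m : ℕ}

theorem facD {k k' : Fin m} (hkk : (k : ℕ) + 1 = (k' : ℕ)) (hk' : (k' : ℕ) + 1 = m) {s : OG F m}
    (hs : mt s = permMat F (simpleD k k')) :
    ∀ b ∈ Bo F m, ∃ b' ∈ Bo F m, ∃ x ∈ XD F m k k', b = b' * x ∧ s * b' * s⁻¹ ∈ Bo F m :=
  facd_core hkk hk' hs
    (fun t => exists_xD k k' (by
      intro h
      rw [h] at hkk
      omega) t)
    mem_Bo_iff (fun hg => Bo_lower hg) (fun hg _ hk => Bo_last hg hk) mt_gram mt_sing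

end Cfsg.Agent.Lib.Helper40.OpBN
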