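import Cfsg.Agent.Lib.Helper38.RhDefs

set_option autoImplicit false

/-! RH-AR5 (Rh hive, owner helper38): with an unknown index `w₁ ∈ {2,4,6}` of the `(q+1)`-torus, the counting
equation forces `w₁ = 6`.  Pure arithmetic. -/

namespace Cfsg.Agent.Lib.Helper38.Rh

theorem ar5_term_ge (t w : ℕ) (ht : 7 ≤ t) (hw : w ∣ 6) :
    (1 : ℚ) / 7 ≤ ((t : ℚ) - 1) / ((w : ℚ) * (t : ℚ)) := by
  have hw6 : w ≤ 6 := Nat.le_of_dvd (by norm_num) hw
  have hw0 : 0 < w := Nat.pos_of_dvd_of_pos hw (by norm_num)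
  have ht' : (7 : ℚ) ≤ t := by exact_mod_cast ht
  have hw6' : (w : ℚ) ≤ 6 := by exact_mod_cast hw6
  have hw0' : (0 : ℚ) < w := by exact_mod_cast hw0
  rw [div_le_div_iff₀ (by norm_num) (by positivity)]
  nlinarith

theorem ar5_term_ge' (t w : ℕ) (ht : 7 ≤ t) (hw : w ∣ 6) (hne : w ≠ 6) :
    (2 : ℚ) / 7 ≤ ((t : ℚ) - 1) / ((w : ℚ) * (t : ℚ)) := by
  have hw6 : w ≤ 6 := Nat.le_of_dvd (by norm_num) hw
  have hw0 : 0 < w := Nat.pos_of_dvd_of_pos hw (by norm_num)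
  have hw3 : w ≤ 3 := by
    interval_cases w <;> simp_all
  have ht' : (7 : ℚ) ≤ t := by exact_mod_cast ht
  have hw3' : (w : ℚ) ≤ 3 := by exact_mod_cast hw3
  have hw0' : (0 : ℚ) < w := by exact_mod_cast hw0
  rw [div_le_div_iff₀ (by norm_num) (by positivity)]
  nlinarith

theorem ar5_term_lt (t : ℕ) (ht : 7 ≤ t) :
    ((t : ℚ) - 1) / (((6 : ℕ) : ℚ) * (t : ℚ)) < 1 / 6 := by
  have ht' : (7 : ℚ) ≤ t := by exact_mod_cast ht
  rw [div_lt_div_iff₀ (by positivity) (by norm_num)]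
  push_cast
  nlinarith

theorem ar5_qq_ge (m : ℕ) (hm : 1 ≤ m) : 27 ≤ qq m := by
  unfold qq
  calc 27 = 3 ^ 3 := by norm_num
    _ ≤ 3 ^ (2 * m + 1) := Nat.pow_le_pow_right (by norm_num) (by omega)

theorem ar5_NN_cast (m : ℕ) : (NN m : ℚ) = (qq m : ℚ) ^ 2 - (qq m : ℚ) + 1 := by
  unfold NN
  have h : qq m ≤ qq m ^ 2 := by
    have : 1 ≤ qq m := Nat.one_le_pow _ _ (by norm_num)
    nlinarith
  push_cast [Nat.cast_sub h]
  ring

/-- RH-AR5 -/
theorem w1_eq_six (m : ℕ) (hm : 1 ≤ m) {ι : Type*} (R : Finset ι) (t w : ι → ℕ)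
    (ht : ∀ i ∈ R, 7 ≤ t i) (hw : ∀ i ∈ R, w i ∣ 6) (hprod : ∏ i ∈ R, t i = NN m)
    (w₁ : ℕ) (hw₁ : w₁ = 2 ∨ w₁ = 4 ∨ w₁ = 6)
    (hsum : ((qq m : ℚ) - 3) / ((w₁ : ℚ) * ((qq m : ℚ) + 1)) +
      ∑ i ∈ R, ((t i : ℚ) - 1) / ((w i : ℚ) * (t i : ℚ)) = EE m) : w₁ = 6 := by
  have hq : (27 : ℚ) ≤ (qq m : ℚ) := by exact_mod_cast ar5_qq_ge m hm
  set Q : ℚ := (qq m : ℚ) with hQ
  have hN : (NN m : ℚ) = Q ^ 2 - Q + 1 := ar5_NN_cast m
  have hNpos : (0 : ℚ) < Q ^ 2 - Q + 1 := by nlinarith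
  set S : ℚ := ∑ i ∈ R, ((t i : ℚ) - 1) / ((w i : ℚ) * (t i : ℚ)) with hS
  -- the two auxiliary quantities
  set u : ℚ := (Q - 3) / (Q + 1) with hu
  set A : ℚ := (Q ^ 2 - 2 * Q) / (3 * (Q ^ 2 - Q + 1)) with hA
  have hu1 : u < 1 := by
    rw [hu, div_lt_one (by linarith)]
    linarith
  have hu2 : (6 : ℚ) / 7 ≤ u := by
    rw [hu, div_le_div_iff₀ (by norm_num) (by linarith)]
    linarith
  have hA1 : A < 1 / 3 := by
    rw [hA, div_lt_div_iff₀ (by positivity) (by norm_num)]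
    nlinarith
  have hA2 : (1 : ℚ) / 4 ≤ A := by
    rw [hA, div_le_div_iff₀ (by norm_num) (by positivity)]
    nlinarith
  have hEE : EE m = u / 6 + A := by
    unfold EE
    rw [hN, ← hQ, hu, hA]
    have h1 : Q + 1 ≠ 0 := by linarith
    have h2 : Q ^ 2 - Q + 1 ≠ 0 := hNpos.ne'
    field_simp
  have hfirst : (Q - 3) / ((w₁ : ℚ) * (Q + 1)) = u / (w₁ : ℚ) := by
    rw [hu, div_div, mul_comm]
  rw [hfirst, hEE] at hsum
  -- `R` is nonempty
  have hRne : R.Nonempty := by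
    rw [Finset.nonempty_iff_ne_empty]
    intro h
    rw [h, Finset.prod_empty] at hprod
    have : (NN m : ℚ) = 1 := by exact_mod_cast hprod.symm
    rw [hN] at this
    nlinarith
  -- lower bound for the sum
  have hSge : (R.card : ℚ) * (1 / 7) ≤ S := by
    have := Finset.card_nsmul_le_sum R (fun i => ((t i : ℚ) - 1) / ((w i : ℚ) * (t i : ℚ))) (1 / 7)
      (fun i hi => ar5_term_ge (t i) (w i) (ht i hi) (hw i hi))
    rwa [nsmul_eq_mul] at this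
  have hcard : (1 : ℚ) ≤ (R.card : ℚ) := by exact_mod_cast hRne.card_pos
  rcases hw₁ with h2 | h4 | h6
  · -- `w₁ = 2`
    exfalso
    rw [h2] at hsum
    push_cast at hsum
    nlinarith
  · -- `w₁ = 4`
    exfalso
    rw [h4] at hsum
    push_cast at hsum
    have hSlt : S < 2 / 7 := by linarith
    have hSgt : 1 / 6 < S := by linarith
    have hc1 : R.card = 1 := by
      have h2 : (R.card : ℚ) < 2 := by nlinarith
      have h2' : R.card < 2 := by exact_mod_cast h2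
      have h1' : 1 ≤ R.card := hRne.card_pos
      omega
    obtain ⟨i, hi⟩ := Finset.card_eq_one.1 hc1
    have hSi : S = ((t i : ℚ) - 1) / ((w i : ℚ) * (t i : ℚ)) := by
      rw [hS, hi, Finset.sum_singleton]
    have hiR : i ∈ R := by rw [hi]; exact Finset.mem_singleton_self i
    by_cases hw6 : w i = 6
    · have := ar5_term_lt (t i) (ht i hiR)
      rw [← hw6, ← hSi] at this
      linarith
    · have := ar5_term_ge' (t i) (w i) (ht i hiR) (hw i hiR) hw6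
      rw [← hSi] at this
      linarith
  · exact h6

end Cfsg.Agent.Lib.Helper38.Rh
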