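import Cfsg.Agent.Lib.Helper76.SlDefs

/-! # Sl hive (S2332, helper76): arithmetic leaf SL-AR0 `Tn_eq` (helper34) -/

set_option autoImplicit false

namespace Cfsg.Agent.Lib.Helper76.Sl

/-- `(q - 1) (1 + q + ... + q^(k-1)) + 1 = q^k` -/
theorem ar0_key (q k : ℕ) (hq : 1 ≤ q) : (q - 1) * Npt q k + 1 = q ^ k := by
  induction k with
  | zero => simp [Npt]
  | succ k ih =>
    have h1 : Npt q (k + 1) = Npt q k + q ^ k := by
      unfold Npt
      rw [Finset.sum_range_succ]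
    rw [h1, mul_add, pow_succ]
    obtain ⟨r, rfl⟩ : ∃ r, q = r + 1 := ⟨q - 1, by omega⟩
    simp only [Nat.add_sub_cancel] at ih ⊢
    have h2 : r * Npt (r + 1) k + r * (r + 1) ^ k + 1 = (r * Npt (r + 1) k + 1) + r * (r + 1) ^ k := by
      ring
    rw [h2, ih]
    ring

/-- `(q - 1) (1 + q + ... + q^(k-1)) = q^k - 1` -/
theorem ar0_key' (q k : ℕ) (hq : 1 ≤ q) : (q - 1) * Npt q k = q ^ k - 1 := by
  have := ar0_key q k hq
  omega

/-- AR0 -/
theorem Tn_eq (q n : ℕ) (hq : 2 ≤ q) (hn : 1 ≤ n) : (q ^ n - q) / (q - 1) = Tn q n := by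
  obtain ⟨k, rfl⟩ : ∃ k, n = k + 1 := ⟨n - 1, by omega⟩
  have h1 : q ^ (k + 1) - q = Tn q (k + 1) * (q - 1) := by
    unfold Tn
    simp only [Nat.add_sub_cancel]
    have h2 := ar0_key' q k (by omega)
    calc q ^ (k + 1) - q = q * (q ^ k - 1) := by
          rw [Nat.mul_sub, mul_one, pow_succ, mul_comm]
      _ = q * ((q - 1) * Npt q k) := by rw [h2]
      _ = q * Npt q k * (q - 1) := by ring
  rw [h1]
  exact Nat.mul_div_cancel _ (by omega)

end Cfsg.Agent.Lib.Helper76.Sl
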