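import Cfsg.Agent.Lib.Helper76.SlDefs
import Cfsg.Agent.Lib.Helper34.SlAR0

/-! # Sl hive (S2332, helper76): arithmetic leaves SL-AR1 `ar1`, SL-AR2 `ar2` (helper34) -/

set_option autoImplicit false

namespace Cfsg.Agent.Lib.Helper76.Sl

/-- `T_n = N_(n-1) + (q^(n-1) - 1)` -/
theorem ar1_Tn_split (q n : ℕ) (hq : 1 ≤ q) : Tn q n = Npt q (n - 1) + (q ^ (n - 1) - 1) := by
  unfold Tn
  rw [← ar0_key' q (n - 1) hq]
  obtain ⟨r, rfl⟩ : ∃ r, q = r + 1 := ⟨q - 1, by omega⟩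
  simp only [Nat.add_sub_cancel]
  ring

/-- `N_k ≤ q^k - 1` for `q ≥ 2` -/
theorem ar1_Npt_le (q k : ℕ) (hq : 2 ≤ q) : Npt q k ≤ q ^ k - 1 := by
  rw [← ar0_key' q k (by omega)]
  exact Nat.le_mul_of_pos_left _ (by omega)

/-- AR1 -/
theorem ar1 (q n m0 mm : ℕ) (hq : 2 ≤ q) (hn : 3 ≤ n) (hmm : 2 ≤ mm) :
    Tn q n ≤ m0 + mm * (q ^ (n - 1) - 1) := by
  have h1 := ar1_Tn_split q n (by omega)
  have h2 := ar1_Npt_le q (n - 1) hq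
  have h3 : 2 * (q ^ (n - 1) - 1) ≤ mm * (q ^ (n - 1) - 1) := Nat.mul_le_mul_right _ hmm
  omega

/-- AR2 -/
theorem ar2 (q n m0 : ℕ) (hq : 2 ≤ q) (hn : 2 ≤ n) (h : Npt q (n - 1) ≤ m0) :
    Tn q n ≤ m0 + (q ^ (n - 1) - 1) := by
  have h1 := ar1_Tn_split q n (by omega)
  omega

end Cfsg.Agent.Lib.Helper76.Sl
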