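import Cfsg.Agent.Lib.Helper9.SlK3Hmat

set_option autoImplicit false

/-! K3-PARB (Sl hive S2332, K3 sub-hive of helper9): service lemmas on the parametrisation `h(a,b,z) = k3hmat`
of `H`: multiplication, inverse, membership in `Q`, `Q'`, sums over `H`, `Q`, `Q'`, `tv`, `tvS`.
Only the PAR-A interface (`k3hmat_mem/_a/_b/_z/_surj`) is used, never the definition of `k3hmat`. -/

namespace Cfsg.Agent.Lib.Helper76.Sl

open Matrix Cfsg
open scoped ComplexConjugate

variable (F : Type*) [Field F] [Fintype F] [DecidableEq F]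

/-! ### indices -/

theorem k3parb_cases (m : ℕ) (i : Fin (m + 3)) :
    i = 0 ∨ (∃ j : Fin (m + 1), i = k3mid m j) ∨ i = Fin.last (m + 2) := by
  refine Fin.cases (Or.inl rfl) (fun i' => Or.inr ?_) i
  refine Fin.lastCases (Or.inr ?_) (fun j => Or.inl ⟨j, rfl⟩) i'
  exact Fin.succ_last _

theorem k3parb_mid_ne_zero (m : ℕ) (j : Fin (m + 1)) : k3mid m j ≠ 0 := Fin.succ_ne_zero _

theorem k3parb_mid_ne_last (m : ℕ) (j : Fin (m + 1)) : k3mid m j ≠ Fin.last (m + 2) := by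
  intro h
  have := congrArg Fin.val h
  simp [k3mid] at this
  omega

theorem k3parb_zero_ne_last (m : ℕ) : (0 : Fin (m + 3)) ≠ Fin.last (m + 2) := by
  intro h
  have := congrArg Fin.val h
  simp at this

theorem k3parb_mid_inj (m : ℕ) {i j : Fin (m + 1)} : k3mid m i = k3mid m j ↔ i = j := by
  simp [k3mid]

theorem k3parb_sum {M : Type*} [AddCommMonoid M] (m : ℕ) (f : Fin (m + 3) → M) :
    ∑ k, f k = f 0 + ∑ j, f (k3mid m j) + f (Fin.last (m + 2)) := by
  rw [Fin.sum_univ_succ, Fin.sum_univ_castSucc, ← add_assoc]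
  rfl

/-! ### entries of the elements of `H` -/

variable {F}

theorem k3parb_H00 {m : ℕ} {g : Gm F (m + 1)} (hg : g ∈ K3H F m) : g.1 0 0 = 1 := hg.2.1

theorem k3parb_HLL {m : ℕ} {g : Gm F (m + 1)} (hg : g ∈ K3H F m) :
    g.1 (Fin.last (m + 2)) (Fin.last (m + 2)) = 1 := hg.2.2

theorem k3parb_Hmid0 {m : ℕ} {g : Gm F (m + 1)} (hg : g ∈ K3H F m) (j : Fin (m + 1)) :
    g.1 (k3mid m j) 0 = 0 := by
  rw [hg.1 _ _ (k3parb_mid_ne_zero m j) (k3parb_zero_ne_last m)]
  exact Matrix.one_apply_ne (k3parb_mid_ne_zero m j)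

theorem k3parb_HL0 {m : ℕ} {g : Gm F (m + 1)} (hg : g ∈ K3H F m) :
    g.1 (Fin.last (m + 2)) 0 = 0 := by
  rw [hg.1 _ _ (k3parb_zero_ne_last m).symm (k3parb_zero_ne_last m)]
  exact Matrix.one_apply_ne (k3parb_zero_ne_last m).symm

theorem k3parb_Hmidmid {m : ℕ} {g : Gm F (m + 1)} (hg : g ∈ K3H F m) (i j : Fin (m + 1)) :
    g.1 (k3mid m i) (k3mid m j) = if i = j then 1 else 0 := by
  rw [hg.1 _ _ (k3parb_mid_ne_zero m i) (k3parb_mid_ne_last m j), Matrix.one_apply]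
  simp [k3parb_mid_inj]

theorem k3parb_HLmid {m : ℕ} {g : Gm F (m + 1)} (hg : g ∈ K3H F m) (j : Fin (m + 1)) :
    g.1 (Fin.last (m + 2)) (k3mid m j) = 0 := by
  rw [hg.1 _ _ (k3parb_zero_ne_last m).symm (k3parb_mid_ne_last m j)]
  exact Matrix.one_apply_ne (k3parb_mid_ne_last m j).symm

theorem k3parb_mul_apply {m : ℕ} (g g' : Gm F (m + 1)) (i k : Fin (m + 3)) :
    (g * g').1 i k = g.1 i 0 * g'.1 0 k + ∑ j, g.1 i (k3mid m j) * g'.1 (k3mid m j) k +
      g.1 i (Fin.last (m + 2)) * g'.1 (Fin.last (m + 2)) k := by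
  rw [Matrix.SpecialLinearGroup.coe_mul, Matrix.mul_apply, k3parb_sum]

/-- `H` is closed under multiplication. -/
theorem k3parb_mul_mem {m : ℕ} {g g' : Gm F (m + 1)} (hg : g ∈ K3H F m) (hg' : g' ∈ K3H F m) :
    g * g' ∈ K3H F m := by
  refine ⟨?_, ?_, ?_⟩
  · intro i k hi hk
    rcases k3parb_cases m i with rfl | ⟨i', rfl⟩ | rfl
    · exact absurd rfl hi
    · rcases k3parb_cases m k with rfl | ⟨k', rfl⟩ | rfl
      · rw [k3parb_mul_apply, Matrix.one_apply_ne (k3parb_mid_ne_zero m i')]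
        simp [k3parb_Hmid0 hg, k3parb_Hmid0 hg', k3parb_HL0 hg']
      · rw [k3parb_mul_apply, Matrix.one_apply]
        simp [k3parb_Hmid0 hg, k3parb_Hmidmid hg, k3parb_Hmidmid hg', k3parb_HLmid hg', k3parb_mid_inj]
      · exact absurd rfl hk
    · rcases k3parb_cases m k with rfl | ⟨k', rfl⟩ | rfl
      · rw [k3parb_mul_apply, Matrix.one_apply_ne (k3parb_zero_ne_last m).symm]
        simp [k3parb_HL0 hg, k3parb_HL0 hg', k3parb_HLmid hg]
      · rw [k3parb_mul_apply, Matrix.one_apply_ne (k3parb_mid_ne_last m k').symm]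
        simp [k3parb_HL0 hg, k3parb_HLmid hg, k3parb_HLmid hg']
      · exact absurd rfl hk
  · rw [k3parb_mul_apply]
    simp [k3parb_H00 hg, k3parb_H00 hg', k3parb_Hmid0 hg', k3parb_HL0 hg']
  · rw [k3parb_mul_apply]
    simp [k3parb_HL0 hg, k3parb_HLmid hg, k3parb_HLL hg, k3parb_HLL hg']

theorem k3parb_mul_a {m : ℕ} {g g' : Gm F (m + 1)} (hg : g ∈ K3H F m) (hg' : g' ∈ K3H F m)
    (j : Fin (m + 1)) : (g * g').1 0 (k3mid m j) = g.1 0 (k3mid m j) + g'.1 0 (k3mid m j) := by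
  rw [k3parb_mul_apply]
  simp [k3parb_H00 hg, k3parb_Hmidmid hg', k3parb_HLmid hg', add_comm]

theorem k3parb_mul_b {m : ℕ} {g g' : Gm F (m + 1)} (hg : g ∈ K3H F m) (hg' : g' ∈ K3H F m)
    (j : Fin (m + 1)) : (g * g').1 (k3mid m j) (Fin.last (m + 2)) =
      g.1 (k3mid m j) (Fin.last (m + 2)) + g'.1 (k3mid m j) (Fin.last (m + 2)) := by
  rw [k3parb_mul_apply]
  simp [k3parb_Hmid0 hg, k3parb_Hmidmid hg, k3parb_HLL hg', add_comm]

theorem k3parb_mul_z {m : ℕ} {g g' : Gm F (m + 1)} (hg : g ∈ K3H F m) (hg' : g' ∈ K3H F m) :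
    (g * g').1 0 (Fin.last (m + 2)) = g.1 0 (Fin.last (m + 2)) + g'.1 0 (Fin.last (m + 2)) +
      ∑ j, g.1 0 (k3mid m j) * g'.1 (k3mid m j) (Fin.last (m + 2)) := by
  rw [k3parb_mul_apply]
  simp [k3parb_H00 hg, k3parb_HLL hg']
  ring

/-- two elements of `H` with the same coordinates are equal. -/
theorem k3parb_ext {m : ℕ} {g g' : Gm F (m + 1)} (hg : g ∈ K3H F m) (hg' : g' ∈ K3H F m)
    (ha : ∀ j, g.1 0 (k3mid m j) = g'.1 0 (k3mid m j))
    (hb : ∀ j, g.1 (k3mid m j) (Fin.last (m + 2)) = g'.1 (k3mid m j) (Fin.last (m + 2)))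
    (hz : g.1 0 (Fin.last (m + 2)) = g'.1 0 (Fin.last (m + 2))) : g = g' := by
  rw [k3hmat_surj F m g hg, k3hmat_surj F m g' hg']
  simp only [ha, hb, hz]

/-- an element of `H` with coordinates `a, b, z` is `k3hmat a b z`. -/
theorem k3parb_eq_hmat {m : ℕ} {g : Gm F (m + 1)} (hg : g ∈ K3H F m) (a b : Fin (m + 1) → F) (z : F)
    (ha : ∀ j, g.1 0 (k3mid m j) = a j)
    (hb : ∀ j, g.1 (k3mid m j) (Fin.last (m + 2)) = b j)
    (hz : g.1 0 (Fin.last (m + 2)) = z) : g = k3hmat F m a b z :=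
  k3parb_ext hg (k3hmat_mem F m a b z) (fun j => by rw [ha, k3hmat_a]) (fun j => by rw [hb, k3hmat_b])
    (by rw [hz, k3hmat_z])

theorem k3parb_hmat_inj {m : ℕ} {a b a' b' : Fin (m + 1) → F} {z z' : F}
    (h : k3hmat F m a b z = k3hmat F m a' b' z') : a = a' ∧ b = b' ∧ z = z' := by
  refine ⟨funext fun j => ?_, funext fun j => ?_, ?_⟩
  · rw [← k3hmat_a F m a b z j, h, k3hmat_a]
  · rw [← k3hmat_b F m a b z j, h, k3hmat_b]
  · rw [← k3hmat_z F m a b z, h, k3hmat_z]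

theorem k3parb_one_mem (m : ℕ) : (1 : Gm F (m + 1)) ∈ K3H F m :=
  ⟨fun _ _ _ _ => rfl, by simp, by simp⟩

variable (F)

/-! ### the PAR-B statements -/

theorem k3hmat_mul (m : ℕ) (a b : Fin (m + 1) → F) (z : F) (a' b' : Fin (m + 1) → F) (z' : F) :
    k3hmat F m a b z * k3hmat F m a' b' z' =
      k3hmat F m (a + a') (b + b') (z + z' + ∑ j, a j * b' j) := by
  have h := k3hmat_mem F m a b z
  have h' := k3hmat_mem F m a' b' z'
  refine k3parb_eq_hmat (k3parb_mul_mem h h') _ _ _ ?_ ?_ ?_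
  · intro j
    rw [k3parb_mul_a h h', k3hmat_a, k3hmat_a]
    rfl
  · intro j
    rw [k3parb_mul_b h h', k3hmat_b, k3hmat_b]
    rfl
  · rw [k3parb_mul_z h h', k3hmat_z, k3hmat_z]
    simp only [k3hmat_a, k3hmat_b]

theorem k3hmat_one (m : ℕ) : k3hmat F m 0 0 0 = 1 := by
  symm
  refine k3parb_eq_hmat (k3parb_one_mem m) _ _ _ ?_ ?_ ?_
  · intro j
    rw [Matrix.SpecialLinearGroup.coe_one, Matrix.one_apply_ne (k3parb_mid_ne_zero m j).symm]
    rfl
  · intro j
    rw [Matrix.SpecialLinearGroup.coe_one, Matrix.one_apply_ne (k3parb_mid_ne_last m j)]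
    rfl
  · rw [Matrix.SpecialLinearGroup.coe_one, Matrix.one_apply_ne (k3parb_zero_ne_last m)]

theorem k3hmat_inv (m : ℕ) (a b : Fin (m + 1) → F) (z : F) :
    (k3hmat F m a b z)⁻¹ = k3hmat F m (-a) (-b) (-z + ∑ j, a j * b j) := by
  apply inv_eq_of_mul_eq_one_right
  rw [k3hmat_mul, ← k3hmat_one F m]
  congr 1
  · simp
  · simp
  · simp only [Pi.neg_apply, mul_neg, Finset.sum_neg_distrib]
    ring

theorem k3hmat_mem_Q (m : ℕ) (a b : Fin (m + 1) → F) (z : F) :
    k3hmat F m a b z ∈ Qset F (m + 1) ↔ b = 0 := by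
  have h := k3hmat_mem F m a b z
  constructor
  · intro hq
    funext j
    have := hq (k3mid m j) (Fin.last (m + 2)) (k3parb_mid_ne_zero m j)
    rw [k3hmat_b, Matrix.one_apply_ne (k3parb_mid_ne_last m j)] at this
    exact this
  · intro hb i j hi
    by_cases hj : j = Fin.last (m + 2)
    · subst hj
      rcases k3parb_cases m i with rfl | ⟨i', rfl⟩ | rfl
      · exact absurd rfl hi
      · rw [k3hmat_b, hb, Matrix.one_apply_ne (k3parb_mid_ne_last m i')]
        rfl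
      · rw [k3parb_HLL h, Matrix.one_apply_eq]
    · exact h.1 i j hi hj

theorem k3hmat_mem_Qp (m : ℕ) (a b : Fin (m + 1) → F) (z : F) :
    k3hmat F m a b z ∈ K3Qp F m ↔ a = 0 := by
  have h := k3hmat_mem F m a b z
  constructor
  · intro hq
    funext j
    have := hq 0 (k3mid m j) (k3parb_mid_ne_last m j)
    rw [k3hmat_a, Matrix.one_apply_ne (k3parb_mid_ne_zero m j).symm] at this
    exact this
  · intro ha i j hj
    by_cases hi : i = 0
    · subst hi
      rcases k3parb_cases m j with rfl | ⟨j', rfl⟩ | rfl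
      · rw [k3parb_H00 h, Matrix.one_apply_eq]
      · rw [k3hmat_a, ha, Matrix.one_apply_ne (k3parb_mid_ne_zero m j').symm]
        rfl
      · exact absurd rfl hj
    · exact h.1 i j hi hj

theorem k3_Q_sub_H (m : ℕ) : Qset F (m + 1) ⊆ K3H F m := by
  intro g hg
  have h00 : g.1 0 0 = 1 := by
    have hdet : g.1.det = ∏ i, g.1 i i := Matrix.det_of_upperTriangular (fun i j hij => by
      have hij' : j < i := hij
      have hi : i ≠ 0 := by
        intro h
        subst h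
        exact absurd hij' (Fin.not_lt_zero _)
      rw [hg i j hi]
      exact Matrix.one_apply_ne (ne_of_gt hij'))
    rw [g.2, Fin.prod_univ_succ] at hdet
    have h1 : ∀ i : Fin (m + 2), g.1 i.succ i.succ = 1 := fun i => by
      rw [hg _ _ (Fin.succ_ne_zero i), Matrix.one_apply_eq]
    simp only [h1, Finset.prod_const_one, mul_one] at hdet
    exact hdet.symm
  refine ⟨fun i j hi _ => hg i j hi, h00, ?_⟩
  rw [hg _ _ (k3parb_zero_ne_last m).symm, Matrix.one_apply_eq]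

theorem k3_Qp_sub_H (m : ℕ) : K3Qp F m ⊆ K3H F m := by
  intro g hg
  have hLL : g.1 (Fin.last (m + 2)) (Fin.last (m + 2)) = 1 := by
    have hdet : g.1.det = ∏ i, g.1 i i := Matrix.det_of_upperTriangular (fun i j hij => by
      have hij' : j < i := hij
      have hj : j ≠ Fin.last (m + 2) := by
        intro h
        subst h
        exact absurd hij' (not_lt.mpr (Fin.le_last _))
      rw [hg i j hj]
      exact Matrix.one_apply_ne (ne_of_gt hij'))
    rw [g.2, Fin.prod_univ_castSucc] at hdet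
    have h1 : ∀ i : Fin (m + 2), g.1 i.castSucc i.castSucc = 1 := fun i => by
      rw [hg _ _ (Fin.castSucc_lt_last i).ne, Matrix.one_apply_eq]
    simp only [h1, Finset.prod_const_one, one_mul] at hdet
    exact hdet.symm
  refine ⟨fun i j _ hj => hg i j hj, ?_, hLL⟩
  rw [hg _ _ (k3parb_zero_ne_last m), Matrix.one_apply_eq]

open Classical in
theorem k3_sum_H (m : ℕ) (φ : Gm F (m + 1) → ℂ) :
    ∑ g ∈ Finset.univ.filter (fun g : Gm F (m + 1) => g ∈ K3H F m), φ g =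
      ∑ a : Fin (m + 1) → F, ∑ b : Fin (m + 1) → F, ∑ z : F, φ (k3hmat F m a b z) := by
  have e : ∑ p : (Fin (m + 1) → F) × (Fin (m + 1) → F) × F, φ (k3hmat F m p.1 p.2.1 p.2.2) =
      ∑ a : Fin (m + 1) → F, ∑ b : Fin (m + 1) → F, ∑ z : F, φ (k3hmat F m a b z) := by
    simp only [Fintype.sum_prod_type]
  rw [← e]
  symm
  refine Finset.sum_bij (fun p _ => k3hmat F m p.1 p.2.1 p.2.2) ?_ ?_ ?_ ?_
  · intro p _
    simp only [Finset.mem_filter, Finset.mem_univ, true_and]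
    exact k3hmat_mem F m _ _ _
  · intro p _ p' _ heq
    obtain ⟨h1, h2, h3⟩ := k3parb_hmat_inj heq
    exact Prod.ext h1 (Prod.ext h2 h3)
  · intro g hg
    simp only [Finset.mem_filter, Finset.mem_univ, true_and] at hg
    exact ⟨(_, _, _), Finset.mem_univ _, (k3hmat_surj F m g hg).symm⟩
  · intro p _
    rfl

open Classical in
theorem k3_sum_Q (m : ℕ) (φ : Gm F (m + 1) → ℂ) :
    ∑ g ∈ Finset.univ.filter (fun g : Gm F (m + 1) => g ∈ Qset F (m + 1)), φ g =
      ∑ a : Fin (m + 1) → F, ∑ z : F, φ (k3hmat F m a 0 z) := by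
  have e : ∑ p : (Fin (m + 1) → F) × F, φ (k3hmat F m p.1 0 p.2) =
      ∑ a : Fin (m + 1) → F, ∑ z : F, φ (k3hmat F m a 0 z) := by
    simp only [Fintype.sum_prod_type]
  rw [← e]
  symm
  refine Finset.sum_bij (fun p _ => k3hmat F m p.1 0 p.2) ?_ ?_ ?_ ?_
  · intro p _
    simp only [Finset.mem_filter, Finset.mem_univ, true_and]
    exact (k3hmat_mem_Q F m _ _ _).2 rfl
  · intro p _ p' _ heq
    obtain ⟨h1, _, h3⟩ := k3parb_hmat_inj heq
    exact Prod.ext h1 h3
  · intro g hg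
    simp only [Finset.mem_filter, Finset.mem_univ, true_and] at hg
    have hs := k3hmat_surj F m g (k3_Q_sub_H F m hg)
    have hb : (fun j => g.1 (k3mid m j) (Fin.last (m + 2))) = 0 :=
      (k3hmat_mem_Q F m _ _ _).1 (hs ▸ hg)
    rw [hb] at hs
    exact ⟨(_, _), Finset.mem_univ _, hs.symm⟩
  · intro p _
    rfl

open Classical in
theorem k3_sum_Qp (m : ℕ) (φ : Gm F (m + 1) → ℂ) :
    ∑ g ∈ Finset.univ.filter (fun g : Gm F (m + 1) => g ∈ K3Qp F m), φ g =
      ∑ b : Fin (m + 1) → F, ∑ z : F, φ (k3hmat F m 0 b z) := by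
  have e : ∑ p : (Fin (m + 1) → F) × F, φ (k3hmat F m 0 p.1 p.2) =
      ∑ b : Fin (m + 1) → F, ∑ z : F, φ (k3hmat F m 0 b z) := by
    simp only [Fintype.sum_prod_type]
  rw [← e]
  symm
  refine Finset.sum_bij (fun p _ => k3hmat F m 0 p.1 p.2) ?_ ?_ ?_ ?_
  · intro p _
    simp only [Finset.mem_filter, Finset.mem_univ, true_and]
    exact (k3hmat_mem_Qp F m _ _ _).2 rfl
  · intro p _ p' _ heq
    obtain ⟨_, h2, h3⟩ := k3parb_hmat_inj heq
    exact Prod.ext h2 h3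
  · intro g hg
    simp only [Finset.mem_filter, Finset.mem_univ, true_and] at hg
    have hs := k3hmat_surj F m g (k3_Qp_sub_H F m hg)
    have ha : (fun j => g.1 0 (k3mid m j)) = 0 :=
      (k3hmat_mem_Qp F m _ _ _).1 (hs ▸ hg)
    rw [ha] at hs
    exact ⟨(_, _), Finset.mem_univ _, hs.symm⟩
  · intro p _
    rfl

theorem k3parb_tv_coe (m : ℕ) :
    (tv F (m + 1)).1 = (1 : Matrix (Fin (m + 3)) (Fin (m + 3)) F) +
      Matrix.single (0 : Fin (m + 3)) (Fin.last (m + 2)) (1 : F) := rfl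

theorem k3parb_tvS_coe (m : ℕ) :
    (tvS F m).1 = (1 : Matrix (Fin (m + 3)) (Fin (m + 3)) F) +
      Matrix.single (k3mid m 0) (Fin.last (m + 2)) (1 : F) := rfl

theorem k3hmat_tv (m : ℕ) : tv F (m + 1) = k3hmat F m 0 0 1 := by
  have hL0 : Fin.last (m + 2) ≠ (0 : Fin (m + 3)) := (k3parb_zero_ne_last m).symm
  refine k3parb_eq_hmat ?_ _ _ _ ?_ ?_ ?_
  · refine ⟨fun i j hi hj => ?_, ?_, ?_⟩
    · rw [k3parb_tv_coe, Matrix.add_apply, Matrix.single_apply]
      simp [Ne.symm hi]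
    · rw [k3parb_tv_coe, Matrix.add_apply, Matrix.single_apply]
      simp [hL0]
    · rw [k3parb_tv_coe, Matrix.add_apply, Matrix.single_apply]
      simp [hL0.symm]
  · intro j
    rw [k3parb_tv_coe, Matrix.add_apply, Matrix.single_apply,
      Matrix.one_apply_ne (k3parb_mid_ne_zero m j).symm]
    simp [(k3parb_mid_ne_last m j).symm]
  · intro j
    rw [k3parb_tv_coe, Matrix.add_apply, Matrix.single_apply,
      Matrix.one_apply_ne (k3parb_mid_ne_last m j)]
    simp [(k3parb_mid_ne_zero m j).symm]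
  · rw [k3parb_tv_coe, Matrix.add_apply, Matrix.single_apply,
      Matrix.one_apply_ne (k3parb_zero_ne_last m)]
    simp

theorem k3hmat_tvS (m : ℕ) : tvS F m = k3hmat F m 0 (Pi.single 0 1) 0 := by
  have hL0 : Fin.last (m + 2) ≠ (0 : Fin (m + 3)) := (k3parb_zero_ne_last m).symm
  refine k3parb_eq_hmat ?_ _ _ _ ?_ ?_ ?_
  · refine ⟨fun i j hi hj => ?_, ?_, ?_⟩
    · rw [k3parb_tvS_coe, Matrix.add_apply, Matrix.single_apply]
      simp [Ne.symm hj]
    · rw [k3parb_tvS_coe, Matrix.add_apply, Matrix.single_apply]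
      simp [hL0]
    · rw [k3parb_tvS_coe, Matrix.add_apply, Matrix.single_apply]
      simp [k3parb_mid_ne_last m 0]
  · intro j
    rw [k3parb_tvS_coe, Matrix.add_apply, Matrix.single_apply,
      Matrix.one_apply_ne (k3parb_mid_ne_zero m j).symm]
    simp [k3parb_mid_ne_zero m 0]
  · intro j
    rw [k3parb_tvS_coe, Matrix.add_apply, Matrix.single_apply,
      Matrix.one_apply_ne (k3parb_mid_ne_last m j)]
    simp [k3parb_mid_inj, Pi.single_apply, eq_comm]
  · rw [k3parb_tvS_coe, Matrix.add_apply, Matrix.single_apply,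
      Matrix.one_apply_ne (k3parb_zero_ne_last m)]
    simp [k3parb_mid_ne_zero m 0]

end Cfsg.Agent.Lib.Helper76.Sl
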