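import Cfsg.Agent.Lib.Helper73.SlK5Defs

set_option autoImplicit false

/-! SL-K5-SFAC (Sl hive S2332, K5 sub-hive of helper73): every element of the stabiliser `S` of `e_0`
factors as `x * diag(1, A)` with `x ∈ Q`. -/

namespace Cfsg.Agent.Lib.Helper76.Sl

open Matrix Cfsg

variable {F : Type*} [Field F] [Fintype F] [DecidableEq F]

/-- determinant of a matrix whose column `0` is `e_0`. -/
theorem k5sfac_det {n : ℕ} (M : Matrix (Fin (n + 1)) (Fin (n + 1)) F)
    (h : ∀ i, M i 0 = (1 : Matrix (Fin (n + 1)) (Fin (n + 1)) F) i 0) :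
    M.det = (M.submatrix Fin.succ Fin.succ).det := by
  rw [Matrix.det_succ_column_zero, Fin.sum_univ_succ]
  have h0 : M 0 0 = 1 := by rw [h 0]; simp
  have hs : ∀ i : Fin n, M i.succ 0 = 0 := by
    intro i
    rw [h i.succ, Matrix.one_apply_ne (Fin.succ_ne_zero i)]
  simp only [hs, mul_zero, zero_mul, Finset.sum_const_zero, add_zero, h0, Fin.val_zero, pow_zero,
    one_mul, Fin.succAbove_zero]

theorem k5sfac_k5Mat_col (m : ℕ) (A : Matrix (Fin (m + 2)) (Fin (m + 2)) F) (i : Fin (m + 3)) :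
    k5Mat F m A i 0 = (1 : Matrix (Fin (m + 3)) (Fin (m + 3)) F) i 0 := by
  refine Fin.cases ?_ (fun i' => ?_) i
  · simp [k5Mat]
  · rw [Matrix.one_apply_ne (Fin.succ_ne_zero i')]
    simp [k5Mat]

theorem k5sfac_k5Mat_sub (m : ℕ) (A : Matrix (Fin (m + 2)) (Fin (m + 2)) F) :
    (k5Mat F m A).submatrix Fin.succ Fin.succ = A := by
  ext i j
  simp [k5Mat]

theorem k5_S_factor (m : ℕ) (s : Gm F (m + 1)) (hs : s ∈ Sset F (m + 1)) :
    ∃ (l : Gm F m) (y x : Gm F (m + 1)), y.1 = k5Mat F m l.1 ∧ x ∈ Qset F (m + 1) ∧ s = x * y := by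
  have hA : (s.1.submatrix Fin.succ Fin.succ).det = 1 := by
    rw [← k5sfac_det s.1 hs]
    exact s.2
  let l : Gm F m := ⟨s.1.submatrix Fin.succ Fin.succ, hA⟩
  have hy : (k5Mat F m l.1).det = 1 := by
    rw [k5sfac_det _ (k5sfac_k5Mat_col m l.1), k5sfac_k5Mat_sub]
    exact hA
  let y : Gm F (m + 1) := ⟨k5Mat F m l.1, hy⟩
  refine ⟨l, y, s * y⁻¹, rfl, ?_, by group⟩
  intro i j hi
  have hrow : ∀ k, s.1 i k = y.1 i k := by
    intro k
    obtain ⟨i', rfl⟩ := Fin.exists_succ_eq.mpr hi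
    refine Fin.cases ?_ (fun k' => ?_) k
    · rw [hs i'.succ]
      exact (k5sfac_k5Mat_col m l.1 i'.succ).symm
    · show s.1 i'.succ k'.succ = k5Mat F m l.1 i'.succ k'.succ
      simp [k5Mat, l]
  have h1 : (s * y⁻¹).1 i j = (y * y⁻¹).1 i j := by
    rw [Matrix.SpecialLinearGroup.coe_mul, Matrix.SpecialLinearGroup.coe_mul, Matrix.mul_apply,
      Matrix.mul_apply]
    exact Finset.sum_congr rfl (fun k _ => by rw [hrow k])
  rw [h1, mul_inv_cancel]
  rfl

end Cfsg.Agent.Lib.Helper76.Sl
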