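import Mathlib
import Cfsg.Agent.Lib.Helper41.SpBNDefs
import Cfsg.Agent.Lib.Helper34.SpBN_Aux

/-! # S2545 SpBN hive, leaf FACL: core (root membership as hypothesis) (helper34) -/

set_option autoImplicit false

namespace Cfsg.Agent.Lib.Helper41.SpBN

open Matrix Cfsg Cfsg.Agent.Lib.Helper13

variable {F : Type*} [Field F] {m : ℕ}

theorem facl_core {k : Fin m} (hk : (k : ℕ) + 1 = m) {s : SpG F m}
    (hs : s.1 = monoMat (simpleLong k) (1 : Fin m → Fˣ))
    (hroot : ∀ t : F, (1 + t • Matrix.single (Sum.inl k) (Sum.inr k) (1 : F) :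
      Matrix (Idx m) (Idx m) F) ∈ Matrix.symplecticGroup (Fin m) F) :
    ∀ b ∈ Bsp F m, ∃ b' ∈ Bsp F m, ∃ x ∈ XL F m k, b = b' * x ∧ s * b' * s⁻¹ ∈ Bsp F m := by
  intro b hb
  have hd : b.1 (Sum.inl k) (Sum.inl k) ≠ 0 := facs_diag_ne_zero hb k
  set t : F := b.1 (Sum.inl k) (Sum.inr k) / b.1 (Sum.inl k) (Sum.inl k) with ht
  set x : SpG F m := ⟨_, hroot t⟩ with hx
  have hxval : x.1 = 1 + t • Matrix.single (Sum.inl k) (Sum.inr k) (1 : F) := rfl
  have hxB : x ∈ Bsp F m := by
    rw [mem_Bsp_iff]
    constructor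
    · intro i j hij
      have hij' : i ≠ j := by
        intro h
        rw [h] at hij
        omega
      rw [hxval]
      simp [hij']
    · intro i j
      rw [hxval]
      simp
  set b' : SpG F m := b * x⁻¹ with hb'def
  have hb'B : b' ∈ Bsp F m := (Bsp F m).mul_mem hb ((Bsp F m).inv_mem hxB)
  have hbb' : b = b' * x := by
    rw [hb'def, inv_mul_cancel_right]
  have hform : ∀ a c : Idx m, b.1 a c = b'.1 a c +
      t * (if c = Sum.inr k then b'.1 a (Sum.inl k) else 0) := by
    intro a c
    have h1 : b.1 = b'.1 * x.1 := congrArg Subtype.val hbb'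
    rw [h1, hxval, facs_mul_root1]
  have h0 : b'.1 (Sum.inl k) (Sum.inr k) = 0 := by
    have h1 := hform (Sum.inl k) (Sum.inr k)
    have h2 := hform (Sum.inl k) (Sum.inl k)
    rw [if_pos rfl] at h1
    rw [if_neg (by simp)] at h2
    have h3 : t * b.1 (Sum.inl k) (Sum.inl k) = b.1 (Sum.inl k) (Sum.inr k) := by
      rw [ht, div_mul_cancel₀ _ hd]
    linear_combination (-1 : F) * h1 - h3 + t * h2
  refine ⟨b', hb'B, x, ⟨t, rfl⟩, hbb', ?_⟩
  have hmono : IsMono s.1 (simpleLong k) (monoCoeff (simpleLong k) (1 : Fin m → Fˣ)) := by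
    rw [hs]
    exact monoMat_isMono _ _
  have hb'' := (mem_Bsp_iff _).1 hb'B
  have hlow := facs_lower hb'B
  have hlast : ∀ i : Fin m, i ≠ k → (i : ℕ) < (k : ℕ) := by
    intro i hi
    have := Fin.val_ne_of_ne hi
    have := i.2
    omega
  rw [mem_Bsp_iff]
  constructor
  · intro i j hij
    rw [facs_conj_apply s b' hmono, facs_simpleLong_symm]
    have hjk : j ≠ k := by
      rintro rfl
      have := i.2
      omega
    have hz : b'.1 (simpleLong k (Sum.inl i)) (simpleLong k (Sum.inl j)) = 0 := by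
      unfold simpleLong
      have e2 : Equiv.swap (Sum.inl k : Idx m) (Sum.inr k) (Sum.inl j) = Sum.inl j :=
        Equiv.swap_apply_of_ne_of_ne (by simpa using hjk) (by simp)
      rw [e2]
      by_cases hik : i = k
      · subst hik
        rw [Equiv.swap_apply_left]
        exact hb''.2 _ _
      · have e1 : Equiv.swap (Sum.inl k : Idx m) (Sum.inr k) (Sum.inl i) = Sum.inl i :=
          Equiv.swap_apply_of_ne_of_ne (by simpa using hik) (by simp)
        rw [e1]
        exact hb''.1 _ _ hij
    rw [hz, mul_zero, zero_mul]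
  · intro i j
    rw [facs_conj_apply s b' hmono, facs_simpleLong_symm]
    have hz : b'.1 (simpleLong k (Sum.inr i)) (simpleLong k (Sum.inl j)) = 0 := by
      unfold simpleLong
      by_cases hik : i = k
      · subst hik
        rw [Equiv.swap_apply_right]
        by_cases hjk : j = i
        · subst hjk
          rw [Equiv.swap_apply_left]
          exact h0
        · have e2 : Equiv.swap (Sum.inl i : Idx m) (Sum.inr i) (Sum.inl j) = Sum.inl j :=
            Equiv.swap_apply_of_ne_of_ne (by simpa using hjk) (by simp)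
          rw [e2]
          exact hb''.1 _ _ (hlast j hjk)
      · have e1 : Equiv.swap (Sum.inl k : Idx m) (Sum.inr k) (Sum.inr i) = Sum.inr i :=
          Equiv.swap_apply_of_ne_of_ne (by simp) (by simpa using hik)
        rw [e1]
        by_cases hjk : j = k
        · subst hjk
          rw [Equiv.swap_apply_left]
          exact hlow _ _ (hlast i hik)
        · have e2 : Equiv.swap (Sum.inl k : Idx m) (Sum.inr k) (Sum.inl j) = Sum.inl j :=
            Equiv.swap_apply_of_ne_of_ne (by simpa using hjk) (by simp)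
          rw [e2]
          exact hb''.2 _ _
    rw [hz, mul_zero, zero_mul]

end Cfsg.Agent.Lib.Helper41.SpBN
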