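import Mathlib
import Cfsg.Agent.Lib.Helper41.SpBNDefs
import Cfsg.Agent.Lib.Helper34.SpBN_Aux

/-! # S2545 SpBN hive, leaf FACS: core (root membership as hypothesis) (helper34) -/

set_option autoImplicit false

namespace Cfsg.Agent.Lib.Helper41.SpBN

open Matrix Cfsg Cfsg.Agent.Lib.Helper13

variable {F : Type*} [Field F] {m : ℕ}

theorem facs_core {k k' : Fin m} (hkk : (k : ℕ) + 1 = (k' : ℕ)) {s : SpG F m}
    (hs : s.1 = monoMat (simpleShort k k') (1 : Fin m → Fˣ))
    (hroot : ∀ t : F, (1 + t • Matrix.single (Sum.inl k) (Sum.inl k') (1 : F)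
      - t • Matrix.single (Sum.inr k') (Sum.inr k) (1 : F) : Matrix (Idx m) (Idx m) F) ∈
      Matrix.symplecticGroup (Fin m) F) :
    ∀ b ∈ Bsp F m, ∃ b' ∈ Bsp F m, ∃ x ∈ XS F m k k', b = b' * x ∧ s * b' * s⁻¹ ∈ Bsp F m := by
  intro b hb
  have hne : k ≠ k' := by
    intro h
    rw [h] at hkk
    omega
  have hd : b.1 (Sum.inl k) (Sum.inl k) ≠ 0 := facs_diag_ne_zero hb k
  set t : F := b.1 (Sum.inl k) (Sum.inl k') / b.1 (Sum.inl k) (Sum.inl k) with ht
  set x : SpG F m := ⟨_, hroot t⟩ with hx
  have hxval : x.1 = 1 + t • Matrix.single (Sum.inl k) (Sum.inl k') (1 : F)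
      - t • Matrix.single (Sum.inr k') (Sum.inr k) (1 : F) := rfl
  have hxB : x ∈ Bsp F m := by
    rw [mem_Bsp_iff]
    constructor
    · intro i j hij
      have hij' : i ≠ j := by
        intro h
        rw [h] at hij
        omega
      have h2 : ¬ (k = i ∧ k' = j) := by
        rintro ⟨rfl, rfl⟩
        omega
      rw [hxval]
      simp [hij', h2]
    · intro i j
      rw [hxval]
      simp
  set b' : SpG F m := b * x⁻¹ with hb'def
  have hb'B : b' ∈ Bsp F m := (Bsp F m).mul_mem hb ((Bsp F m).inv_mem hxB)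
  have hbb' : b = b' * x := by
    rw [hb'def, inv_mul_cancel_right]
  have hform : ∀ a c : Idx m, b.1 a c = b'.1 a c +
      t * (if c = Sum.inl k' then b'.1 a (Sum.inl k) else 0) -
      t * (if c = Sum.inr k then b'.1 a (Sum.inr k') else 0) := by
    intro a c
    have h1 : b.1 = b'.1 * x.1 := congrArg Subtype.val hbb'
    rw [h1, hxval, facs_mul_root2]
  have h0 : b'.1 (Sum.inl k) (Sum.inl k') = 0 := by
    have h1 := hform (Sum.inl k) (Sum.inl k')
    have h2 := hform (Sum.inl k) (Sum.inl k)
    rw [if_pos rfl, if_neg (by simp)] at h1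
    rw [if_neg (by simpa using hne), if_neg (by simp)] at h2
    have h3 : t * b.1 (Sum.inl k) (Sum.inl k) = b.1 (Sum.inl k) (Sum.inl k') := by
      rw [ht, div_mul_cancel₀ _ hd]
    linear_combination (-1 : F) * h1 - h3 + t * h2
  refine ⟨b', hb'B, x, ⟨t, rfl⟩, hbb', ?_⟩
  have hmono : IsMono s.1 (simpleShort k k') (monoCoeff (simpleShort k k') (1 : Fin m → Fˣ)) := by
    rw [hs]
    exact monoMat_isMono _ _
  have hb'' := (mem_Bsp_iff _).1 hb'B
  rw [mem_Bsp_iff]
  constructor
  · intro i j hij
    rw [facs_conj_apply s b' hmono, facs_simpleShort_symm_inl, facs_simpleShort_symm_inl]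
    have hz : b'.1 (Sum.inl (Equiv.swap k k' i)) (Sum.inl (Equiv.swap k k' j)) = 0 := by
      rw [Equiv.swap_apply_def, Equiv.swap_apply_def]
      split_ifs with h1 h2 h3 h4 h5 h6 h7
      · subst h1; subst h2; omega
      · subst h1; subst h3; omega
      · subst h1
        have := Fin.val_ne_of_ne h2
        have := Fin.val_ne_of_ne h3
        exact hb''.1 _ _ (by omega)
      · subst h4; subst h5
        exact h0
      · subst h4; subst h6; omega
      · subst h4
        have := Fin.val_ne_of_ne h5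
        have := Fin.val_ne_of_ne h6
        have := Fin.val_ne_of_ne h1
        exact hb''.1 _ _ (by omega)
      · subst h7
        have := Fin.val_ne_of_ne h1
        have := Fin.val_ne_of_ne h4
        exact hb''.1 _ _ (by omega)
      · rename_i h8
        subst h8
        have := Fin.val_ne_of_ne h1
        have := Fin.val_ne_of_ne h4
        exact hb''.1 _ _ (by omega)
      · exact hb''.1 _ _ hij
    rw [hz, mul_zero, zero_mul]
  · intro i j
    rw [facs_conj_apply s b' hmono, facs_simpleShort_symm_inr, facs_simpleShort_symm_inl,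
      hb''.2, mul_zero, zero_mul]

end Cfsg.Agent.Lib.Helper41.SpBN
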