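import Mathlib
import Cfsg.Agent.Lib.Helper41.SpBNDefs
import Cfsg.Agent.Lib.Helper41.SpBNBasic
import Cfsg.Agent.Lib.Helper34.SpBN_FACSCore

/-! # S2545 SpBN hive, leaf FACS (helper34) -/

set_option autoImplicit false

namespace Cfsg.Agent.Lib.Helper41.SpBN

open Matrix Cfsg Cfsg.Agent.Lib.Helper13

variable {F : Type*} [Field F] {m : ℕ}

theorem facS {k k' : Fin m} (hkk : (k : ℕ) + 1 = (k' : ℕ)) {s : SpG F m}
    (hs : s.1 = monoMat (simpleShort k k') (1 : Fin m → Fˣ)) :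
    ∀ b ∈ Bsp F m, ∃ b' ∈ Bsp F m, ∃ x ∈ XS F m k k', b = b' * x ∧ s * b' * s⁻¹ ∈ Bsp F m := by
  have hne : k ≠ k' := by
    intro h
    rw [h] at hkk
    omega
  exact facs_core hkk hs (fun t => xS_mem k k' hne t)

end Cfsg.Agent.Lib.Helper41.SpBN
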