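import Mathlib
import Cfsg.Agent.Lib.Helper41.SpBNDefs
import Cfsg.Agent.Lib.Helper34.SpBN_Aux

/-! # S2545 SpBN hive, leaf OPP: core (`symJ ∈ N` and TCONJ as hypotheses) (helper34) -/

set_option autoImplicit false

namespace Cfsg.Agent.Lib.Helper41.SpBN

open Matrix Cfsg Cfsg.Agent.Lib.Helper13

variable {F : Type*} [Field F] {m : ℕ}

/-- entries of `g` when `g * J = J * h` -/
theorem opp_entry {g h : SpG F m}
    (hgh : g * SymplecticGroup.symJ (Fin m) F = SymplecticGroup.symJ (Fin m) F * h)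
    (a b : Idx m) :
    g.1 a b.swap * eta F b.swap = eta F a * h.1 a.swap b := by
  have h1 : g.1 * Matrix.J (Fin m) F = Matrix.J (Fin m) F * h.1 := congrArg Subtype.val hgh
  have h2 := congrFun (congrFun h1 a) b
  rw [Matrix.mul_apply, Matrix.mul_apply, Finset.sum_eq_single b.swap,
    Finset.sum_eq_single a.swap] at h2
  · rw [J_apply_eq, J_apply_eq, if_pos (Sum.swap_swap b).symm, if_pos rfl] at h2
    exact h2
  · intro c _ hc
    rw [J_apply_eq, if_neg hc, zero_mul]
  · simp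
  · intro c _ hc
    rw [J_apply_eq, if_neg ?_, mul_zero]
    intro h
    apply hc
    rw [h, Sum.swap_swap]
  · simp

/-- an element of `B ∩ J B J⁻¹` is diagonal -/
theorem opp_diag {g h : SpG F m} (hg : g ∈ Bsp F m) (hh : h ∈ Bsp F m)
    (hgh : g * SymplecticGroup.symJ (Fin m) F = SymplecticGroup.symJ (Fin m) F * h)
    (a c : Idx m) (hac : a ≠ c) : g.1 a c = 0 := by
  have hg' := (mem_Bsp_iff _).1 hg
  have hh' := (mem_Bsp_iff _).1 hh
  rcases a with i | i <;> rcases c with j | j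
  · have hij : i ≠ j := fun h => hac (by rw [h])
    rcases lt_or_gt_of_ne (Fin.val_ne_of_ne hij) with h | h
    · have e := opp_entry hgh (Sum.inl i) (Sum.inr j)
      simp only [Sum.swap_inr, Sum.swap_inl] at e
      rw [facs_lower hh i j h, mul_zero, eta_inl] at e
      simpa using e
    · exact hg'.1 i j h
  · have e := opp_entry hgh (Sum.inl i) (Sum.inl j)
    simp only [Sum.swap_inr, Sum.swap_inl] at e
    rw [hh'.2, mul_zero, eta_inr, mul_one] at e
    exact e
  · exact hg'.2 i j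
  · have hij : i ≠ j := fun h => hac (by rw [h])
    rcases lt_or_gt_of_ne (Fin.val_ne_of_ne hij) with h | h
    · exact facs_lower hg i j h
    · have e := opp_entry hgh (Sum.inr i) (Sum.inl j)
      simp only [Sum.swap_inr, Sum.swap_inl] at e
      rw [hh'.1 i j h, mul_zero, eta_inr, mul_one] at e
      exact e

theorem opp_core
    (hJ : SymplecticGroup.symJ (Fin m) F ∈ Nsp F m)
    (hT : ∀ n ∈ Nsp F m, ∀ t ∈ Bsp F m ⊓ Nsp F m, n * t * n⁻¹ ∈ Bsp F m) :
    Bsp F m ⊓ (Bsp F m).map (MulAut.conj (SymplecticGroup.symJ (Fin m) F)).toMonoidHom =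
      Bsp F m ⊓ Nsp F m := by
  ext g
  rw [Subgroup.mem_inf, Subgroup.mem_inf]
  constructor
  · rintro ⟨hgB, hgmap⟩
    refine ⟨hgB, ?_⟩
    obtain ⟨h, hhB, hh⟩ := Subgroup.mem_map.1 hgmap
    simp only [MulEquiv.coe_toMonoidHom, MulAut.conj_apply] at hh
    have hgh : g * SymplecticGroup.symJ (Fin m) F = SymplecticGroup.symJ (Fin m) F * h := by
      rw [← hh]
      group
    have hdiag := opp_diag hgB hhB hgh
    rw [mem_Nsp_iff]
    refine ⟨1, fun s => g.1 s s, ?_⟩
    intro a s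
    rw [Equiv.Perm.one_apply]
    by_cases has : a = s
    · rw [if_pos has, has]
    · rw [if_neg has]
      exact hdiag a s has
  · rintro ⟨hgB, hgN⟩
    refine ⟨hgB, ?_⟩
    rw [Subgroup.mem_map]
    refine ⟨(SymplecticGroup.symJ (Fin m) F)⁻¹ * g * SymplecticGroup.symJ (Fin m) F, ?_, ?_⟩
    · have := hT _ ((Nsp F m).inv_mem hJ) g (Subgroup.mem_inf.mpr ⟨hgB, hgN⟩)
      rwa [inv_inv] at this
    · simp only [MulEquiv.coe_toMonoidHom, MulAut.conj_apply]
      group

end Cfsg.Agent.Lib.Helper41.SpBN
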