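import Mathlib
import Cfsg.Agent.Lib.Helper41.SpBNDefs
import Cfsg.Agent.Lib.Helper41.SpBNBasic
import Cfsg.Agent.Lib.Helper34.SpBN_OPPCore

/-! # S2545 SpBN hive, leaf OPP (helper34) -/

set_option autoImplicit false

namespace Cfsg.Agent.Lib.Helper41.SpBN

open Matrix Cfsg Cfsg.Agent.Lib.Helper13

variable {F : Type*} [Field F] {m : ℕ}

theorem B_inf_conj_J :
    Bsp F m ⊓ (Bsp F m).map (MulAut.conj (SymplecticGroup.symJ (Fin m) F)).toMonoidHom =
      Bsp F m ⊓ Nsp F m :=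
  opp_core symJ_mem_N T_conj

end Cfsg.Agent.Lib.Helper41.SpBN
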