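import Cfsg.Agent.Lib.Helper41.StnDefs
import Cfsg.Agent.Lib.Helper73.StnBINJDefs

/-! # Stn hive (S2401, helper41), sub-hive BINJ (helper73): leaf BINJ-LEVSTD `std_Ulev` (helper34)

A standard homomorphism maps the level subgroup `Ulev K n m` to matrices that are the identity
outside the top-left `m × m` block.  Also contains the general "shape" closure induction used by
the leaf BINJ-USTD. -/

set_option autoImplicit false

namespace Cfsg.Agent.Lib.Helper41.Stn

open Matrix

variable {K : Type*} [Field K] {n : ℕ}

/-- local copy of Layer A `std_xx` (from `IsStd` directly) -/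
theorem binjlevstd_std_xx (φ : St K n →* SpecialLinearGroup (Fin n) K) (hφ : IsStd φ) {i j : Fin n}
    (hij : i ≠ j) (t : K) : (φ (xx i j t)).1 = Matrix.transvection i j t := by
  unfold xx
  rw [dif_pos hij]
  exact hφ ⟨(i, j), hij⟩ t

/-- the image of the inverse of a generator is the inverse transvection -/
theorem binjlevstd_std_xx_inv (φ : St K n →* SpecialLinearGroup (Fin n) K) (hφ : IsStd φ)
    {i j : Fin n} (hij : i ≠ j) (t : K) :
    (φ (xx i j t)⁻¹).1 = Matrix.transvection i j (-t) := by
  have h1 : φ (xx i j t)⁻¹ = (φ (xx i j t))⁻¹ := map_inv φ _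
  rw [h1]
  have h2 : (φ (xx i j t))⁻¹ =
      (⟨Matrix.transvection i j (-t), Matrix.det_transvection_of_ne i j hij (-t)⟩ :
        SpecialLinearGroup (Fin n) K) := by
    apply inv_eq_of_mul_eq_one_right
    apply Subtype.ext
    show (φ (xx i j t)).1 * Matrix.transvection i j (-t) = 1
    rw [binjlevstd_std_xx φ hφ hij, Matrix.transvection_mul_transvection_same _ _ hij]
    simp
  rw [h2]

/-- general closure induction: a multiplicative matrix "shape" `P` containing `1` and the
transvections `1 + t E_ij`, `G i j`, holds on the image of the subgroup generated by the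
`x_ij(t)`, `G i j`. -/
theorem binjlevstd_closure_shape (φ : St K n →* SpecialLinearGroup (Fin n) K) (hφ : IsStd φ)
    (G : Fin n → Fin n → Prop) (hG : ∀ i j, G i j → i ≠ j)
    (P : Matrix (Fin n) (Fin n) K → Prop) (h1 : P 1)
    (hmul : ∀ A B : Matrix (Fin n) (Fin n) K, P A → P B → P (A * B))
    (hgen : ∀ (i j : Fin n) (t : K), G i j → P (Matrix.transvection i j t))
    (S : Set (St K n)) (hS : ∀ g ∈ S, ∃ (i j : Fin n) (t : K), G i j ∧ g = xx i j t)
    {v : St K n} (hv : v ∈ Subgroup.closure S) : P (φ v).1 := by
  induction hv using Subgroup.closure_induction'' with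
  | mem x hx =>
    obtain ⟨i, j, t, hg, rfl⟩ := hS x hx
    rw [binjlevstd_std_xx φ hφ (hG i j hg)]
    exact hgen i j t hg
  | inv_mem x hx =>
    obtain ⟨i, j, t, hg, rfl⟩ := hS x hx
    rw [binjlevstd_std_xx_inv φ hφ (hG i j hg)]
    exact hgen i j (-t) hg
  | one =>
    rw [map_one]
    exact h1
  | mul x y _ _ hx hy =>
    rw [map_mul]
    exact hmul _ _ hx hy

/-- entries of a transvection -/
theorem binjlevstd_transvection_apply (i j a b : Fin n) (t : K) :
    Matrix.transvection i j t a b = (if a = b then 1 else 0) + (if i = a ∧ j = b then t else 0) := by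
  simp [Matrix.transvection, Matrix.one_apply, Matrix.single_apply]

/-- BINJ-LEVSTD -/
theorem std_Ulev (φ : St K n →* SpecialLinearGroup (Fin n) K) (hφ : IsStd φ) (m : ℕ) {v : St K n}
    (hv : v ∈ Ulev K n m) (a b : Fin n) (hab : m ≤ a.val ∨ m ≤ b.val) :
    (φ v).1 a b = if a = b then 1 else 0 := by
  have key := binjlevstd_closure_shape φ hφ (fun i j => i < j ∧ j.val < m)
    (fun i j h => ne_of_lt h.1)
    (fun M => ∀ a b : Fin n, (m ≤ a.val ∨ m ≤ b.val) → M a b = if a = b then 1 else 0)
    (fun a b _ => Matrix.one_apply)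
    (by
      intro A B hA hB a b hab
      rw [Matrix.mul_apply]
      rcases hab with h | h
      · rw [Finset.sum_eq_single a]
        · rw [hA a a (Or.inl h), if_pos rfl, one_mul]
          exact hB a b (Or.inl h)
        · intro c _ hca
          rw [hA a c (Or.inl h), if_neg (Ne.symm hca), zero_mul]
        · intro ha
          exact absurd (Finset.mem_univ a) ha
      · rw [Finset.sum_eq_single b]
        · rw [hB b b (Or.inr h), if_pos rfl, mul_one]
          exact hA a b (Or.inr h)
        · intro c _ hcb
          rw [hB c b (Or.inr h), if_neg hcb, mul_zero]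
        · intro hb
          exact absurd (Finset.mem_univ b) hb)
    (by
      intro i j t hg a b hab
      rw [binjlevstd_transvection_apply]
      have hne : ¬ (i = a ∧ j = b) := by
        rintro ⟨rfl, rfl⟩
        have h1 : i.val < j.val := hg.1
        rcases hab with h | h <;> omega
      rw [if_neg hne, add_zero])
    {g | ∃ (i j : Fin n) (t : K), i < j ∧ j.val < m ∧ g = xx i j t}
    (by
      rintro g ⟨i, j, t, h1, h2, rfl⟩
      exact ⟨i, j, t, ⟨h1, h2⟩, rfl⟩)
    (v := v) hv
  exact key a b hab

end Cfsg.Agent.Lib.Helper41.Stn
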