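import Cfsg.Agent.Lib.Helper41.StnDefs
import Cfsg.Agent.Lib.Helper73.StnBINJDefs
import Cfsg.Agent.Lib.Helper34.Stn_BINJ_LEVSTD

/-! # Stn hive (S2401, helper41), sub-hive BINJ (helper73): leaf BINJ-USTD `std_UU_unitri` (helper34)

A standard homomorphism maps `U` to upper unitriangular matrices. -/

set_option autoImplicit false

namespace Cfsg.Agent.Lib.Helper41.Stn

open Matrix

variable {K : Type*} [Field K] {n : ℕ}

/-- BINJ-USTD -/
theorem std_UU_unitri (φ : St K n →* SpecialLinearGroup (Fin n) K) (hφ : IsStd φ) {u : St K n}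
    (hu : u ∈ UU K n) (a b : Fin n) (hab : b ≤ a) : (φ u).1 a b = if a = b then 1 else 0 := by
  have key := binjlevstd_closure_shape φ hφ (fun i j => i < j)
    (fun i j h => ne_of_lt h)
    (fun M => ∀ a b : Fin n, b ≤ a → M a b = if a = b then 1 else 0)
    (fun a b _ => Matrix.one_apply)
    (by
      intro A B hA hB a b hab
      rw [Matrix.mul_apply]
      rw [Finset.sum_eq_single a]
      · rw [hA a a le_rfl, if_pos rfl, one_mul]
        exact hB a b hab
      · intro c _ hca
        rcases lt_or_gt_of_ne hca with h | h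
        · rw [hA a c (le_of_lt h), if_neg (Ne.symm hca), zero_mul]
        · have hbc : b ≤ c := le_trans hab (le_of_lt h)
          have hcb : c ≠ b := fun e => by
            rw [e] at h
            exact absurd h (not_lt.mpr hab)
          rw [hB c b hbc, if_neg hcb, mul_zero]
      · intro ha
        exact absurd (Finset.mem_univ a) ha)
    (by
      intro i j t hg a b hab
      rw [binjlevstd_transvection_apply]
      have hne : ¬ (i = a ∧ j = b) := by
        rintro ⟨rfl, rfl⟩
        exact absurd hg (not_lt.mpr hab)
      rw [if_neg hne, add_zero])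
    {g | ∃ (i j : Fin n) (t : K), i < j ∧ g = xx i j t}
    (by
      rintro g ⟨i, j, t, h1, rfl⟩
      exact ⟨i, j, t, h1, rfl⟩)
    (v := u) hu
  exact key a b hab

end Cfsg.Agent.Lib.Helper41.Stn
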