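import Cfsg.Agent.Lib.Helper34.FusYoshida

set_option autoImplicit false

/-!
# Tate's theorem for fusion systems: shared definitions

Stable characters, corestriction (transfer from a subgroup of `S` to `S`), the canonical complement
`Kgen` of the stable characters, and conjugation by elements normalizing `S`.
-/

namespace Cfsg.Agent.Lib.Helper34.Tate

open Cfsg Cfsg.FusionSystem
open Cfsg.Agent.Lib.Helper87 (hom_le hom_mem_S)

variable {Ω : Type*} [Group Ω] {S : Subgroup Ω}

/-- `lam` takes the same value on `v` and on its image under any map of the system -/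
def Stab (F : FusionSystem S) {A : Type*} (lam : S → A) : Prop :=
  ∀ (Q : Subgroup Ω) (ψ : Q →* Ω) (hψ : ψ ∈ F.Hom Q) (v : Q),
    lam ⟨ψ v, hom_mem_S F hψ v⟩ = lam ⟨(v : Ω), hom_le F hψ v.2⟩

theorem range_le (F : FusionSystem S) {Q : Subgroup Ω} {ψ : Q →* Ω} (hψ : ψ ∈ F.Hom Q) :
    ψ.range ≤ S := by
  rintro _ ⟨v, rfl⟩
  exact hom_mem_S F hψ v

/-- corestriction: the transfer from `S` to its subgroup `Q`, applied to `ν : Q →* A` -/
noncomputable def cor [Finite S] {A : Type*} [CommGroup A] {Q : Subgroup Ω} (hQ : Q ≤ S)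
    (ν : Q →* A) : S →* A :=
  MonoidHom.transfer (ν.comp (Subgroup.subgroupOfEquivOfLe hQ).toMonoidHom)

/-- the canonical complement of the stable characters: generated by the
`cor_Q (μ ∘ ψ) / cor_{ψ Q} μ` for the maps `ψ : Q → S` of the system and `μ : ψ Q →* A` -/
def Kgen [Finite S] (F : FusionSystem S) (A : Type*) [CommGroup A] : Subgroup (S →* A) :=
  Subgroup.closure {k | ∃ (Q : Subgroup Ω) (ψ : Q →* Ω) (hψ : ψ ∈ F.Hom Q) (μ : ψ.range →* A),
    k = cor (hom_le F hψ) (μ.comp ψ.rangeRestrict) / cor (range_le F hψ) μ}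

/-- conjugation by an element normalizing `S`, as an automorphism of `S` -/
def cj (S : Subgroup Ω) (g : Ω) (hg : g ∈ Subgroup.normalizer (S : Set Ω)) : S ≃* S where
  toFun t := ⟨g * t * g⁻¹, (Subgroup.mem_normalizer_iff.mp hg t).mp t.2⟩
  invFun t := ⟨g⁻¹ * t * g, by
    have h := (Subgroup.mem_normalizer_iff.mp hg (g⁻¹ * t * g)).mpr (by
      have e : g * (g⁻¹ * (t : Ω) * g) * g⁻¹ = t := by group
      rw [e]; exact t.2)
    exact h⟩
  left_inv t := by
    apply Subtype.ext
    show g⁻¹ * (g * (t : Ω) * g⁻¹) * g = t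
    group
  right_inv t := by
    apply Subtype.ext
    show g * (g⁻¹ * (t : Ω) * g) * g⁻¹ = t
    group
  map_mul' a b := by
    apply Subtype.ext
    show g * ((a : Ω) * b) * g⁻¹ = g * a * g⁻¹ * (g * b * g⁻¹)
    group

@[simp] theorem cj_apply (S : Subgroup Ω) (g : Ω) (hg : g ∈ Subgroup.normalizer (S : Set Ω))
    (t : S) : ((cj S g hg t : S) : Ω) = g * t * g⁻¹ := rfl

end Cfsg.Agent.Lib.Helper34.Tate
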