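import Cfsg.Agent.Lib.Helper34.TateRS3

set_option autoImplicit false

/-!
# Tate's theorem for fusion systems: the Mackey formula for the transfer of the biset
-/

namespace Cfsg.Agent.Lib.Helper34.Tate

open Cfsg Cfsg.FusionSystem MulAction
open Cfsg.Agent.Lib.Helper88
open Cfsg.Agent.Lib.Helper87 (hom_le hom_mem_S)
open Cfsg.Agent.Lib.Helper34.Yoshida

variable {Ω : Type*} [Group Ω] {S : Subgroup Ω}

/-- the stabilizer of a coset in the image of `S`, and the value of the Mackey homomorphism -/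
theorem mackey_park_iff [Finite S] {F : FusionSystem S} {m : Subgroup (S × S) → ℕ}
    (hgen : Gen F m) (x₀ : OrbSum m) {A : Type*} [CommGroup A] (lam : S →* A)
    (q₀ : ParkGroup m ⧸ parkStab m x₀) {Q : Subgroup Ω} {ψ : Q →* Ω} (hψ : ψ ∈ F.Hom Q)
    (hD : IsGraphOf (stabilizer (S × S) ((Quotient.out q₀ : ParkGroup m).1 x₀)) ψ) (v : S) :
    ((⟨parkι m v, ⟨v, rfl⟩⟩ : (parkι m).range) ∈ stabilizer (parkι m).range q₀ ↔ (v : Ω) ∈ Q) ∧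
    ∀ (hd : (⟨parkι m v, ⟨v, rfl⟩⟩ : (parkι m).range) ∈ stabilizer (parkι m).range q₀)
      (hvQ : (v : Ω) ∈ Q),
      mackeyHom (parkStab m x₀) (parkι m).range (parkϕ hgen x₀ lam) q₀
        ⟨⟨parkι m v, ⟨v, rfl⟩⟩, hd⟩ = lam ⟨ψ ⟨v, hvQ⟩, hom_mem_S F hψ _⟩ := by
  have fwd : ∀ hd : (⟨parkι m v, ⟨v, rfl⟩⟩ : (parkι m).range) ∈ stabilizer (parkι m).range q₀,
      ∃ hvQ : (v : Ω) ∈ Q, mackeyHom (parkStab m x₀) (parkι m).range (parkϕ hgen x₀ lam) q₀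
        ⟨⟨parkι m v, ⟨v, rfl⟩⟩, hd⟩ = lam ⟨ψ ⟨v, hvQ⟩, hom_mem_S F hψ _⟩ := by
    intro hd
    have hmem := mackey_mem (parkStab m x₀) (parkι m).range q₀ ⟨⟨parkι m v, ⟨v, rfl⟩⟩, hd⟩
    obtain ⟨s, hs1, hs2⟩ := parkϕ_conj hgen x₀ lam (Quotient.out q₀) v hmem
    obtain ⟨q, hq1, hq2⟩ := (hD _).mp hs1
    have hq1' : (q : Ω) = (v : Ω) := hq1
    have hvQ : (v : Ω) ∈ Q := by
      rw [← hq1']; exact q.2
    refine ⟨hvQ, ?_⟩
    have e : (⟨(v : Ω), hvQ⟩ : Q) = q := Subtype.ext hq1'.symm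
    have hs : s = ⟨ψ ⟨v, hvQ⟩, hom_mem_S F hψ _⟩ := by
      apply Subtype.ext
      rw [e]
      exact hq2.symm
    rw [← hs, mackeyHom_apply]
    exact hs2
  refine ⟨⟨fun hd => (fwd hd).1, fun hvQ => ?_⟩, fun hd hvQ => (fwd hd).2⟩
  -- the converse
  rw [mem_stabilizer_iff]
  obtain ⟨g₀, hg₀⟩ : ∃ g₀ : ParkGroup m, g₀ = Quotient.out q₀ := ⟨_, rfl⟩
  have hq₀ : q₀ = ((g₀ : ParkGroup m) : ParkGroup m ⧸ parkStab m x₀) := by
    rw [hg₀]; exact (Quotient.out_eq' q₀).symm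
  have e1 : (⟨parkι m v, ⟨v, rfl⟩⟩ : (parkι m).range) • q₀ =
      ((parkι m v * g₀ : ParkGroup m) : ParkGroup m ⧸ parkStab m x₀) := by
    rw [hq₀]; rfl
  rw [e1]
  conv_rhs => rw [hq₀]
  symm
  rw [QuotientGroup.eq, mem_parkStab]
  have hstab : (((⟨(v : Ω), v.2⟩ : S), (⟨ψ ⟨v, hvQ⟩, hom_mem_S F hψ _⟩ : S)) : S × S) ∈
      stabilizer (S × S) (g₀.1 x₀) := by
    rw [hg₀]
    exact (hD _).mpr ⟨⟨v, hvQ⟩, rfl, rfl⟩
  refine ⟨(⟨ψ ⟨v, hvQ⟩, hom_mem_S F hψ _⟩ : S)⁻¹, ?_⟩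
  rw [conj_pt]
  show (parkι m v).1 (g₀.1 x₀) = _
  rw [parkι_apply]
  conv_rhs => rw [← mem_stabilizer_iff.mp hstab, smul_smul]
  congr 1
  ext <;> simp

/-- one factor of the Mackey formula is a corestriction -/
theorem mackey_factor [Finite S] {F : FusionSystem S} {m : Subgroup (S × S) → ℕ}
    (hgen : Gen F m) (x₀ : OrbSum m) (A : Type*) [CommGroup A]
    (q₀ : ParkGroup m ⧸ parkStab m x₀) :
    ∃ (Q : Subgroup Ω) (ψ : Q →* Ω) (hψ : ψ ∈ F.Hom Q),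
      (stabilizer (parkι m).range q₀).index = (Q.subgroupOf S).index ∧
      ∀ (lam : S →* A) (u : S),
        MonoidHom.transfer (mackeyHom (parkStab m x₀) (parkι m).range (parkϕ hgen x₀ lam) q₀)
          ⟨parkι m u, ⟨u, rfl⟩⟩ =
        cor (hom_le F hψ) (lam.comp (ψ.codRestrict S (hom_mem_S F hψ))) u := by
  obtain ⟨Q, ψ, hψ, hD⟩ := inTw_stabilizer hgen ((Quotient.out q₀ : ParkGroup m).1 x₀)
  refine ⟨Q, ψ, hψ, ?_⟩
  have hinj := parkι_injective hgen x₀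
  obtain ⟨e, he⟩ : ∃ e : S ≃* (parkι m).range, ∀ v : S, e v = ⟨parkι m v, ⟨v, rfl⟩⟩ :=
    ⟨MonoidHom.ofInjective hinj, fun v => rfl⟩
  have hesymm : ∀ v : S, e.symm ⟨parkι m v, ⟨v, rfl⟩⟩ = v := by
    intro v
    rw [MulEquiv.symm_apply_eq, he]
  have hsub : (Q.subgroupOf S).comap e.symm.toMonoidHom = stabilizer (parkι m).range q₀ := by
    ext d
    obtain ⟨v, rfl⟩ := e.surjective d
    rw [Subgroup.mem_comap]
    show e.symm (e v) ∈ Q.subgroupOf S ↔ _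
    rw [MulEquiv.symm_apply_apply, Subgroup.mem_subgroupOf, he]
    exact ((mackey_park_iff hgen x₀ (1 : S →* A) q₀ hψ hD v).1).symm
  constructor
  · rw [← hsub]
    exact Subgroup.index_comap_of_surjective _ e.symm.surjective
  · intro lam u
    unfold cor
    have h1 := transfer_comap e.symm.toMonoidHom e.symm.surjective (Q.subgroupOf S)
      ((lam.comp (ψ.codRestrict S (hom_mem_S F hψ))).comp
        (Subgroup.subgroupOfEquivOfLe (hom_le F hψ)).toMonoidHom) ⟨parkι m u, ⟨u, rfl⟩⟩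
    have h2 : e.symm.toMonoidHom ⟨parkι m u, ⟨u, rfl⟩⟩ = u := hesymm u
    rw [h2] at h1
    rw [← h1]
    refine transfer_congr_sub hsub.symm _ _ ?_ _
    rintro ⟨⟨_, ⟨v, rfl⟩⟩, hd⟩
    have hvQ : (v : Ω) ∈ Q := (mackey_park_iff hgen x₀ lam q₀ hψ hD v).1.mp hd
    rw [(mackey_park_iff hgen x₀ lam q₀ hψ hD v).2 hd hvQ]
    show lam _ = lam _
    congr 1
    apply Subtype.ext
    show ψ ⟨v, hvQ⟩ = ψ ⟨((e.symm ⟨parkι m v, ⟨v, rfl⟩⟩ : S) : Ω), _⟩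
    congr 1
    apply Subtype.ext
    show (v : Ω) = ((e.symm ⟨parkι m v, ⟨v, rfl⟩⟩ : S) : Ω)
    rw [hesymm]

end Cfsg.Agent.Lib.Helper34.Tate
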