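import Cfsg.Agent.Lib.Helper34.TransferMackey

set_option autoImplicit false

/-!
# The transfer commutes with pullback along a surjective homomorphism
-/

namespace Cfsg.Agent.Lib.Helper34.Tate

open Cfsg.Agent.Lib.Helper34.Witt

/-- the transfer commutes with pullback along a surjective homomorphism -/
theorem transfer_comap {G₁ G₂ : Type*} [Group G₁] [Group G₂] (ρ : G₁ →* G₂)
    (hρ : Function.Surjective ρ) (H₂ : Subgroup G₂) [H₂.FiniteIndex] [(H₂.comap ρ).FiniteIndex]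
    {A : Type*} [CommGroup A] (φ : H₂ →* A) (g : G₁) :
    MonoidHom.transfer (φ.comp (ρ.subgroupComap H₂)) g = MonoidHom.transfer φ (ρ g) := by
  classical
  let _ : Fintype (G₂ ⧸ H₂) := H₂.fintypeQuotientOfFiniteIndex
  let _ : Fintype (G₁ ⧸ H₂.comap ρ) := (H₂.comap ρ).fintypeQuotientOfFiniteIndex
  -- the induced map on cosets
  let fb : G₁ ⧸ H₂.comap ρ → G₂ ⧸ H₂ := Quotient.map' ρ (by
    intro a b hab
    rw [QuotientGroup.leftRel_apply] at hab ⊢
    have : ρ (a⁻¹ * b) ∈ H₂ := hab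
    simpa using this)
  have hfb : ∀ a : G₁, fb (a : G₁ ⧸ H₂.comap ρ) = ((ρ a : G₂) : G₂ ⧸ H₂) := fun a => rfl
  have hinj : Function.Injective fb := by
    intro q q' h
    induction q using QuotientGroup.induction_on with
    | H a =>
    induction q' using QuotientGroup.induction_on with
    | H b =>
    rw [hfb, hfb, QuotientGroup.eq] at h
    rw [QuotientGroup.eq]
    show ρ (a⁻¹ * b) ∈ H₂
    simpa using h
  have hsurj : Function.Surjective fb := by
    intro q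
    induction q using QuotientGroup.induction_on with
    | H b =>
    obtain ⟨a, rfl⟩ := hρ b
    exact ⟨(a : G₁ ⧸ H₂.comap ρ), rfl⟩
  have hsmul : ∀ (a : G₁) (q : G₁ ⧸ H₂.comap ρ), fb (a • q) = ρ a • fb q := by
    intro a q
    induction q using QuotientGroup.induction_on with
    | H b =>
    show fb ((a * b : G₁) : G₁ ⧸ H₂.comap ρ) = (((ρ a * ρ b : G₂)) : G₂ ⧸ H₂)
    rw [hfb, map_mul]
  -- sections
  have hs₂ : ∀ q : G₂ ⧸ H₂, ((Quotient.out q : G₂) : G₂ ⧸ H₂) = q := fun q => Quotient.out_eq' q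
  choose s₁ hs₁ using fun q : G₁ ⧸ H₂.comap ρ => hρ (Quotient.out (fb q) : G₂)
  have hs₁' : ∀ q : G₁ ⧸ H₂.comap ρ, ((s₁ q : G₁) : G₁ ⧸ H₂.comap ρ) = q := by
    intro q
    apply hinj
    rw [hfb, hs₁, hs₂]
  rw [transfer_eq_prod_sec (H₂.comap ρ) _ s₁ hs₁' g,
    transfer_eq_prod_sec H₂ φ (fun q => Quotient.out q) hs₂ (ρ g)]
  refine Fintype.prod_equiv (Equiv.ofBijective fb ⟨hinj, hsurj⟩) _ _ ?_
  intro q
  show φ _ = φ _
  congr 1
  apply Subtype.ext
  show ρ ((s₁ (g • q))⁻¹ * g * s₁ q) =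
    (Quotient.out (ρ g • fb q) : G₂)⁻¹ * ρ g * (Quotient.out (fb q) : G₂)
  rw [map_mul, map_mul, map_inv, hs₁, hs₁, hsmul]

end Cfsg.Agent.Lib.Helper34.Tate
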