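import Cfsg.Agent.Lib.Helper34.TateDefs
import Cfsg.Agent.Lib.Helper34.TransferPull

set_option autoImplicit false

/-!
# Tate's theorem for fusion systems: the transfer of a corestricted character

`bisetTransfer (cor hQ ν)` is the transfer from Park's group to the subgroup `DQ` of the elements
moving the base point inside its right `Q`-orbit.
-/

namespace Cfsg.Agent.Lib.Helper34.Tate

open Cfsg Cfsg.FusionSystem MulAction
open Cfsg.Agent.Lib.Helper88
open Cfsg.Agent.Lib.Helper87 (hom_le hom_mem_S)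
open Cfsg.Agent.Lib.Helper34.Yoshida

variable {Ω : Type*} [Group Ω] {S : Subgroup Ω}

theorem transfer_congr_sub {G : Type*} [Group G] {A : Type*} [CommGroup A] {H H' : Subgroup G}
    [H.FiniteIndex] [H'.FiniteIndex] (h : H = H') (φ : H →* A) (φ' : H' →* A)
    (hφ : ∀ x : H, φ x = φ' ⟨x, h ▸ x.2⟩) (g : G) :
    MonoidHom.transfer φ g = MonoidHom.transfer φ' g := by
  subst h
  have : φ = φ' := by
    ext x
    exact hφ x
  subst this
  rfl

theorem rtElt_mul {F : FusionSystem S} {m : Subgroup (S × S) → ℕ} (hgen : Gen F m)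
    {x₀ : OrbSum m} (g h : parkStab m x₀) : rtElt (g * h) = rtElt h * rtElt g := by
  apply rtElt_eq hgen
  show g.1.1 (h.1.1 x₀) = _
  rw [rtElt_spec h, mem_parkGroup.mp g.1.2, rtElt_spec g, smul_smul]
  congr 1
  ext <;> simp

theorem rtElt_one {F : FusionSystem S} {m : Subgroup (S × S) → ℕ} (hgen : Gen F m)
    {x₀ : OrbSum m} : rtElt (1 : parkStab m x₀) = 1 := by
  apply rtElt_eq hgen
  have e : (((1 : S), (1 : S)) : S × S) = 1 := rfl
  rw [e, one_smul]
  rfl

/-- the homomorphism from the stabilizer of the right orbit to `S` -/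
noncomputable def rho {F : FusionSystem S} {m : Subgroup (S × S) → ℕ} (hgen : Gen F m)
    (x₀ : OrbSum m) : parkStab m x₀ →* S where
  toFun g := (rtElt g)⁻¹
  map_one' := by rw [rtElt_one hgen, inv_one]
  map_mul' g h := by rw [rtElt_mul hgen, mul_inv_rev]

theorem rho_apply {F : FusionSystem S} {m : Subgroup (S × S) → ℕ} (hgen : Gen F m)
    (x₀ : OrbSum m) (g : parkStab m x₀) : rho hgen x₀ g = (rtElt g)⁻¹ := rfl

theorem rho_surjective [Finite S] {F : FusionSystem S} {m : Subgroup (S × S) → ℕ} (hgen : Gen F m)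
    (x₀ : OrbSum m) : Function.Surjective (rho hgen x₀) := by
  intro b
  obtain ⟨g, hg⟩ := park_transitive hgen x₀ ((((1 : S), b⁻¹) : S × S) • x₀)
  have hmem : g ∈ parkStab m x₀ := ⟨b⁻¹, hg⟩
  refine ⟨⟨g, hmem⟩, ?_⟩
  rw [rho_apply, rtElt_eq hgen ⟨g, hmem⟩ hg, inv_inv]

theorem parkϕ_eq_comp_rho {F : FusionSystem S} {m : Subgroup (S × S) → ℕ} (hgen : Gen F m)
    (x₀ : OrbSum m) {A : Type*} [CommGroup A] (lam : S →* A) :
    parkϕ hgen x₀ lam = lam.comp (rho hgen x₀) := by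
  ext g
  rw [parkϕ_apply, MonoidHom.comp_apply, rho_apply, map_inv]

/-- the elements of Park's group moving the base point inside its right `Q`-orbit, inside the
stabilizer of the right orbit -/
noncomputable def HQ {F : FusionSystem S} {m : Subgroup (S × S) → ℕ} (hgen : Gen F m)
    (x₀ : OrbSum m) (Q : Subgroup Ω) : Subgroup (parkStab m x₀) :=
  (Q.subgroupOf S).comap (rho hgen x₀)

/-- the same subgroup, in Park's group -/
noncomputable def DQ {F : FusionSystem S} {m : Subgroup (S × S) → ℕ} (hgen : Gen F m)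
    (x₀ : OrbSum m) (Q : Subgroup Ω) : Subgroup (ParkGroup m) :=
  (HQ hgen x₀ Q).map (parkStab m x₀).subtype

theorem DQ_le {F : FusionSystem S} {m : Subgroup (S × S) → ℕ} (hgen : Gen F m)
    (x₀ : OrbSum m) (Q : Subgroup Ω) : DQ hgen x₀ Q ≤ parkStab m x₀ := by
  rintro _ ⟨g, -, rfl⟩
  exact g.2

theorem mem_DQ {F : FusionSystem S} {m : Subgroup (S × S) → ℕ} (hgen : Gen F m)
    (x₀ : OrbSum m) (Q : Subgroup Ω) (g : ParkGroup m) :
    g ∈ DQ hgen x₀ Q ↔ ∃ b : S, (b : Ω) ∈ Q ∧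
      (g : Equiv.Perm (OrbSum m)) x₀ = (((1 : S), b) : S × S) • x₀ := by
  constructor
  · rintro ⟨h, hh, rfl⟩
    refine ⟨rtElt h, ?_, rtElt_spec h⟩
    have h1 : rho hgen x₀ h ∈ Q.subgroupOf S := hh
    rw [rho_apply, Subgroup.mem_subgroupOf] at h1
    have h2 := Q.inv_mem h1
    simpa using h2
  · rintro ⟨b, hb, hg⟩
    have hmem : g ∈ parkStab m x₀ := ⟨b, hg⟩
    refine ⟨⟨g, hmem⟩, ?_, rfl⟩
    show rho hgen x₀ ⟨g, hmem⟩ ∈ Q.subgroupOf S
    rw [rho_apply, rtElt_eq hgen ⟨g, hmem⟩ hg, Subgroup.mem_subgroupOf]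
    simpa using Q.inv_mem hb

/-- the homomorphism on `HQ` -/
noncomputable def phiH {F : FusionSystem S} {m : Subgroup (S × S) → ℕ} (hgen : Gen F m)
    (x₀ : OrbSum m) {Q : Subgroup Ω} (hQ : Q ≤ S) {A : Type*} [CommGroup A] (ν : Q →* A) :
    HQ hgen x₀ Q →* A :=
  (ν.comp (Subgroup.subgroupOfEquivOfLe hQ).toMonoidHom).comp
    ((rho hgen x₀).subgroupComap (Q.subgroupOf S))

/-- the homomorphism on `DQ` -/
noncomputable def phiD {F : FusionSystem S} {m : Subgroup (S × S) → ℕ} (hgen : Gen F m)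
    (x₀ : OrbSum m) {Q : Subgroup Ω} (hQ : Q ≤ S) {A : Type*} [CommGroup A] (ν : Q →* A) :
    DQ hgen x₀ Q →* A :=
  (phiH hgen x₀ hQ ν).comp
    ((HQ hgen x₀ Q).equivMapOfInjective (parkStab m x₀).subtype
      (parkStab m x₀).subtype_injective).symm.toMonoidHom

theorem phiD_apply {F : FusionSystem S} {m : Subgroup (S × S) → ℕ} (hgen : Gen F m)
    (x₀ : OrbSum m) {Q : Subgroup Ω} (hQ : Q ≤ S) {A : Type*} [CommGroup A] (ν : Q →* A)
    (g : DQ hgen x₀ Q) (b : S) (hb : (b : Ω) ∈ Q)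
    (hg : ((g : ParkGroup m) : Equiv.Perm (OrbSum m)) x₀ = (((1 : S), b) : S × S) • x₀) :
    phiD hgen x₀ hQ ν g = ν ⟨(b : Ω)⁻¹, Q.inv_mem hb⟩ := by
  obtain ⟨g, ⟨h, hh, rfl⟩⟩ := g
  have e : ((HQ hgen x₀ Q).equivMapOfInjective (parkStab m x₀).subtype
      (parkStab m x₀).subtype_injective).symm ⟨(parkStab m x₀).subtype h, ⟨h, hh, rfl⟩⟩ =
      ⟨h, hh⟩ := by
    rw [MulEquiv.symm_apply_eq]
    apply Subtype.ext
    rfl
  have hr : rtElt h = b := rtElt_eq hgen h hg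
  show phiH hgen x₀ hQ ν (((HQ hgen x₀ Q).equivMapOfInjective (parkStab m x₀).subtype
      (parkStab m x₀).subtype_injective).symm ⟨(parkStab m x₀).subtype h, ⟨h, hh, rfl⟩⟩) = _
  rw [e]
  show ν _ = ν _
  congr 1
  apply Subtype.ext
  show ((rho hgen x₀ h : S) : Ω) = (b : Ω)⁻¹
  rw [rho_apply, hr]
  rfl

/-- the transfer of the biset, applied to a corestricted character -/
theorem bisetTransfer_cor [Finite S] {F : FusionSystem S} {m : Subgroup (S × S) → ℕ}
    (hgen : Gen F m) (x₀ : OrbSum m) {Q : Subgroup Ω} (hQ : Q ≤ S) {A : Type*} [CommGroup A]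
    (ν : Q →* A) (u : S) :
    bisetTransfer hgen x₀ (cor hQ ν) u =
      MonoidHom.transfer (phiD hgen x₀ hQ ν) (parkι m u) := by
  unfold bisetTransfer
  rw [MonoidHom.comp_apply]
  rw [transfer_trans (DQ hgen x₀ Q) (parkStab m x₀) (DQ_le hgen x₀ Q) (phiD hgen x₀ hQ ν)]
  have key : parkϕ hgen x₀ (cor hQ ν) = MonoidHom.transfer ((phiD hgen x₀ hQ ν).comp
      (Subgroup.subgroupOfEquivOfLe (DQ_le hgen x₀ Q)).toMonoidHom) := by
    ext g
    rw [parkϕ_eq_comp_rho, MonoidHom.comp_apply]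
    unfold cor
    rw [← transfer_comap (rho hgen x₀) (rho_surjective hgen x₀) (Q.subgroupOf S)
      (ν.comp (Subgroup.subgroupOfEquivOfLe hQ).toMonoidHom) g]
    have hsub : (DQ hgen x₀ Q).subgroupOf (parkStab m x₀) = HQ hgen x₀ Q := by
      unfold DQ
      rw [← Subgroup.comap_subtype]
      exact Subgroup.comap_map_eq_self_of_injective (parkStab m x₀).subtype_injective _
    symm
    refine transfer_congr_sub hsub _ _ ?_ g
    intro x
    have hxD : ((x : parkStab m x₀) : ParkGroup m) ∈ DQ hgen x₀ Q := x.2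
    obtain ⟨b, hb, hgb⟩ := (mem_DQ hgen x₀ Q _).mp hxD
    show phiD hgen x₀ hQ ν ⟨((x : parkStab m x₀) : ParkGroup m), hxD⟩ = _
    rw [phiD_apply hgen x₀ hQ ν _ b hb hgb]
    show ν _ = ν _
    congr 1
    apply Subtype.ext
    show (b : Ω)⁻¹ = ((rho hgen x₀ (x : parkStab m x₀) : S) : Ω)
    rw [rho_apply, rtElt_eq hgen (x : parkStab m x₀) hgb]
    rfl
  rw [key]

end Cfsg.Agent.Lib.Helper34.Tate
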