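import Cfsg.Agent.Lib.Helper34.TateRS1

set_option autoImplicit false

/-!
# Tate's theorem for fusion systems: comparison of transfers through a twisted automorphism
-/

namespace Cfsg.Agent.Lib.Helper34.Tate

open Cfsg Cfsg.FusionSystem MulAction
open Cfsg.Agent.Lib.Helper88
open Cfsg.Agent.Lib.Helper87 (hom_le hom_mem_S)
open Cfsg.Agent.Lib.Helper34.Yoshida
open Cfsg.Agent.Lib.Helper34.Witt

variable {Ω : Type*} [Group Ω] {S : Subgroup Ω}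

theorem conj_pt {m : Subgroup (S × S) → ℕ} (x₀ : OrbSum m) (g₁ g₂ : ParkGroup m) (b : S) :
    ((g₁⁻¹ * g₂ : ParkGroup m) : Equiv.Perm (OrbSum m)) x₀ = (((1 : S), b) : S × S) • x₀ ↔
      (g₂ : Equiv.Perm (OrbSum m)) x₀ =
        (((1 : S), b) : S × S) • ((g₁ : Equiv.Perm (OrbSum m)) x₀) := by
  have e : ((g₁⁻¹ * g₂ : ParkGroup m) : Equiv.Perm (OrbSum m)) x₀ = g₁.1⁻¹ (g₂.1 x₀) := rfl
  rw [e, Equiv.Perm.inv_def, Equiv.symm_apply_eq, mem_parkGroup.mp g₁.2]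

theorem phi_congr {G : Type*} [Group G] {A : Type*} [CommGroup A] {H : Subgroup G} (φ : H →* A)
    {x y : G} (hx : x ∈ H) (hxy : x = y) (hy : y ∈ H) : φ ⟨x, hx⟩ = φ ⟨y, hy⟩ := by
  subst hxy
  rfl

set_option maxHeartbeats 1600000 in
/-- comparison of the transfers to `DQ Q` and `DQ (ψ Q)` through an automorphism of the biset
twisted by `ψ` on the right -/
theorem rs_compare [Finite S] {F : FusionSystem S} {m : Subgroup (S × S) → ℕ} (hgen : Gen F m)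
    (x₀ : OrbSum m) {Q : Subgroup Ω} {ψ : Q →* Ω} (hψ : ψ ∈ F.Hom Q) {A : Type*} [CommGroup A]
    (μ : ψ.range →* A) (f : OrbSum m ≃ OrbSum m)
    (hf : ∀ (a : S) (q : Q) (x : OrbSum m),
      f (((a, (⟨(q : Ω), hom_le F hψ q.2⟩ : S)) : S × S) • x) =
        ((a, (⟨ψ q, hom_mem_S F hψ q⟩ : S)) : S × S) • f x)
    (u : S) :
    MonoidHom.transfer (phiD hgen x₀ (hom_le F hψ) (μ.comp ψ.rangeRestrict)) (parkι m u) =
      MonoidHom.transfer (phiD hgen x₀ (range_le F hψ) μ) (parkι m u) := by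
  classical
  have hQS := hom_le F hψ
  have hψS := hom_mem_S F hψ
  have hRS := range_le F hψ
  obtain ⟨H, hHdef⟩ : ∃ H : Subgroup (ParkGroup m), H = DQ hgen x₀ Q := ⟨_, rfl⟩
  obtain ⟨H', hH'def⟩ : ∃ H' : Subgroup (ParkGroup m), H' = DQ hgen x₀ ψ.range := ⟨_, rfl⟩
  obtain ⟨ϕ, hϕdef⟩ : ∃ ϕ : DQ hgen x₀ Q →* A,
      ϕ = phiD hgen x₀ hQS (μ.comp ψ.rangeRestrict) := ⟨_, rfl⟩
  obtain ⟨ϕ', hϕ'def⟩ : ∃ ϕ' : DQ hgen x₀ ψ.range →* A, ϕ' = phiD hgen x₀ hRS μ := ⟨_, rfl⟩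
  rw [← hϕdef, ← hϕ'def]
  -- the twisted copies of the elements of Park's group
  choose θ hθ using fun g : ParkGroup m => park_transitive hgen x₀ (f (g.1 x₀))
  have one_smul' : ∀ x : OrbSum m, (((1 : S), (1 : S)) : S × S) • x = x := by
    intro x
    have e : (((1 : S), (1 : S)) : S × S) = 1 := rfl
    rw [e, one_smul]
  -- (K1)
  have K1 : ∀ (g₁ g₂ : ParkGroup m) (b : S) (hb : (b : Ω) ∈ Q),
      g₂.1 x₀ = (((1 : S), b) : S × S) • (g₁.1 x₀) →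
      (θ g₂).1 x₀ = (((1 : S), (⟨ψ ⟨b, hb⟩, hψS _⟩ : S)) : S × S) • ((θ g₁).1 x₀) := by
    intro g₁ g₂ b hb h
    rw [hθ, hθ, h]
    exact hf 1 ⟨b, hb⟩ _
  -- (1)
  have P1 : ∀ (g₁ g₂ : ParkGroup m) (h : g₁⁻¹ * g₂ ∈ DQ hgen x₀ Q),
      ∃ h' : (θ g₁)⁻¹ * θ g₂ ∈ DQ hgen x₀ ψ.range, ϕ' ⟨_, h'⟩ = ϕ ⟨_, h⟩ := by
    intro g₁ g₂ h
    obtain ⟨b, hb, hpt⟩ := (mem_DQ hgen x₀ Q _).mp h
    have hpt' := (conj_pt x₀ g₁ g₂ b).mp hpt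
    have h2 := K1 g₁ g₂ b hb hpt'
    have h3 := (conj_pt x₀ (θ g₁) (θ g₂) _).mpr h2
    have hb' : ((⟨ψ ⟨b, hb⟩, hψS _⟩ : S) : Ω) ∈ ψ.range := ⟨⟨b, hb⟩, rfl⟩
    have h' : (θ g₁)⁻¹ * θ g₂ ∈ DQ hgen x₀ ψ.range := (mem_DQ hgen x₀ _ _).mpr ⟨_, hb', h3⟩
    refine ⟨h', ?_⟩
    rw [hϕ'def, hϕdef, phiD_apply hgen x₀ hRS μ ⟨_, h'⟩ _ hb' h3,
      phiD_apply hgen x₀ hQS (μ.comp ψ.rangeRestrict) ⟨_, h⟩ b hb hpt]
    show μ _ = μ _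
    congr 1
    apply Subtype.ext
    show (ψ ⟨b, hb⟩)⁻¹ = ψ ⟨(b : Ω)⁻¹, Q.inv_mem hb⟩
    rw [← map_inv]
    rfl
  -- (1')
  have P1' : ∀ g₁ g₂ : ParkGroup m, (θ g₁)⁻¹ * θ g₂ ∈ DQ hgen x₀ ψ.range →
      g₁⁻¹ * g₂ ∈ DQ hgen x₀ Q := by
    intro g₁ g₂ h
    obtain ⟨b', hb', hpt⟩ := (mem_DQ hgen x₀ _ _).mp h
    obtain ⟨q, hq⟩ := hb'
    have hpt' := (conj_pt x₀ (θ g₁) (θ g₂) b').mp hpt
    rw [hθ, hθ] at hpt'
    have e : b' = (⟨ψ q, hψS q⟩ : S) := Subtype.ext hq.symm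
    rw [e, ← hf 1 q _] at hpt'
    have h4 := f.injective hpt'
    exact (mem_DQ hgen x₀ Q _).mpr ⟨_, q.2, (conj_pt x₀ g₁ g₂ _).mpr h4⟩
  -- (2)
  have P2 : ∀ (a : S) (g : ParkGroup m),
      ∃ h' : (θ (parkι m a * g))⁻¹ * (parkι m a * θ g) ∈ DQ hgen x₀ ψ.range,
        ϕ' ⟨_, h'⟩ = 1 := by
    intro a g
    have hpt : (parkι m a * θ g : ParkGroup m).1 x₀ =
        (((1 : S), (1 : S)) : S × S) • ((θ (parkι m a * g)).1 x₀) := by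
      rw [one_smul', hθ]
      show (parkι m a).1 ((θ g).1 x₀) = f ((parkι m a).1 (g.1 x₀))
      rw [hθ, parkι_apply, parkι_apply]
      have h1 := hf a 1 (g.1 x₀)
      have e1 : (⟨((1 : Q) : Ω), hQS (1 : Q).2⟩ : S) = 1 := rfl
      have e2 : (⟨ψ (1 : Q), hψS 1⟩ : S) = 1 := Subtype.ext (map_one ψ)
      rw [e1, e2] at h1
      exact h1.symm
    have h3 := (conj_pt x₀ (θ (parkι m a * g)) (parkι m a * θ g) 1).mpr hpt
    have hb' : (((1 : S) : S) : Ω) ∈ ψ.range := ψ.range.one_mem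
    have h' : (θ (parkι m a * g))⁻¹ * (parkι m a * θ g) ∈ DQ hgen x₀ ψ.range :=
      (mem_DQ hgen x₀ _ _).mpr ⟨1, hb', h3⟩
    refine ⟨h', ?_⟩
    rw [hϕ'def, phiD_apply hgen x₀ hRS μ ⟨_, h'⟩ 1 hb' h3]
    have e : (⟨(((1 : S) : S) : Ω)⁻¹, ψ.range.inv_mem hb'⟩ : ψ.range) = 1 := by
      apply Subtype.ext
      simp
    rw [e, map_one]
  -- sections
  letI : Fintype (ParkGroup m ⧸ DQ hgen x₀ Q) := Fintype.ofFinite _
  letI : Fintype (ParkGroup m ⧸ DQ hgen x₀ ψ.range) := Fintype.ofFinite _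
  obtain ⟨s, hs⟩ : ∃ s : ParkGroup m ⧸ DQ hgen x₀ Q → ParkGroup m,
      ∀ q, ((s q : ParkGroup m) : ParkGroup m ⧸ DQ hgen x₀ Q) = q :=
    ⟨Quotient.out, Quotient.out_eq'⟩
  obtain ⟨θb, hθb⟩ : ∃ θb : ParkGroup m ⧸ DQ hgen x₀ Q → ParkGroup m ⧸ DQ hgen x₀ ψ.range,
      ∀ q, θb q = ((θ (s q) : ParkGroup m) : ParkGroup m ⧸ DQ hgen x₀ ψ.range) := ⟨_, fun q => rfl⟩
  have hA : ∀ g : ParkGroup m, ((θ g : ParkGroup m) : ParkGroup m ⧸ DQ hgen x₀ ψ.range) =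
      θb ((g : ParkGroup m) : ParkGroup m ⧸ DQ hgen x₀ Q) := by
    intro g
    rw [hθb, QuotientGroup.eq]
    have h : g⁻¹ * s ((g : ParkGroup m) : ParkGroup m ⧸ DQ hgen x₀ Q) ∈ DQ hgen x₀ Q := by
      rw [← QuotientGroup.eq, hs]
    exact (P1 _ _ h).1
  have hinj : Function.Injective θb := by
    intro q q' h
    rw [hθb, hθb, QuotientGroup.eq] at h
    have h2 := P1' _ _ h
    rw [← QuotientGroup.eq, hs, hs] at h2
    exact h2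
  have hsurj : Function.Surjective θb := by
    intro q'
    induction q' using QuotientGroup.induction_on with
    | H g' =>
    obtain ⟨g, hg⟩ := park_transitive hgen x₀ (f.symm (g'.1 x₀))
    refine ⟨(g : ParkGroup m ⧸ DQ hgen x₀ Q), ?_⟩
    rw [← hA, QuotientGroup.eq]
    refine (mem_DQ hgen x₀ _ _).mpr ⟨1, ψ.range.one_mem, ?_⟩
    rw [conj_pt, one_smul', hθ, hg, Equiv.apply_symm_apply]
  obtain ⟨E, hE⟩ : ∃ E : (ParkGroup m ⧸ DQ hgen x₀ Q) ≃ (ParkGroup m ⧸ DQ hgen x₀ ψ.range),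
      ∀ q, E q = θb q := ⟨Equiv.ofBijective θb ⟨hinj, hsurj⟩, fun q => rfl⟩
  obtain ⟨s', hs'def⟩ : ∃ s' : ParkGroup m ⧸ DQ hgen x₀ ψ.range → ParkGroup m,
      ∀ q', s' q' = θ (s (E.symm q')) := ⟨_, fun q' => rfl⟩
  have hs' : ∀ q', ((s' q' : ParkGroup m) : ParkGroup m ⧸ DQ hgen x₀ ψ.range) = q' := by
    intro q'
    rw [hs'def, ← hθb, ← hE, Equiv.apply_symm_apply]
  have hB : ∀ (a : S) (q : ParkGroup m ⧸ DQ hgen x₀ Q), parkι m a • E q = E (parkι m a • q) := by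
    intro a q
    rw [hE, hE, hθb]
    have e1 : parkι m a • ((θ (s q) : ParkGroup m) : ParkGroup m ⧸ DQ hgen x₀ ψ.range) =
        ((parkι m a * θ (s q) : ParkGroup m) : ParkGroup m ⧸ DQ hgen x₀ ψ.range) := rfl
    rw [e1]
    have e2 : ((parkι m a * θ (s q) : ParkGroup m) : ParkGroup m ⧸ DQ hgen x₀ ψ.range) =
        ((θ (parkι m a * s q) : ParkGroup m) : ParkGroup m ⧸ DQ hgen x₀ ψ.range) := by
      symm
      rw [QuotientGroup.eq]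
      exact (P2 a (s q)).1
    rw [e2, hA]
    congr 1
    conv_rhs => rw [← hs q]
    rfl
  rw [transfer_eq_prod_sec (DQ hgen x₀ Q) ϕ s hs (parkι m u),
    transfer_eq_prod_sec (DQ hgen x₀ ψ.range) ϕ' s' hs' (parkι m u)]
  refine Fintype.prod_equiv E _ _ ?_
  intro q
  have hmem : (s (parkι m u • q))⁻¹ * (parkι m u * s q) ∈ DQ hgen x₀ Q := by
    have := sec_mem (DQ hgen x₀ Q) s hs (parkι m u) q
    rwa [mul_assoc] at this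
  obtain ⟨h1', hv1⟩ := P1 _ _ hmem
  obtain ⟨h2', hv2⟩ := P2 u (s q)
  have hX : (s' (parkι m u • E q))⁻¹ * parkι m u * s' (E q) =
      ((θ (s (parkι m u • q)))⁻¹ * θ (parkι m u * s q)) *
        ((θ (parkι m u * s q))⁻¹ * (parkι m u * θ (s q))) := by
    rw [hs'def, hs'def, hB, Equiv.symm_apply_apply, Equiv.symm_apply_apply]
    group
  rw [phi_congr ϕ' (sec_mem (DQ hgen x₀ ψ.range) s' hs' (parkι m u) (E q)) hX
    ((DQ hgen x₀ ψ.range).mul_mem h1' h2')]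
  have hmul : ϕ' ⟨_, (DQ hgen x₀ ψ.range).mul_mem h1' h2'⟩ = ϕ' ⟨_, h1'⟩ * ϕ' ⟨_, h2'⟩ := by
    rw [← map_mul]
    rfl
  rw [hmul, hv1, hv2, mul_one]
  exact phi_congr ϕ _ (mul_assoc _ _ _) _

end Cfsg.Agent.Lib.Helper34.Tate
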