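import Cfsg.Agent.Lib.Helper34.TateRS2

set_option autoImplicit false

/-!
# Tate's theorem for fusion systems: right stability of the transfer of the characteristic biset
-/

namespace Cfsg.Agent.Lib.Helper34.Tate

open Cfsg Cfsg.FusionSystem MulAction
open Cfsg.Agent.Lib.Helper88
open Cfsg.Agent.Lib.Helper87 (hom_le hom_mem_S inv_exists)

variable {Ω : Type*} [Group Ω] {S : Subgroup Ω}

set_option maxHeartbeats 1600000 in
/-- a stable biset has an automorphism twisted on the right by a map of the system -/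
theorem exists_right_twist [Finite S] (F : FusionSystem S) (m : Subgroup (S × S) → ℕ)
    (hgen : Gen F m) (hstab : StabGe F m 0) {Q : Subgroup Ω} {ψ : Q →* Ω} (hψ : ψ ∈ F.Hom Q) :
    ∃ f : OrbSum m ≃ OrbSum m, ∀ (a : S) (q : Q) (x : OrbSum m),
      f (((a, (⟨(q : Ω), hom_le F hψ q.2⟩ : S)) : S × S) • x) =
        ((a, (⟨ψ q, hom_mem_S F hψ q⟩ : S)) : S × S) • f x := by
  have hQS := hom_le F hψ
  have hψS := hom_mem_S F hψ
  haveI : Finite Q := Finite.of_injective _ (Subgroup.inclusion_injective hQS)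
  let j₁ : ↥S × ↥Q →* ↥S × ↥S := (MonoidHom.id S).prodMap (Subgroup.inclusion hQS)
  let j₂ : ↥S × ↥Q →* ↥S × ↥S := (MonoidHom.id S).prodMap (ψ.codRestrict S hψS)
  have hj₁ : ∀ k : ↥S × ↥Q, j₁ k = (k.1, (⟨(k.2 : Ω), hQS k.2.2⟩ : S)) := fun k => rfl
  have hj₂ : ∀ k : ↥S × ↥Q, j₂ k = (k.1, (⟨ψ k.2, hψS k.2⟩ : S)) := fun k => rfl
  have hA : ∀ V : Subgroup (↥S × ↥Q), InTw F (V.map j₁) →
      InTw F (V.map j₂) ∧ F.IsConj (pr1 (V.map j₁)) (pr1 (V.map j₂)) := by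
    rintro V ⟨R, χ, hχ, hD⟩
    have hRS := hom_le F hχ
    have hχQ : ∀ r : R, χ r ∈ Q := by
      intro r
      obtain ⟨k, -, hk⟩ := (hD (⟨r, hRS r.2⟩, ⟨χ r, hom_mem_S F hχ r⟩)).mpr ⟨r, rfl, rfl⟩
      have : ((k.2 : Q) : Ω) = χ r := congrArg (fun g : S × S => (g.2 : Ω)) hk
      rw [← this]
      exact k.2.2
    refine InTw.transport F hχ hD (Cfsg.Agent.Lib.Helper87.subtype_mem F (le_refl S)) hψ hRS hχQ fun g' => ?_
    constructor
    · rintro ⟨k, hk, rfl⟩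
      obtain ⟨r, hr1, hr2⟩ := (hD _).mp ⟨k, hk, rfl⟩
      refine ⟨r, hr1, ?_⟩
      show ψ ⟨χ r, _⟩ = ψ k.2
      congr 1
      exact Subtype.ext hr2
    · rintro ⟨r, h1, h2⟩
      obtain ⟨k, hk, hk2⟩ := (hD (⟨r, hRS r.2⟩, ⟨χ r, hom_mem_S F hχ r⟩)).mpr ⟨r, rfl, rfl⟩
      refine ⟨k, hk, ?_⟩
      have e1 : ((k.1 : S) : Ω) = r := congrArg (fun g : S × S => (g.1 : Ω)) hk2
      have e2 : ((k.2 : Q) : Ω) = χ r := congrArg (fun g : S × S => (g.2 : Ω)) hk2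
      apply Prod.ext
      · apply Subtype.ext
        rw [← h1]
        exact e1
      · apply Subtype.ext
        rw [← h2]
        show ψ k.2 = ψ ⟨χ r, _⟩
        congr 1
        exact Subtype.ext e2
  have hB : ∀ V : Subgroup (↥S × ↥Q), InTw F (V.map j₂) → InTw F (V.map j₁) := by
    rintro V ⟨R, χ, hχ, hD⟩
    have hRS := hom_le F hχ
    obtain ⟨ρ, hρ, hρinv, -⟩ := inv_exists F hψ rfl
    have hχR : ∀ r : R, χ r ∈ ψ.range := by
      intro r
      obtain ⟨k, -, hk⟩ := (hD (⟨r, hRS r.2⟩, ⟨χ r, hom_mem_S F hχ r⟩)).mpr ⟨r, rfl, rfl⟩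
      have : ψ k.2 = χ r := congrArg (fun g : S × S => (g.2 : Ω)) hk
      rw [← this]
      exact ⟨_, rfl⟩
    refine (InTw.transport F hχ hD (Cfsg.Agent.Lib.Helper87.subtype_mem F (le_refl S)) hρ hRS hχR fun g' => ?_).1
    constructor
    · rintro ⟨k, hk, rfl⟩
      obtain ⟨r, hr1, hr2⟩ := (hD _).mp ⟨k, hk, rfl⟩
      refine ⟨r, hr1, ?_⟩
      have e : (⟨χ r, hχR r⟩ : ψ.range) = ⟨ψ k.2, ⟨_, rfl⟩⟩ := Subtype.ext hr2
      rw [e]
      exact hρinv k.2 ⟨_, rfl⟩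
    · rintro ⟨r, h1, h2⟩
      obtain ⟨k, hk, hk2⟩ := (hD (⟨r, hRS r.2⟩, ⟨χ r, hom_mem_S F hχ r⟩)).mpr ⟨r, rfl, rfl⟩
      refine ⟨k, hk, ?_⟩
      have e1 : ((k.1 : S) : Ω) = r := congrArg (fun g : S × S => (g.1 : Ω)) hk2
      have e2 : ψ k.2 = χ r := congrArg (fun g : S × S => (g.2 : Ω)) hk2
      apply Prod.ext
      · apply Subtype.ext
        rw [← h1]
        exact e1
      · apply Subtype.ext
        rw [← h2]
        have e : (⟨χ r, hχR r⟩ : ψ.range) = ⟨ψ k.2, ⟨_, rfl⟩⟩ := Subtype.ext e2.symm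
        rw [e]
        exact (hρinv k.2 ⟨_, rfl⟩).symm
  have hmarks : ∀ V : Subgroup (↥S × ↥Q),
      mkCount (V.map j₁) (OrbSum m) = mkCount (V.map j₂) (OrbSum m) := by
    intro V
    by_cases h1 : InTw F (V.map j₁)
    · obtain ⟨h2, h3⟩ := hA V h1
      exact hstab _ _ h1 h2 (Nat.zero_le _) h3
    · have h2 : ¬ InTw F (V.map j₂) := fun h2 => h1 (hB V h2)
      have e1 : mark m (V.map j₁) = 0 := by
        by_contra hne
        exact h1 (inTw_of_mark_ne_zero hgen hne)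
      have e2 : mark m (V.map j₂) = 0 := by
        by_contra hne
        exact h2 (inTw_of_mark_ne_zero hgen hne)
      exact e1.trans e2.symm
  obtain ⟨f, hf⟩ := exists_equiv_of_hom j₁ j₂ hmarks
  refine ⟨f, fun a q x => ?_⟩
  have := hf (a, q) x
  rw [hj₁, hj₂] at this
  exact this

/-- **Right stability** of the transfer of the characteristic biset -/
theorem bisetTransfer_right_stable [Finite S] (F : FusionSystem S) (m : Subgroup (S × S) → ℕ)
    (hgen : Gen F m) (hstab : StabGe F m 0) (x₀ : OrbSum m) {Q : Subgroup Ω} {ψ : Q →* Ω}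
    (hψ : ψ ∈ F.Hom Q) {A : Type*} [CommGroup A] (μ : ψ.range →* A) :
    bisetTransfer hgen x₀ (cor (hom_le F hψ) (μ.comp ψ.rangeRestrict)) =
      bisetTransfer hgen x₀ (cor (range_le F hψ) μ) := by
  ext u
  obtain ⟨f, hf⟩ := exists_right_twist F m hgen hstab hψ
  rw [bisetTransfer_cor, bisetTransfer_cor]
  exact rs_compare hgen x₀ hψ μ f hf u

end Cfsg.Agent.Lib.Helper34.Tate
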