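import Cfsg.Agent.Lib.Helper34.TateMF

set_option autoImplicit false

/-!
# Tate's theorem for fusion systems: the transfer operator of a saturated fusion system
-/

namespace Cfsg.Agent.Lib.Helper34.Tate

open Cfsg Cfsg.FusionSystem MulAction
open Cfsg.Agent.Lib.Helper88
open Cfsg.Agent.Lib.Helper87 (hom_le hom_mem_S)
open Cfsg.Agent.Lib.Helper34.Yoshida

variable {Ω : Type*} [Group Ω] {S : Subgroup Ω}

theorem parkϕ_mul {F : FusionSystem S} {m : Subgroup (S × S) → ℕ} (hgen : Gen F m)
    (x₀ : OrbSum m) {A : Type*} [CommGroup A] (lam mu : S →* A) :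
    parkϕ hgen x₀ (lam * mu) = parkϕ hgen x₀ lam * parkϕ hgen x₀ mu := by
  ext g
  rw [parkϕ_eq_comp_rho, parkϕ_eq_comp_rho, parkϕ_eq_comp_rho]
  rfl

theorem bisetTransfer_mul [Finite S] {F : FusionSystem S} {m : Subgroup (S × S) → ℕ}
    (hgen : Gen F m) (x₀ : OrbSum m) {A : Type*} [CommGroup A] (lam mu : S →* A) :
    bisetTransfer hgen x₀ (lam * mu) = bisetTransfer hgen x₀ lam * bisetTransfer hgen x₀ mu := by
  ext u
  unfold bisetTransfer
  rw [MonoidHom.mul_apply, MonoidHom.comp_apply, MonoidHom.comp_apply, MonoidHom.comp_apply,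
    parkϕ_mul, transfer_mul]

/-- the corestriction of a restriction is a power -/
theorem cor_restrict [Finite S] {A : Type*} [CommGroup A] {Q : Subgroup Ω} (hQ : Q ≤ S)
    (lam : S →* A) : cor hQ (lam.comp (Subgroup.inclusion hQ)) = lam ^ (Q.subgroupOf S).index := by
  ext u
  unfold cor
  have e : (lam.comp (Subgroup.inclusion hQ)).comp (Subgroup.subgroupOfEquivOfLe hQ).toMonoidHom =
      lam.comp (Q.subgroupOf S).subtype := by
    ext x
    rfl
  rw [e, transfer_restrict, MonoidHom.pow_apply]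

theorem index_range_eq [Finite S] (F : FusionSystem S) {Q : Subgroup Ω} {ψ : Q →* Ω}
    (hψ : ψ ∈ F.Hom Q) : (ψ.range.subgroupOf S).index = (Q.subgroupOf S).index := by
  have hQS := hom_le F hψ
  have hRS := range_le F hψ
  have h1 : Nat.card (ψ.range.subgroupOf S) = Nat.card (Q.subgroupOf S) := by
    rw [Nat.card_congr (Subgroup.subgroupOfEquivOfLe hRS).toEquiv,
      Nat.card_congr (Subgroup.subgroupOfEquivOfLe hQS).toEquiv]
    exact (Nat.card_congr (MonoidHom.ofInjective (F.injective_of_mem hψ)).toEquiv).symm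
  have h2 := Subgroup.index_mul_card (ψ.range.subgroupOf S)
  have h3 := Subgroup.index_mul_card (Q.subgroupOf S)
  have hpos : 0 < Nat.card (Q.subgroupOf S) := Nat.card_pos
  rw [h1] at h2
  exact Nat.eq_of_mul_eq_mul_right hpos (h2.trans h3.symm)

set_option maxHeartbeats 1600000 in
/-- the Mackey formula for the transfer of the biset -/
theorem mackey_formula [Finite S] {F : FusionSystem S} {m : Subgroup (S × S) → ℕ}
    (hgen : Gen F m) (x₀ : OrbSum m) (A : Type*) [CommGroup A]
    [Fintype (Quotient (MulAction.orbitRel (parkι m).range (ParkGroup m ⧸ parkStab m x₀)))] :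
    ∃ (Q : Quotient (MulAction.orbitRel (parkι m).range (ParkGroup m ⧸ parkStab m x₀)) →
        Subgroup Ω) (ψ : ∀ i, Q i →* Ω) (hψ : ∀ i, ψ i ∈ F.Hom (Q i)),
      ∑ i, ((Q i).subgroupOf S).index = (parkStab m x₀).index ∧
      ∀ (lam : S →* A),
        bisetTransfer hgen x₀ lam =
          ∏ i, cor (hom_le F (hψ i)) (lam.comp ((ψ i).codRestrict S (hom_mem_S F (hψ i)))) := by
  classical
  choose Q ψ hψ hidx hval using fun ω : Quotient (MulAction.orbitRel (parkι m).range
    (ParkGroup m ⧸ parkStab m x₀)) => mackey_factor hgen x₀ A (Quotient.out ω)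
  refine ⟨Q, ψ, hψ, ?_, ?_⟩
  · rw [← sum_index_stabilizer (parkStab m x₀) (parkι m).range]
    exact Finset.sum_congr rfl (fun ω _ => (hidx ω).symm)
  · intro lam
    ext u
    have hm := mackey_transfer (parkStab m x₀) (parkι m).range (parkϕ hgen x₀ lam)
      ⟨parkι m u, ⟨u, rfl⟩⟩
    unfold bisetTransfer
    rw [MonoidHom.comp_apply]
    have hm' : MonoidHom.transfer (parkϕ hgen x₀ lam) (parkι m u) = _ := hm
    rw [hm', MonoidHom.finsetProd_apply]
    exact Finset.prod_congr rfl (fun ω _ => hval ω lam u)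

set_option maxHeartbeats 1600000 in
/-- **[T1]** the transfer operator of a saturated fusion system -/
theorem exists_transfer [Finite S] {p : ℕ} [Fact p.Prime] (hS : IsPGroup p S)
    (F : FusionSystem S) (hF : F.IsSaturated p) (A : Type*) [CommGroup A] :
    ∃ (n : ℕ) (τ : (S →* A) →* (S →* A)), ¬ p ∣ n ∧ (∀ lam : S →* A, Stab F (τ lam)) ∧
      (∀ lam : S →* A, Stab F lam → τ lam = lam ^ n) ∧
      (∀ lam : S →* A, lam ^ n / τ lam ∈ Kgen F A) ∧
      ∀ k ∈ Kgen F A, τ k = 1 := by
  classical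
  obtain ⟨m, hgen, hstab, ⟨n', hcard, hn'⟩, x₀, -⟩ := exists_char_biset_pt hS F hF
  letI : Fintype (Quotient (MulAction.orbitRel (parkι m).range (ParkGroup m ⧸ parkStab m x₀))) :=
    Fintype.ofFinite _
  obtain ⟨Q, ψ, hψ, hsum, hform⟩ := mackey_formula hgen x₀ A
  have hidx : (parkStab m x₀).index = n' := by
    have h1 := index_parkStab hgen x₀
    rw [hcard] at h1
    exact Nat.eq_of_mul_eq_mul_right Nat.card_pos h1
  obtain ⟨τ, hτ⟩ : ∃ τ : (S →* A) →* (S →* A), ∀ lam, τ lam = bisetTransfer hgen x₀ lam :=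
    ⟨MonoidHom.mk' (fun lam => bisetTransfer hgen x₀ lam) (bisetTransfer_mul hgen x₀),
      fun lam => rfl⟩
  refine ⟨(parkStab m x₀).index, τ, by rw [hidx]; exact hn', ?_, ?_, ?_, ?_⟩
  · intro lam P φ hφ v
    rw [hτ]
    exact bisetTransfer_map F hgen hstab x₀ lam (hom_le F hφ) hφ v
  · intro lam hlam
    rw [hτ, hform, ← hsum, ← Finset.prod_pow_eq_pow_sum]
    refine Finset.prod_congr rfl (fun i _ => ?_)
    rw [← cor_restrict (hom_le F (hψ i)) lam]
    congr 1
    ext v
    exact hlam (Q i) (ψ i) (hψ i) v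
  · intro lam
    rw [hτ, hform, ← hsum, ← Finset.prod_pow_eq_pow_sum, ← Finset.prod_div_distrib]
    refine Subgroup.prod_mem _ (fun i _ => ?_)
    have hgenmem : cor (hom_le F (hψ i))
        ((lam.comp (Subgroup.inclusion (range_le F (hψ i)))).comp (ψ i).rangeRestrict) /
        cor (range_le F (hψ i)) (lam.comp (Subgroup.inclusion (range_le F (hψ i)))) ∈ Kgen F A :=
      Subgroup.subset_closure ⟨Q i, ψ i, hψ i, _, rfl⟩
    have h2 := (Kgen F A).inv_mem hgenmem
    rw [inv_div, cor_restrict, index_range_eq F (hψ i)] at h2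
    exact h2
  · intro k hk
    induction hk using Subgroup.closure_induction with
    | mem k hk =>
      obtain ⟨Q', ψ', hψ', μ, rfl⟩ := hk
      rw [map_div, hτ, hτ, bisetTransfer_right_stable F m hgen hstab x₀ hψ' μ, div_self']
    | one => exact map_one τ
    | mul a b _ _ ha hb => rw [map_mul, ha, hb, one_mul]
    | inv a _ ha => rw [map_inv, ha, inv_one]

end Cfsg.Agent.Lib.Helper34.Tate
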