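import Cfsg.Agent.Lib.Helper34.TateT1
import Cfsg.Agent.Lib.Helper80.TateT9
import Cfsg.Agent.Lib.Helper80.TateT17
import Cfsg.Agent.Lib.Helper79.TateT2
import Cfsg.Agent.Lib.Helper71.TateT3
import Cfsg.Agent.Lib.Helper48.TateT4
import Cfsg.Agent.Lib.Helper48.TateT5
import Cfsg.Agent.Lib.Helper87.TateT6
import Cfsg.Agent.S5092
import Cfsg.Agent.Lib.Helper85.Hyperfocal

set_option autoImplicit false

/-!
# Tate's theorem for fusion systems: the descent step, preliminaries
-/

namespace Cfsg.Agent.Lib.Helper34.Tate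

open Cfsg Cfsg.FusionSystem
open Cfsg.Agent.Lib.Helper87 (hom_le hom_mem_S)
open scoped commutatorElement

variable {Ω : Type*} [Group Ω] {S : Subgroup Ω}

theorem stab_mul (F : FusionSystem S) {A : Type*} [CommGroup A] {a b : S →* A}
    (ha : Stab F a) (hb : Stab F b) : Stab F (a * b : S →* A) := by
  intro Q ψ hψ v
  rw [MonoidHom.mul_apply, MonoidHom.mul_apply, ha Q ψ hψ v, hb Q ψ hψ v]

theorem stab_inv (F : FusionSystem S) {A : Type*} [CommGroup A] {a : S →* A}
    (ha : Stab F a) : Stab F (a⁻¹ : S →* A) := by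
  intro Q ψ hψ v
  rw [MonoidHom.inv_apply, MonoidHom.inv_apply, ha Q ψ hψ v]

theorem stab_div (F : FusionSystem S) {A : Type*} [CommGroup A] {a b : S →* A}
    (ha : Stab F a) (hb : Stab F b) : Stab F (a / b : S →* A) := by
  rw [div_eq_mul_inv]
  exact stab_mul F ha (stab_inv F hb)

theorem stab_pow (F : FusionSystem S) {A : Type*} [CommGroup A] {a : S →* A}
    (ha : Stab F a) (n : ℕ) : Stab F (a ^ n : S →* A) := by
  intro Q ψ hψ v
  rw [MonoidHom.pow_apply, MonoidHom.pow_apply, ha Q ψ hψ v]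

theorem stab_of_subsystem {F H : FusionSystem S} (hHF : H.IsSubsystemOf F) {A : Type*}
    {lam : S → A} (h : Stab F lam) : Stab H lam := by
  intro Q ψ hψ v
  exact h Q ψ (hHF Q hψ) v

/-- stable characters are those killing the hyperfocal subgroup -/
theorem stab_iff_hyp [Finite S] {p : ℕ} [Fact p.Prime] (hS : IsPGroup p S)
    (F : FusionSystem S) (hF : F.IsSaturated p) {A : Type*} [CommGroup A] (lam : S →* A) :
    Stab F lam ↔ ∀ (x : Ω) (_ : x ∈ F.hyperfocalSubgroup p) (hxS : x ∈ S), lam ⟨x, hxS⟩ = 1 := by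
  rw [stab_iff_focal]
  have hfoc := Cfsg.Agent.S5092.result p hS F hF
  constructor
  · intro h x hx hxS
    exact h x (by rw [hfoc]; exact Subgroup.mem_sup_left hx) hxS
  · intro h x hx hxS
    have hle : F.focalSubgroup ≤ (lam.ker).map S.subtype := by
      rw [hfoc]
      apply sup_le
      · intro y hy
        have hyS : y ∈ S := Cfsg.Agent.Lib.Helper85.hyperfocal_le F p hy
        exact ⟨⟨y, hyS⟩, h y hy hyS, rfl⟩
      · rw [Subgroup.commutator_le]
        intro a ha b hb
        have hmem : ⁅a, b⁆ ∈ S := by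
          rw [commutatorElement_def]
          exact S.mul_mem (S.mul_mem (S.mul_mem ha hb) (S.inv_mem ha)) (S.inv_mem hb)
        refine ⟨⟨⁅a, b⁆, hmem⟩, ?_, rfl⟩
        have e : (⟨⁅a, b⁆, hmem⟩ : S) = ⁅(⟨a, ha⟩ : S), (⟨b, hb⟩ : S)⁆ := by
          apply Subtype.ext
          rfl
        show lam _ = 1
        rw [e, map_commutatorElement]
        exact commutatorElement_eq_one_iff_commute.mpr (Commute.all _ _)
    obtain ⟨y, hy, hyx⟩ := hle hx
    have : y = ⟨x, hxS⟩ := Subtype.ext hyx
    rw [← this]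
    exact hy

theorem cj_symm (T : Subgroup Ω) (g : Ω) (hg : g ∈ Subgroup.normalizer (T : Set Ω)) :
    (cj T g hg).symm = cj T g⁻¹ (Subgroup.inv_mem _ hg) := by
  ext t
  show g⁻¹ * (t : Ω) * g = g⁻¹ * t * g⁻¹⁻¹
  rw [inv_inv]

theorem cj_mul (T : Subgroup Ω) (g h : Ω) (hg : g ∈ Subgroup.normalizer (T : Set Ω))
    (hh : h ∈ Subgroup.normalizer (T : Set Ω)) :
    cj T (g * h) (Subgroup.mul_mem _ hg hh) = (cj T h hh).trans (cj T g hg) := by
  ext t
  show g * h * (t : Ω) * (g * h)⁻¹ = g * (h * t * h⁻¹) * g⁻¹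
  group

theorem cj_one (T : Subgroup Ω) : cj T 1 (Subgroup.one_mem _) = MulEquiv.refl T := by
  ext t
  show 1 * (t : Ω) * 1⁻¹ = t
  group

/-- the action of the normalizer of `T` on the characters of `T` -/
def actHom (T : Subgroup Ω) (A : Type*) [CommGroup A] :
    Subgroup.normalizer (T : Set Ω) →* MulAut (T →* A) where
  toFun g :=
    { toFun := fun k => k.comp (cj T g g.2).symm.toMonoidHom
      invFun := fun k => k.comp (cj T g g.2).toMonoidHom
      left_inv := fun k => by
        ext t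
        simp
      right_inv := fun k => by
        ext t
        simp
      map_mul' := fun a b => by
        ext t
        rfl }
  map_one' := by
    ext k t
    show k ((cj T 1 _).symm t) = k t
    rw [cj_one]
    rfl
  map_mul' g h := by
    ext k t
    show k ((cj T (g * h) _).symm t) = k ((cj T h h.2).symm ((cj T g g.2).symm t))
    rw [cj_mul T g h g.2 h.2]
    rfl

theorem actHom_apply (T : Subgroup Ω) (A : Type*) [CommGroup A]
    (g : Subgroup.normalizer (T : Set Ω)) (k : T →* A) :
    actHom T A g k = k.comp (cj T g g.2).symm.toMonoidHom := rfl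

end Cfsg.Agent.Lib.Helper34.Tate
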