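import Cfsg.Agent.Lib.Helper34.TateTD1
import Cfsg.Agent.Lib.Helper2.HomFp

set_option autoImplicit false

/-!
# Tate's theorem for fusion systems: the descent step
-/

namespace Cfsg.Agent.Lib.Helper34.Tate

open Cfsg Cfsg.FusionSystem
open Cfsg.Agent.Lib.Helper87 (hom_le hom_mem_S)
open scoped commutatorElement

variable {Ω : Type*} [Group Ω] {S : Subgroup Ω}

theorem eq_one_of_pow_coprime {p m : ℕ} (hp : p.Prime) (hm : ¬ p ∣ m) {M : Type*} [Group M] (a : M)
    (h1 : a ^ m = 1) (h2 : a ^ p = 1) : a = 1 := by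
  have hc : Nat.Coprime m p := ((Nat.Prime.coprime_iff_not_dvd hp).mpr hm).symm
  have := Nat.dvd_gcd (orderOf_dvd_of_pow_eq_one h1) (orderOf_dvd_of_pow_eq_one h2)
  rw [hc] at this
  exact orderOf_eq_one_iff.mp (Nat.dvd_one.mp this)

set_option maxHeartbeats 1600000 in
/-- the core of the descent: characters of `T` killing `hyp(H)` kill `hyp(F)` -/
theorem core_claim [Finite S] {p : ℕ} [Fact p.Prime] (hS : IsPGroup p S)
    (F H : FusionSystem S) (hF : F.IsSaturated p) (hH : H.IsSaturated p)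
    (hhyp : H.hyperfocalSubgroup p ≤ F.hyperfocalSubgroup p)
    (hfoc : ∀ lam : S →* Multiplicative (ZMod p), Stab H lam → Stab F lam)
    {T : Subgroup Ω} (hTS : T ≤ S) (hidx : (T.subgroupOf S).index = p)
    (hfocT : F.focalSubgroup ≤ T) (hnorm : S ≤ Subgroup.normalizer (T : Set Ω))
    (EF : FusionSystem T) (hEFs : EF.IsSaturated p) (hEFsub : EF.IsSubsystemOf F)
    (hEFhyp : EF.hyperfocalSubgroup p = F.hyperfocalSubgroup p) (hEFinv : EF.IsInvariantIn F)
    (lam : T →* Multiplicative (ZMod p))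
    (hlam : ∀ (x : Ω) (_ : x ∈ H.hyperfocalSubgroup p) (hxT : x ∈ T), lam ⟨x, hxT⟩ = 1) :
    ∀ (x : Ω) (_ : x ∈ F.hyperfocalSubgroup p) (hxT : x ∈ T), lam ⟨x, hxT⟩ = 1 := by
  classical
  have hp : p.Prime := Fact.out
  haveI : Finite T := Finite.of_injective _ (Subgroup.inclusion_injective hTS)
  have hT : IsPGroup p T := hS.to_le hTS
  obtain ⟨A, hAdef⟩ : ∃ A : Type, A = Multiplicative (ZMod p) := ⟨_, rfl⟩
  have hA : ∀ a : Multiplicative (ZMod p), a ^ p = 1 := Cfsg.Agent.Lib.Helper2.pow_p_eq_one_Fp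
  obtain ⟨n, τ, hn, hτstab, hτpow, hτK, hτkill⟩ :=
    exists_transfer hT EF hEFs (Multiplicative (ZMod p))
  obtain ⟨nF, τF, hnF, -, hτFpow, -, hτFkill⟩ :=
    exists_transfer hS F hF (Multiplicative (ZMod p))
  have hhypT : F.hyperfocalSubgroup p ≤ T := by
    refine le_trans ?_ hfocT
    rw [Cfsg.Agent.S5092.result p hS F hF]
    exact le_sup_left
  have hstabEF : ∀ k : T →* Multiplicative (ZMod p), Stab EF k ↔
      ∀ (x : Ω) (_ : x ∈ F.hyperfocalSubgroup p) (hxT : x ∈ T), k ⟨x, hxT⟩ = 1 := by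
    intro k
    rw [stab_iff_hyp hT EF hEFs k, hEFhyp]
  -- the subgroup `U`
  let U : Subgroup (T →* Multiplicative (ZMod p)) :=
    { carrier := {k | k ∈ Kgen EF (Multiplicative (ZMod p)) ∧
        ∀ (x : Ω) (_ : x ∈ H.hyperfocalSubgroup p) (hxT : x ∈ T), k ⟨x, hxT⟩ = 1}
      one_mem' := ⟨Subgroup.one_mem _, fun x _ hxT => rfl⟩
      mul_mem' := by
        rintro a b ⟨ha1, ha2⟩ ⟨hb1, hb2⟩
        refine ⟨Subgroup.mul_mem _ ha1 hb1, fun x hx hxT => ?_⟩
        rw [MonoidHom.mul_apply, ha2 x hx hxT, hb2 x hx hxT, one_mul]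
      inv_mem' := by
        rintro a ⟨ha1, ha2⟩
        refine ⟨Subgroup.inv_mem _ ha1, fun x hx hxT => ?_⟩
        rw [MonoidHom.inv_apply, ha2 x hx hxT, inv_one] }
  have hUmem : ∀ k, k ∈ U ↔ (k ∈ Kgen EF (Multiplicative (ZMod p)) ∧
      ∀ (x : Ω) (_ : x ∈ H.hyperfocalSubgroup p) (hxT : x ∈ T), k ⟨x, hxT⟩ = 1) := fun k => Iff.rfl
  -- the action of `S`
  obtain ⟨act, hact⟩ : ∃ act : S →* MulAut (T →* Multiplicative (ZMod p)),
      ∀ (g : S) (k : T →* Multiplicative (ZMod p)),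
        act g k = k.comp (cj T (g : Ω) (hnorm g.2)).symm.toMonoidHom :=
    ⟨(actHom T (Multiplicative (ZMod p))).comp (Subgroup.inclusion hnorm), fun g k => rfl⟩
  have hUinv : ∀ g : S, ∀ k ∈ U, act g k ∈ U := by
    rintro g k ⟨hk1, hk2⟩
    have hgN : (g : Ω) ∈ Subgroup.normalizer (T : Set Ω) := hnorm g.2
    have hact' : act g k = k.comp (cj T (g : Ω)⁻¹ (Subgroup.inv_mem _ hgN)).toMonoidHom := by
      rw [hact, cj_symm]
    rw [hUmem]
    constructor
    · rw [hact']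
      exact kgen_conj EF _ (g : Ω)⁻¹ _
        (conj_invariant_of_invariantIn F EF hEFinv (g : Ω)⁻¹ (S.inv_mem g.2)) k hk1
    · intro x hx hxT
      rw [hact']
      have hx' := Cfsg.Agent.Lib.Helper85.hyperfocal_conj_mem H p (S.inv_mem g.2) hx
      exact hk2 _ hx' _
  have hV : IsPGroup p (T →* Multiplicative (ZMod p)) := by
    intro k
    refine ⟨1, ?_⟩
    rw [pow_one]
    refine MonoidHom.ext fun t => ?_
    rw [MonoidHom.pow_apply, hA]
    rfl
  haveI : NeZero p := ⟨hp.ne_zero⟩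
  haveI : Finite (T →* Multiplicative (ZMod p)) :=
    Finite.of_injective (fun f : T →* Multiplicative (ZMod p) => (f : T → Multiplicative (ZMod p)))
      DFunLike.coe_injective
  have hUbot : U = ⊥ := by
    by_contra hne
    obtain ⟨k₀, hk₀U, hk₀ne, hk₀fix⟩ := exists_fixed_ne_one hS hV act U hUinv hne
    obtain ⟨hk₀K, hk₀H⟩ := hk₀U
    have hfix : ∀ (g : Ω) (hgS : g ∈ S), k₀.comp (cj T g (hnorm hgS)).toMonoidHom = k₀ := by
      intro g hgS
      have h2 : k₀.comp (cj T g (hnorm hgS)).symm.toMonoidHom = k₀ := by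
        rw [← hact ⟨g, hgS⟩ k₀]
        exact hk₀fix ⟨g, hgS⟩
      refine MonoidHom.ext fun t => ?_
      have h3 : k₀ ((cj T g (hnorm hgS)).symm ((cj T g (hnorm hgS)) t)) =
          k₀ ((cj T g (hnorm hgS)) t) := DFunLike.congr_fun h2 ((cj T g (hnorm hgS)) t)
      rw [MulEquiv.symm_apply_apply] at h3
      exact h3.symm
    have hpow : ∀ (x : Ω) (_ : x ∈ S) (hxp : x ^ p ∈ T), k₀ ⟨x ^ p, hxp⟩ = 1 :=
      fun x hx hxp => kgen_fixed_pow F hTS hidx hfocT EF hEFsub _ hA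
        ⟨nF, τF, hnF, hτFpow, hτFkill⟩ hnorm k₀ hk₀K hfix x hx hxp
    haveI hnormal : (T.subgroupOf S).Normal := by
      refine ⟨fun t ht g => ?_⟩
      rw [Subgroup.mem_subgroupOf] at ht ⊢
      exact (Subgroup.mem_normalizer_iff.mp (hnorm g.2) _).mp ht
    obtain ⟨K, hK⟩ := exists_extension (T.subgroupOf S) hidx
      (k₀.comp (Subgroup.subgroupOfEquivOfLe hTS).toMonoidHom)
      (fun g t => DFunLike.congr_fun (hfix g g.2) ((Subgroup.subgroupOfEquivOfLe hTS) t))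
      (fun g hg => hpow (g : Ω) g.2 (Subgroup.mem_subgroupOf.mp hg))
    have hKT : ∀ (x : Ω) (hxT : x ∈ T), K ⟨x, hTS hxT⟩ = k₀ ⟨x, hxT⟩ := by
      intro x hxT
      exact hK ⟨⟨x, hTS hxT⟩, Subgroup.mem_subgroupOf.mpr hxT⟩
    have hKH : Stab H K := by
      rw [stab_iff_hyp hS H hH K]
      intro x hx hxS
      have hxT : x ∈ T := hhypT (hhyp hx)
      rw [hKT x hxT]
      exact hk₀H x hx hxT
    have hKF := hfoc K hKH
    rw [stab_iff_hyp hS F hF K] at hKF
    have hk₀F : Stab EF k₀ := by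
      rw [hstabEF]
      intro x hx hxT
      rw [← hKT x hxT]
      exact hKF x hx (hTS hxT)
    have h4 := hτpow k₀ hk₀F
    rw [hτkill k₀ hk₀K] at h4
    apply hk₀ne
    refine eq_one_of_pow_coprime hp hn k₀ h4.symm ?_
    refine MonoidHom.ext fun t => ?_
    rw [MonoidHom.pow_apply, hA]
    rfl
  have hkU : lam ^ n / τ lam ∈ U := by
    rw [hUmem]
    refine ⟨hτK lam, fun x hx hxT => ?_⟩
    have h1 := (hstabEF (τ lam)).mp (hτstab lam) x (hhyp hx) hxT
    rw [MonoidHom.div_apply, MonoidHom.pow_apply, h1, hlam x hx hxT, one_pow, div_one]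
  rw [hUbot, Subgroup.mem_bot, div_eq_one] at hkU
  have h5 : Stab EF (lam ^ n) := by
    rw [hkU]
    exact hτstab lam
  rw [hstabEF] at h5
  intro x hx hxT
  have h6 := h5 x hx hxT
  rw [MonoidHom.pow_apply] at h6
  exact eq_one_of_pow_coprime hp hn _ h6 (hA _)

end Cfsg.Agent.Lib.Helper34.Tate
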