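import Cfsg.Agent.Lib.Helper34.TateTD2
import Cfsg.Agent.Lib.Helper85.PPowIter
import Cfsg.Agent.S5120
import Cfsg.Agent.Lib.Helper33.NormArg
import Cfsg.Agent.Lib.Helper2.HomFp2
import Cfsg.Agent.Lib.Helper2.PGroup

set_option autoImplicit false

/-!
# Tate's theorem for fusion systems: the descent
-/

namespace Cfsg.Agent.Lib.Helper34.Tate

open Cfsg Cfsg.FusionSystem
open Cfsg.Agent.Lib.Helper87 (hom_le hom_mem_S)
open Cfsg.Agent.Lib.Helper85.PPI (Step)
open scoped commutatorElement

universe u

variable {Ω : Type u} [Group Ω]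

set_option maxHeartbeats 1600000 in
theorem tate_aux (p : ℕ) [Fact p.Prime] (hstep : Step Ω p) :
    ∀ n : ℕ, ∀ (S : Subgroup Ω) [Finite S], Nat.card S = n → IsPGroup p S →
      ∀ F H : FusionSystem S, F.IsSaturated p → H.IsSaturated p →
        H.hyperfocalSubgroup p ≤ F.hyperfocalSubgroup p →
        (∀ lam : S →* Multiplicative (ZMod p), Stab H lam → Stab F lam) →
        F.hyperfocalSubgroup p ≤ H.hyperfocalSubgroup p := by
  intro n
  induction n using Nat.strong_induction_on with
  | _ n ih =>
  intro S _ hn hS F H hF hH hhyp hfoc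
  have hp : p.Prime := Fact.out
  have hfocF := Cfsg.Agent.S5092.result p hS F hF
  have hfocH := Cfsg.Agent.S5092.result p hS H hH
  by_cases hex : ∃ π : S →* Multiplicative (ZMod p), π ≠ 1 ∧ Stab F π
  · obtain ⟨π, hπ1, hπF⟩ := hex
    obtain ⟨T, hTdef⟩ : ∃ T : Subgroup Ω, T = π.ker.map S.subtype := ⟨_, rfl⟩
    have hTS : T ≤ S := by
      rw [hTdef]; exact Subgroup.map_subtype_le _
    have hsub : T.subgroupOf S = π.ker := by
      rw [hTdef, ← Subgroup.comap_subtype]
      exact Subgroup.comap_map_eq_self_of_injective S.subtype_injective _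
    have hmemT : ∀ (x : Ω) (hxS : x ∈ S), x ∈ T ↔ π ⟨x, hxS⟩ = 1 := by
      intro x hxS
      have : x ∈ T ↔ (⟨x, hxS⟩ : S) ∈ T.subgroupOf S := Iff.rfl
      rw [this, hsub, MonoidHom.mem_ker]
    have hidx : (T.subgroupOf S).index = p := by
      rw [hsub, Subgroup.index_ker]
      have hdvd : Nat.card π.range ∣ p := by
        have := Subgroup.card_subgroup_dvd_card π.range
        rwa [Cfsg.Agent.Lib.Helper2.card_Fp] at this
      rcases (Nat.dvd_prime hp).mp hdvd with h1 | h1
      · exfalso
        apply hπ1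
        have hbot : π.range = ⊥ := Subgroup.card_eq_one.mp h1
        refine MonoidHom.ext fun s => ?_
        have : π s ∈ π.range := ⟨s, rfl⟩
        rw [hbot, Subgroup.mem_bot] at this
        exact this
      · exact h1
    have hnorm : S ≤ Subgroup.normalizer (T : Set Ω) := by
      intro g hg
      rw [Subgroup.mem_normalizer_iff]
      intro x
      constructor
      · intro hx
        have hxS := hTS hx
        have hcS : g * x * g⁻¹ ∈ S := S.mul_mem (S.mul_mem hg hxS) (S.inv_mem hg)
        rw [hmemT _ hcS]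
        have e : (⟨g * x * g⁻¹, hcS⟩ : S) = ⟨g, hg⟩ * ⟨x, hxS⟩ * ⟨g, hg⟩⁻¹ := rfl
        rw [e, map_mul, map_mul, map_inv, (hmemT x hxS).mp hx, mul_one, mul_inv_cancel]
      · intro hx
        have hcS := hTS hx
        have hxS : x ∈ S := by
          have := S.mul_mem (S.mul_mem (S.inv_mem hg) hcS) hg
          have e : g⁻¹ * (g * x * g⁻¹) * g = x := by group
          rwa [e] at this
        rw [hmemT _ hxS]
        have h1 := (hmemT _ hcS).mp hx
        have e : (⟨g * x * g⁻¹, hcS⟩ : S) = ⟨g, hg⟩ * ⟨x, hxS⟩ * ⟨g, hg⟩⁻¹ := rfl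
        rw [e, map_mul, map_mul, map_inv, mul_comm (π ⟨g, hg⟩), mul_assoc, mul_inv_cancel,
          mul_one] at h1
        exact h1
    have hfocT : F.focalSubgroup ≤ T := by
      intro x hx
      have hxS := Cfsg.Agent.Lib.Helper54.FusFoc.focal_le_S F hx
      rw [hmemT x hxS]
      exact (stab_iff_focal F π).mp hπF x hx hxS
    have hhypFT : F.hyperfocalSubgroup p ≤ T :=
      le_trans (by rw [hfocF]; exact le_sup_left) hfocT
    have hfocHT : H.focalSubgroup ≤ T := by
      rw [hfocH]
      exact sup_le (hhyp.trans hhypFT) (le_trans (by rw [hfocF]; exact le_sup_right) hfocT)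
    haveI : Finite T := Finite.of_injective _ (Subgroup.inclusion_injective hTS)
    have hT : IsPGroup p T := hS.to_le hTS
    obtain ⟨EF, hEFs, hEFi⟩ := hstep S hS F hF T hTS hidx hfocT
    obtain ⟨EH, hEHs, hEHi⟩ := hstep S hS H hH T hTS hidx hfocHT
    have hEFhyp := hyperfocal_eq_of_ppower hS F hF hTS hfocT EF hEFs hEFi
    have hEHhyp := hyperfocal_eq_of_ppower hS H hH hTS hfocHT EH hEHs hEHi
    have hTn : (T.subgroupOf S).Normal := by
      rw [hsub]; infer_instance
    have hEFn := Cfsg.Agent.S5120.result p hS F hF T hTS hTn hhypFT EF hEFs hEFi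
    have hEFinv : EF.IsInvariantIn F := hEFn.1.2.2
    have hlt : Nat.card T < Nat.card S := by
      have h1 := Subgroup.index_mul_card (T.subgroupOf S)
      rw [hidx, Nat.card_congr (Subgroup.subgroupOfEquivOfLe hTS).toEquiv] at h1
      rw [← h1]
      have hpos : 0 < Nat.card T := Nat.card_pos
      nlinarith [hp.two_le]
    have key := ih (Nat.card T) (hn ▸ hlt) T rfl hT EF EH hEFs hEHs
      (by rw [hEFhyp, hEHhyp]; exact hhyp) (fun lam hlam => ?_)
    · rw [hEFhyp, hEHhyp] at key
      exact key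
    · rw [stab_iff_hyp hT EF hEFs lam, hEFhyp]
      rw [stab_iff_hyp hT EH hEHs lam, hEHhyp] at hlam
      exact core_claim hS F H hF hH hhyp hfoc hTS hidx hfocT hnorm EF hEFs hEFi.1 hEFhyp
        hEFinv lam hlam
  · -- no nontrivial stable character: the hyperfocal subgroup of `H` is `S`
    have hex' : ∀ π : S →* Multiplicative (ZMod p), Stab F π → π = 1 := by
      intro π hπ
      by_contra h1
      exact hex ⟨π, h1, hπ⟩
    have h1 : (H.focalSubgroup).subgroupOf S = ⊤ := by
      by_contra hne
      obtain ⟨E₁, hE₁n, hE₁i, hle⟩ := Cfsg.Agent.Lib.Helper33.exists_normal_index_p_ge hS _ hne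
      haveI := hE₁n
      obtain ⟨l, hl⟩ := Cfsg.Agent.Lib.Helper2.exists_hom_ker_eq E₁ hE₁i
      have hlH : Stab H l := by
        rw [stab_iff_focal]
        intro x hx hxS
        have : (⟨x, hxS⟩ : S) ∈ l.ker := by
          rw [hl]
          exact hle (Subgroup.mem_subgroupOf.mpr hx)
        exact this
      have hl1 := hex' l (hfoc l hlH)
      rw [hl1, MonoidHom.ker_one] at hl
      rw [← hl, Subgroup.index_top] at hE₁i
      exact hp.one_lt.ne hE₁i
    have h2 : (H.hyperfocalSubgroup p).subgroupOf S = ⊤ := by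
      apply frattini_nongenerating
      rw [eq_top_iff]
      intro s _
      have hs : (s : Ω) ∈ H.focalSubgroup := by
        have : s ∈ (H.focalSubgroup).subgroupOf S := by rw [h1]; trivial
        exact Subgroup.mem_subgroupOf.mp this
      rw [hfocH] at hs
      have hle1 : H.hyperfocalSubgroup p ≤ S := Cfsg.Agent.Lib.Helper85.hyperfocal_le H p
      have hle2 : ⁅(S : Subgroup Ω), (S : Subgroup Ω)⁆ ≤ S := Subgroup.commutator_le_self S  
      have hs' : s ∈ (H.hyperfocalSubgroup p ⊔ ⁅(S : Subgroup Ω), (S : Subgroup Ω)⁆).subgroupOf S :=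
        Subgroup.mem_subgroupOf.mpr hs
      rw [Subgroup.subgroupOf_sup hle1 hle2] at hs'
      have e : (⁅(S : Subgroup Ω), (S : Subgroup Ω)⁆).subgroupOf S = commutator S := by
        rw [← Subgroup.map_subtype_commutator, ← Subgroup.comap_subtype]
        exact Subgroup.comap_map_eq_self_of_injective S.subtype_injective _
      have hle3 : (H.hyperfocalSubgroup p).subgroupOf S ⊔
          (⁅(S : Subgroup Ω), (S : Subgroup Ω)⁆).subgroupOf S ≤
          (H.hyperfocalSubgroup p).subgroupOf S ⊔ frattini S := by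
        apply sup_le_sup_left
        rw [e]
        exact Cfsg.Agent.Lib.Helper2.commutator_le_frattini hS
      exact hle3 hs'
    intro x hx
    have hxS : x ∈ S := Cfsg.Agent.Lib.Helper85.hyperfocal_le F p hx
    have : (⟨x, hxS⟩ : S) ∈ (H.hyperfocalSubgroup p).subgroupOf S := by rw [h2]; trivial
    exact Subgroup.mem_subgroupOf.mp this

/-- **Tate descent**: if every `H`-stable character of `S` of order `p` is `F`-stable, then `H` and
`F` have the same hyperfocal subgroup.  (`hstep` is the existence of subsystems of index `p`.) -/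
theorem tate_descent {p : ℕ} [Fact p.Prime] (hstep : Step Ω p) {S : Subgroup Ω} [Finite S]
    (hS : IsPGroup p S) (F H : FusionSystem S) (hF : F.IsSaturated p) (hH : H.IsSaturated p)
    (hHF : H.IsSubsystemOf F)
    (hfoc : ∀ lam : S →* Multiplicative (ZMod p), Stab H lam → Stab F lam) :
    F.hyperfocalSubgroup p = H.hyperfocalSubgroup p :=
  le_antisymm
    (tate_aux p hstep _ S rfl hS F H hF hH (Cfsg.Agent.Lib.Helper85.RL.hyperfocal_mono H F p hHF) hfoc)
    (Cfsg.Agent.Lib.Helper85.RL.hyperfocal_mono H F p hHF)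

end Cfsg.Agent.Lib.Helper34.Tate
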