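import Mathlib

set_option autoImplicit false

namespace Cfsg.Agent.Lib.Helper34.Witt

open MonoidAlgebra



/-- determinant trick -/
theorem det_smul_eq_zero {R M' κ : Type*} [CommRing R] [AddCommGroup M'] [Module R M']
    [Fintype κ] [DecidableEq κ]
    (m : κ → M') (Bm : Matrix κ κ R) (h : ∀ k, ∑ j, Bm k j • m j = 0) (j : κ) :
    Bm.det • m j = 0 := by
  have h1 : ∑ i, (Bm.adjugate j i) • (∑ j', Bm i j' • m j') = 0 := by
    simp [h]
  rw [← h1]
  simp_rw [Finset.smul_sum, smul_smul]
  rw [Finset.sum_comm]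
  simp_rw [← Finset.sum_smul]
  have h2 : ∀ j', ∑ i, Bm.adjugate j i * Bm i j' = (Bm.det • (1 : Matrix κ κ R)) j j' := by
    intro j'
    rw [← Matrix.adjugate_mul, Matrix.mul_apply]
  simp_rw [h2, Matrix.smul_apply, Matrix.one_apply, smul_eq_mul, mul_ite, mul_one, mul_zero,
    ite_smul, zero_smul]
  simp

theorem eq_norm_of_mul_single {Q : Type*} [CommGroup Q] [Fintype Q] (δ : MonoidAlgebra ℤ Q)
    (h : ∀ q : Q, δ * (single q 1 - 1) = 0)
    (hε : MonoidAlgebra.lift ℤ ℤ Q (1 : Q →* ℤ) δ = Fintype.card Q) :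
    δ = ∑ q : Q, single q (1 : ℤ) := by
  classical
  have h1 : ∀ q : Q, δ.coeff q = δ.coeff 1 := by
    intro q
    have h2 : δ * single q 1 = δ := by
      have := h q
      rw [mul_sub, mul_one, sub_eq_zero] at this
      exact this
    have h3 := congrArg (fun x => x.coeff q) h2
    simp only [coeff_mul_single_apply, mul_inv_cancel, mul_one] at h3
    exact h3.symm
  have h4 : MonoidAlgebra.lift ℤ ℤ Q (1 : Q →* ℤ) δ = ∑ q : Q, δ.coeff q := by
    rw [lift_apply, Finsupp.sum_fintype]
    · simp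
    · intro i; simp
  have h5 : (Fintype.card Q : ℤ) * δ.coeff 1 = Fintype.card Q := by
    calc (Fintype.card Q : ℤ) * δ.coeff 1 = ∑ q : Q, δ.coeff q := by
          simp_rw [h1]; simp
      _ = MonoidAlgebra.lift ℤ ℤ Q (1 : Q →* ℤ) δ := h4.symm
      _ = Fintype.card Q := hε
  have h6 : δ.coeff 1 = 1 := by
    have hne : (Fintype.card Q : ℤ) ≠ 0 := by
      exact_mod_cast Fintype.card_ne_zero
    exact mul_left_cancel₀ hne (by rw [h5, mul_one])
  ext q
  rw [h1, h6]
  simp [Finsupp.single_apply]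



theorem gen_top {Q ι : Type*} [CommGroup Q] [Fintype ι] [DecidableEq ι] (n : ι → ℕ)
    (hn : ∀ i, 1 < n i)
    (ψ : Q ≃* ((i : ι) → Multiplicative (ZMod (n i)))) (T : Subgroup Q)
    (hT : ∀ i, ψ.symm (Pi.mulSingle i (Multiplicative.ofAdd 1)) ∈ T) : T = ⊤ := by
  rw [eq_top_iff]
  intro q _
  have h1 : ∀ f : (i : ι) → Multiplicative (ZMod (n i)), ψ.symm f ∈ T := by
    intro f
    rw [← Finset.univ_prod_mulSingle f, map_prod]
    refine Subgroup.prod_mem _ (fun i _ => ?_)
    have : NeZero (n i) := ⟨by have := hn i; omega⟩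
    have h2 : f i = (Multiplicative.ofAdd (1 : ZMod (n i))) ^ (Multiplicative.toAdd (f i)).val := by
      rw [← ofAdd_nsmul, nsmul_eq_mul, mul_one, ZMod.natCast_zmod_val]; rfl
    rw [h2]
    have h3 : ∀ k : ℕ, Pi.mulSingle (M := fun i => Multiplicative (ZMod (n i))) i
        ((Multiplicative.ofAdd (1 : ZMod (n i))) ^ k) =
        (Pi.mulSingle i (Multiplicative.ofAdd 1)) ^ k := fun k =>
      (map_pow (MonoidHom.mulSingle (fun i => Multiplicative (ZMod (n i))) i) _ _)
    rw [h3, map_pow]
    exact T.pow_mem (hT i) _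
  have := h1 (ψ q)
  rwa [ψ.symm_apply_apply] at this

theorem pow_card_gen {Q ι : Type*} [CommGroup Q] [Fintype ι] [DecidableEq ι] (n : ι → ℕ)
    (ψ : Q ≃* ((i : ι) → Multiplicative (ZMod (n i)))) (i : ι) :
    (ψ.symm (Pi.mulSingle i (Multiplicative.ofAdd 1))) ^ (n i) = 1 := by
  rw [← map_pow]
  have h3 : Pi.mulSingle (M := fun i => Multiplicative (ZMod (n i))) i
        ((Multiplicative.ofAdd (1 : ZMod (n i))) ^ (n i)) =
        (Pi.mulSingle i (Multiplicative.ofAdd 1)) ^ (n i) :=
      (map_pow (MonoidHom.mulSingle (fun i => Multiplicative (ZMod (n i))) i) _ _)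
  rw [← h3, ← ofAdd_nsmul, nsmul_eq_mul, mul_one, ZMod.natCast_self]
  simp



open MonoidAlgebra

/-- Functions `Q → A` with `Q` acting by translation. -/
def WB (Q A : Type*) := Q → A

instance WB.instAddCommGroup (Q A : Type*) [AddCommGroup A] : AddCommGroup (WB Q A) :=
  Pi.addCommGroup

/-- translation representation -/
def WB.rep (Q A : Type*) [CommGroup Q] [AddCommGroup A] : Q →* (WB Q A →ₗ[ℤ] WB Q A) where
  toFun q₀ :=
    { toFun := fun b q => b (q₀ * q)
      map_add' := fun _ _ => rfl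
      map_smul' := fun _ _ => rfl }
  map_one' := by
    ext b; funext q
    show b (1 * q) = b q
    rw [one_mul]
  map_mul' := by
    intro q₁ q₂
    ext b; funext q
    show b (q₁ * q₂ * q) = b (q₂ * (q₁ * q))
    rw [mul_comm q₁ q₂, mul_assoc]

noncomputable instance WB.instModule (Q A : Type*) [CommGroup Q] [AddCommGroup A] :
    Module (MonoidAlgebra ℤ Q) (WB Q A) :=
  Module.compHom (WB Q A) ((MonoidAlgebra.lift ℤ (WB Q A →ₗ[ℤ] WB Q A) Q (WB.rep Q A)).toRingHom)

theorem WB.single_smul_apply {Q A : Type*} [CommGroup Q] [AddCommGroup A] (q₀ : Q) (n : ℤ)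
    (b : WB Q A) (q : Q) : ((single q₀ n : MonoidAlgebra ℤ Q) • b) q = n • b (q₀ * q) := by
  show ((MonoidAlgebra.lift ℤ (WB Q A →ₗ[ℤ] WB Q A) Q (WB.rep Q A)) (single q₀ n) b) q = _
  rw [lift_single]
  rfl

theorem WB.norm_smul_apply {Q A : Type*} [CommGroup Q] [Fintype Q] [AddCommGroup A]
    (b : WB Q A) (q : Q) :
    ((∑ q₀ : Q, (single q₀ (1 : ℤ) : MonoidAlgebra ℤ Q)) • b) q = ∑ q₀ : Q, b q₀ := by
  rw [Finset.sum_smul]
  have h1 : ∀ (s : Finset Q) (f : Q → WB Q A), (∑ i ∈ s, f i) q = ∑ i ∈ s, f i q := by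
    intro s f
    exact Finset.sum_apply q s f
  rw [h1]
  simp_rw [WB.single_smul_apply, one_smul]
  exact Fintype.sum_equiv (Equiv.mulRight q) _ _ (fun _ => rfl)


section main

variable {G : Type*} [Group G] {A : Type*} [CommGroup A]

theorem hel_mem (s : Abelianization G → G) (hs : ∀ q, Abelianization.of (s q) = q)
    (g : G) (q : Abelianization G) :
    (s (Abelianization.of g * q))⁻¹ * g * s q ∈ commutator G := by
  rw [← Abelianization.ker_of, MonoidHom.mem_ker, map_mul, map_mul, map_inv, hs, hs]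
  rw [mul_inv_rev, mul_assoc, mul_assoc, inv_mul_cancel_left, inv_mul_cancel]

/-- the cocycle element -/
def hel (s : Abelianization G → G) (hs : ∀ q, Abelianization.of (s q) = q)
    (g : G) (q : Abelianization G) : ↥(commutator G) :=
  ⟨(s (Abelianization.of g * q))⁻¹ * g * s q, hel_mem s hs g q⟩

theorem hel_mul (s : Abelianization G → G) (hs : ∀ q, Abelianization.of (s q) = q)
    (g g' : G) (q : Abelianization G) :
    hel s hs (g * g') q = hel s hs g (Abelianization.of g' * q) * hel s hs g' q := by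
  apply Subtype.ext
  show (s (Abelianization.of (g * g') * q))⁻¹ * (g * g') * s q =
    ((s (Abelianization.of g * (Abelianization.of g' * q)))⁻¹ * g * s (Abelianization.of g' * q)) *
    ((s (Abelianization.of g' * q))⁻¹ * g' * s q)
  rw [map_mul, mul_assoc (Abelianization.of g)]
  group

/-- the derivation, first component -/
def Dfun (φ : ↥(commutator G) →* A) (s : Abelianization G → G)
    (hs : ∀ q, Abelianization.of (s q) = q) (g : G) : WB (Abelianization G) (Additive A) :=
  fun q => Additive.ofMul (φ (hel s hs g q))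

/-- the derivation -/
noncomputable def dd (φ : ↥(commutator G) →* A) (s : Abelianization G → G)
    (hs : ∀ q, Abelianization.of (s q) = q) (g : G) :
    WB (Abelianization G) (Additive A) × MonoidAlgebra ℤ (Abelianization G) :=
  (Dfun φ s hs g, single (Abelianization.of g) 1 - 1)

theorem dd_mul (φ : ↥(commutator G) →* A) (s : Abelianization G → G)
    (hs : ∀ q, Abelianization.of (s q) = q) (g g' : G) :
    dd φ s hs (g * g') =
      (single (Abelianization.of g') (1 : ℤ) : MonoidAlgebra ℤ (Abelianization G)) • dd φ s hs g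
        + dd φ s hs g' := by
  apply Prod.ext
  · funext q
    show Additive.ofMul (φ (hel s hs (g * g') q)) =
      ((single (Abelianization.of g') (1 : ℤ) : MonoidAlgebra ℤ (Abelianization G)) •
        Dfun φ s hs g) q + Additive.ofMul (φ (hel s hs g' q))
    rw [WB.single_smul_apply, one_smul, hel_mul, map_mul, ofMul_mul]
    rfl
  · show single (Abelianization.of (g * g')) (1 : ℤ) - 1 =
      single (Abelianization.of g') (1 : ℤ) * (single (Abelianization.of g) 1 - 1)
        + (single (Abelianization.of g') 1 - 1)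
    rw [mul_sub, single_mul_single, map_mul, mul_comm (Abelianization.of g')]
    simp

end main


open scoped Pointwise

theorem sec_mem {G : Type*} [Group G] (H : Subgroup G) (s : G ⧸ H → G)
    (hs : ∀ q, (s q : G ⧸ H) = q) (g : G) (q : G ⧸ H) : (s (g • q))⁻¹ * g * s q ∈ H := by
  rw [mul_assoc, ← QuotientGroup.eq, hs]
  conv_lhs => rw [← hs q]
  rfl

theorem transfer_eq_prod_sec {G : Type*} [Group G] (H : Subgroup G) [H.FiniteIndex]
    {A : Type*} [CommGroup A] (φ : H →* A) (s : G ⧸ H → G) (hs : ∀ q, (s q : G ⧸ H) = q)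
    [Fintype (G ⧸ H)] (g : G) :
    MonoidHom.transfer φ g = ∏ q : G ⧸ H, φ ⟨(s (g • q))⁻¹ * g * s q, sec_mem H s hs g q⟩ := by
  have hinst : ‹Fintype (G ⧸ H)› = H.fintypeQuotientOfFiniteIndex := Subsingleton.elim _ _
  subst hinst
  let T : H.LeftTransversal := ⟨Set.range s, Subgroup.isComplement_range_left hs⟩
  rw [MonoidHom.transfer_def φ T g]
  unfold Subgroup.leftTransversals.diff
  dsimp only
  refine @Fintype.prod_equiv _ _ _ H.fintypeQuotientOfFiniteIndex H.fintypeQuotientOfFiniteIndex _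
    (MulAction.toPerm g).symm _ _ ?_
  intro q
  congr 1
  apply Subtype.ext
  show ((T.2.leftQuotientEquiv q : G))⁻¹ * ((g • T).2.leftQuotientEquiv q : G) = _
  rw [Subgroup.smul_apply_eq_smul_apply_inv_smul, Subgroup.IsComplement.leftQuotientEquiv_apply hs,
    Subgroup.IsComplement.leftQuotientEquiv_apply hs]
  simp only [MulAction.toPerm_symm_apply, smul_inv_smul, smul_eq_mul, mul_assoc]


set_option maxHeartbeats 800000 in
theorem main_vanish {G : Type*} [Group G] [Finite G] {A : Type*} [CommGroup A]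
    (φ : ↥(commutator G) →* A) (s : Abelianization G → G)
    (hs : ∀ q, Abelianization.of (s q) = q) [Fintype (Abelianization G)] (g : G) :
    ∏ q : Abelianization G, φ (hel s hs g q) = 1 := by
  classical
  obtain ⟨ι, hι, n, hn, ⟨ψ⟩⟩ :=
    CommGroup.equiv_prod_multiplicative_zmod_of_finite (Abelianization G)
  have : Fintype ↥(commutator G) := Fintype.ofFinite _
  -- generators
  obtain ⟨gq, hgq⟩ : ∃ gq : ι → Abelianization G,
      ∀ i, gq i = ψ.symm (Pi.mulSingle i (Multiplicative.ofAdd 1)) := ⟨_, fun i => rfl⟩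
  obtain ⟨gi, hgi⟩ : ∃ gi : ι → G, ∀ i, gi i = s (gq i) := ⟨_, fun i => rfl⟩
  have hgi' : ∀ i, Abelianization.of (gi i) = gq i := fun i => by rw [hgi, hs]
  -- the generating family
  obtain ⟨m, hm⟩ : ∃ m : ι ⊕ ↥(commutator G) →
      WB (Abelianization G) (Additive A) × MonoidAlgebra ℤ (Abelianization G),
      m = Sum.elim (fun i => dd φ s hs (gi i)) (fun h => dd φ s hs h.1) := ⟨_, rfl⟩
  have hml : ∀ i, m (Sum.inl i) = dd φ s hs (gi i) := fun i => by rw [hm]; rfl
  have hmr : ∀ h : ↥(commutator G), m (Sum.inr h) = dd φ s hs h.1 := fun h => by rw [hm]; rfl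
  obtain ⟨M₁, hM₁⟩ : ∃ M₁ : Submodule (MonoidAlgebra ℤ (Abelianization G))
      (WB (Abelianization G) (Additive A) × MonoidAlgebra ℤ (Abelianization G)),
      M₁ = Submodule.span _ (Set.range m) := ⟨_, rfl⟩
  have hmM : ∀ k, m k ∈ M₁ := fun k => by
    rw [hM₁]; exact Submodule.subset_span ⟨k, rfl⟩
  -- `dd 1 = 0`
  have hdd1 : dd φ s hs 1 = 0 := by
    have h := dd_mul φ s hs 1 1
    rw [mul_one, map_one, ← one_def, one_smul] at h
    exact left_eq_add.mp h
  -- Claim 1
  have hall : ∀ g, dd φ s hs g ∈ M₁ := by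
    let S₀ : Subgroup G :=
      { carrier := {g | dd φ s hs g ∈ M₁}
        mul_mem' := by
          intro a b ha hb
          show dd φ s hs (a * b) ∈ M₁
          rw [dd_mul]
          exact M₁.add_mem (M₁.smul_mem _ ha) hb
        one_mem' := by
          show dd φ s hs 1 ∈ M₁
          rw [hdd1]; exact M₁.zero_mem
        inv_mem' := by
          intro a ha
          show dd φ s hs a⁻¹ ∈ M₁
          have h := dd_mul φ s hs a⁻¹ a
          rw [inv_mul_cancel, hdd1] at h
          have h2 : dd φ s hs a⁻¹ =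
              (single (Abelianization.of a)⁻¹ (1 : ℤ) : MonoidAlgebra ℤ (Abelianization G)) •
                (-dd φ s hs a) := by
            have h3 : (single (Abelianization.of a) (1 : ℤ) : MonoidAlgebra ℤ (Abelianization G)) •
                dd φ s hs a⁻¹ = -dd φ s hs a := by
              rw [eq_neg_iff_add_eq_zero]; exact h.symm
            rw [← h3, smul_smul, single_mul_single, inv_mul_cancel, mul_one, ← one_def, one_smul]
          rw [h2]
          exact M₁.smul_mem _ (M₁.neg_mem ha) }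
    have hS₀ : ∀ g, g ∈ S₀ ↔ dd φ s hs g ∈ M₁ := fun g => Iff.rfl
    have hH : commutator G ≤ S₀ := by
      intro h hh
      rw [hS₀]
      have := hmM (Sum.inr ⟨h, hh⟩)
      rwa [hmr] at this
    have hT : S₀.map Abelianization.of = ⊤ := by
      apply gen_top n hn ψ
      intro i
      rw [← hgq, ← hgi']
      refine Subgroup.mem_map_of_mem _ ?_
      rw [hS₀, ← hml]
      exact hmM _
    intro g
    have h1 : Abelianization.of g ∈ S₀.map Abelianization.of := by rw [hT]; trivial
    obtain ⟨g', hg', hgg'⟩ := h1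
    have h2 : g'⁻¹ * g ∈ commutator G := by
      rw [← Abelianization.ker_of, MonoidHom.mem_ker, map_mul, map_inv, hgg', inv_mul_cancel]
    have h3 : g = g' * (g'⁻¹ * g) := by group
    rw [← hS₀, h3]
    exact S₀.mul_mem hg' (hH h2)
  -- the augmentation ideal
  obtain ⟨I, hI⟩ : ∃ I : Ideal (MonoidAlgebra ℤ (Abelianization G)),
      I = RingHom.ker (MonoidAlgebra.lift ℤ ℤ (Abelianization G) (1 : Abelianization G →* ℤ)) :=
    ⟨_, rfl⟩
  have hsingleI : ∀ q : Abelianization G,
      (single q (1 : ℤ) - 1 : MonoidAlgebra ℤ (Abelianization G)) ∈ I := by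
    intro q
    rw [hI, RingHom.mem_ker, map_sub, lift_single, map_one]
    simp
  -- Claim 2: the homomorphism modulo `I • M₁`
  have hadd : ∀ a b : G, dd φ s hs (a * b) - (dd φ s hs a + dd φ s hs b) ∈ I • M₁ := by
    intro a b
    have h1 : dd φ s hs (a * b) - (dd φ s hs a + dd φ s hs b) =
        (single (Abelianization.of b) (1 : ℤ) - 1 : MonoidAlgebra ℤ (Abelianization G)) •
          dd φ s hs a := by
      rw [dd_mul, sub_smul, one_smul]; abel
    rw [h1]
    exact Submodule.smul_mem_smul (hsingleI _) (hall a)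
  let θ : G →* Multiplicative
      ((WB (Abelianization G) (Additive A) × MonoidAlgebra ℤ (Abelianization G)) ⧸ (I • M₁)) :=
    MonoidHom.mk' (fun a => Multiplicative.ofAdd ((I • M₁).mkQ (dd φ s hs a))) (by
      intro a b
      rw [← ofAdd_add, ← map_add]
      congr 1
      exact (Submodule.Quotient.eq _).mpr (hadd a b))
  have hθ : ∀ a, θ a = Multiplicative.ofAdd ((I • M₁).mkQ (dd φ s hs a)) := fun a => rfl
  have hθ1 : ∀ a, θ a = 1 → dd φ s hs a ∈ I • M₁ := by
    intro a ha
    rw [hθ] at ha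
    exact (Submodule.Quotient.mk_eq_zero _).mp ha
  have hcomm : ∀ h ∈ commutator G, dd φ s hs h ∈ I • M₁ := by
    intro h hh
    apply hθ1
    exact Abelianization.commutator_subset_ker θ hh
  have hpow : ∀ i, (n i : MonoidAlgebra ℤ (Abelianization G)) • dd φ s hs (gi i) ∈ I • M₁ := by
    intro i
    have h1 : (gi i) ^ (n i) ∈ commutator G := by
      rw [← Abelianization.ker_of, MonoidHom.mem_ker, map_pow, hgi', hgq]
      exact pow_card_gen n ψ i
    have h2 : θ ((gi i) ^ (n i)) = 1 := Abelianization.commutator_subset_ker θ h1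
    rw [map_pow, hθ, ← ofAdd_nsmul, ← map_nsmul] at h2
    rw [Nat.cast_smul_eq_nsmul]
    exact (Submodule.Quotient.mk_eq_zero _).mp h2
  -- relations
  obtain ⟨c, hc⟩ : ∃ c : ι ⊕ ↥(commutator G) → ℕ, c = Sum.elim n (fun _ => 1) := ⟨_, rfl⟩
  have hrel : ∀ k, (c k : MonoidAlgebra ℤ (Abelianization G)) • m k ∈
      I • Submodule.span (MonoidAlgebra ℤ (Abelianization G)) (Set.range m) := by
    rw [← hM₁]
    rintro (i | h)
    · rw [hml, hc]; exact hpow i
    · rw [hmr, hc]
      simp only [Sum.elim_inr, Nat.cast_one, one_smul]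
      exact hcomm _ h.2
  have hrel' : ∀ k, ∃ a : (ι ⊕ ↥(commutator G)) →₀ MonoidAlgebra ℤ (Abelianization G),
      (∀ j, a j ∈ I) ∧ ∑ j, a j • m j = (c k : MonoidAlgebra ℤ (Abelianization G)) • m k := by
    intro k
    obtain ⟨a, ha, hsum⟩ := (Submodule.mem_ideal_smul_span_iff_exists_sum I m _).mp (hrel k)
    refine ⟨a, ha, ?_⟩
    rw [← hsum, Finsupp.sum_fintype]
    intro j; exact zero_smul _ _
  choose a haI hasum using hrel'
  obtain ⟨Bm, hBm⟩ : ∃ Bm : Matrix (ι ⊕ ↥(commutator G)) (ι ⊕ ↥(commutator G))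
      (MonoidAlgebra ℤ (Abelianization G)),
      Bm = Matrix.diagonal (fun k => (c k : MonoidAlgebra ℤ (Abelianization G))) -
        Matrix.of (fun k j => a k j) := ⟨_, rfl⟩
  have hBrow : ∀ k, ∑ j, Bm k j • m j = 0 := by
    intro k
    rw [hBm]
    simp only [Matrix.sub_apply, Matrix.of_apply, sub_smul, Finset.sum_sub_distrib]
    rw [hasum k, sub_eq_zero]
    simp only [Matrix.diagonal_apply, ite_smul, zero_smul]
    rw [Finset.sum_ite_eq]
    simp
  have hδm : ∀ j, Bm.det • m j = 0 := det_smul_eq_zero m Bm hBrow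
  have hδM : ∀ x ∈ M₁, Bm.det • x = 0 := by
    intro x hx
    rw [hM₁] at hx
    induction hx using Submodule.span_induction with
    | mem x hx =>
      obtain ⟨j, rfl⟩ := hx
      exact hδm j
    | zero => exact smul_zero _
    | add x y _ _ hx hy => rw [smul_add, hx, hy, add_zero]
    | smul r x _ hx => rw [smul_comm, hx, smul_zero]
  have hδdd : ∀ a, Bm.det • dd φ s hs a = 0 := fun a => hδM _ (hall a)
  have hδ2 : ∀ q : Abelianization G, Bm.det * (single q 1 - 1) = 0 := by
    intro q
    have h1 := congrArg Prod.snd (hδdd (s q))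
    rw [Prod.smul_snd] at h1
    have h2 : (dd φ s hs (s q)).2 = single q 1 - 1 := by
      show single (Abelianization.of (s q)) (1 : ℤ) - 1 = _
      rw [hs]
    rw [h2, smul_eq_mul] at h1
    exact h1
  -- the augmentation of the determinant
  have hcard : (Fintype.card (Abelianization G) : ℤ) = ∏ i, (n i : ℤ) := by
    have h1 : Nat.card (Abelianization G) = ∏ i, n i := by
      rw [Nat.card_congr ψ.toEquiv, Nat.card_pi]
      refine Finset.prod_congr rfl (fun i _ => ?_)
      exact Nat.card_zmod (n i)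
    rw [← Nat.card_eq_fintype_card, h1]
    push_cast
    rfl
  have hε : MonoidAlgebra.lift ℤ ℤ (Abelianization G) (1 : Abelianization G →* ℤ) Bm.det =
      Fintype.card (Abelianization G) := by
    rw [AlgHom.map_det]
    have h1 : (MonoidAlgebra.lift ℤ ℤ (Abelianization G) (1 : Abelianization G →* ℤ)).mapMatrix Bm =
        Matrix.diagonal (fun k => (c k : ℤ)) := by
      ext k j
      rw [AlgHom.mapMatrix_apply, Matrix.map_apply, hBm, Matrix.sub_apply, map_sub,
        Matrix.of_apply]
      have h2 : MonoidAlgebra.lift ℤ ℤ (Abelianization G) (1 : Abelianization G →* ℤ) (a k j) = 0 := by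
        have := haI k j
        rwa [hI, RingHom.mem_ker] at this
      rw [h2, sub_zero, Matrix.diagonal_apply, Matrix.diagonal_apply]
      split_ifs
      · rw [map_natCast]
      · rw [map_zero]
    rw [h1, Matrix.det_diagonal, Fintype.prod_sum_type, hcard, hc]
    simp
  have hδN : Bm.det = ∑ q : Abelianization G, single q (1 : ℤ) :=
    eq_norm_of_mul_single _ hδ2 hε
  -- conclusion
  have h1 := congrArg Prod.fst (hδdd g)
  rw [Prod.smul_fst, hδN] at h1
  have h2 := congrFun h1 1
  have h3 : (dd φ s hs g).1 = Dfun φ s hs g := rfl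
  rw [h3] at h2
  have h4 := WB.norm_smul_apply (Dfun φ s hs g) 1
  rw [h4] at h2
  have h5 : ∑ q₀ : Abelianization G, Dfun φ s hs g q₀ =
      Additive.ofMul (∏ q : Abelianization G, φ (hel s hs g q)) := by
    rw [ofMul_prod]
    rfl
  rw [h5] at h2
  exact h2


end Cfsg.Agent.Lib.Helper34.Witt
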