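import Mathlib
import Cfsg.Agent.Lib.Helper34.WittModule

/-!
Transfer toolkit (helper34): multiplicativity in the homomorphism, restriction of a global
homomorphism, Mackey decomposition of the transfer along the orbits of a subgroup, transitivity.
-/

set_option autoImplicit false

namespace Cfsg.Agent.Lib.Helper34.Yoshida

open Cfsg.Agent.Lib.Helper34.Witt
open scoped Pointwise

variable {G : Type*} [Group G] {A : Type*} [CommGroup A]


/-- transfer is multiplicative in the homomorphism -/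
theorem transfer_mul (H : Subgroup G) [H.FiniteIndex] (φ ψ : H →* A) (g : G) :
    MonoidHom.transfer (φ * ψ) g = MonoidHom.transfer φ g * MonoidHom.transfer ψ g := by
  classical
  let _ : Fintype (G ⧸ H) := H.fintypeQuotientOfFiniteIndex
  have hs : ∀ q : G ⧸ H, ((Quotient.out q : G) : G ⧸ H) = q := fun q => Quotient.out_eq' q
  rw [transfer_eq_prod_sec H (φ * ψ) _ hs, transfer_eq_prod_sec H φ _ hs,
    transfer_eq_prod_sec H ψ _ hs, ← Finset.prod_mul_distrib]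
  rfl

/-- transfer of the restriction of a global homomorphism -/
theorem transfer_restrict (H : Subgroup G) [H.FiniteIndex] (ψ : G →* A) (g : G) :
    MonoidHom.transfer (ψ.comp H.subtype) g = ψ g ^ H.index := by
  classical
  let _ : Fintype (G ⧸ H) := H.fintypeQuotientOfFiniteIndex
  have hs : ∀ q : G ⧸ H, ((Quotient.out q : G) : G ⧸ H) = q := fun q => Quotient.out_eq' q
  rw [transfer_eq_prod_sec H _ _ hs]
  have h1 : ∀ q : G ⧸ H, (ψ.comp H.subtype) ⟨((Quotient.out (g • q) : G))⁻¹ * g * (Quotient.out q : G),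
      sec_mem H _ hs g q⟩ = (ψ (Quotient.out (g • q) : G))⁻¹ * ψ g * ψ (Quotient.out q : G) := by
    intro q
    simp
  simp_rw [h1]
  rw [Finset.prod_mul_distrib, Finset.prod_mul_distrib, Finset.prod_const, Finset.card_univ,
    Finset.prod_inv_distrib]
  have h2 : ∏ q : G ⧸ H, ψ (Quotient.out (g • q) : G) = ∏ q : G ⧸ H, ψ (Quotient.out q : G) :=
    Fintype.prod_equiv (MulAction.toPerm g) _ _ (fun q => rfl)
  rw [h2, Subgroup.index_eq_card, Nat.card_eq_fintype_card]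
  rw [mul_comm (∏ q : G ⧸ H, ψ (Quotient.out q : G))⁻¹, mul_assoc, inv_mul_cancel, mul_one]



theorem mackey_mem_aux (H K : Subgroup G) (q₀ : G ⧸ H) (k : K) (hk : k • q₀ = q₀) :
    (Quotient.out q₀ : G)⁻¹ * (k : G) * (Quotient.out q₀ : G) ∈ H := by
  have h2 : ((Quotient.out q₀ : G) : G ⧸ H) = q₀ := Quotient.out_eq' q₀
  have h3 : (((k : G) * (Quotient.out q₀ : G) : G) : G ⧸ H) = ((Quotient.out q₀ : G) : G ⧸ H) := by
    have h4 : (((k : G) * (Quotient.out q₀ : G) : G) : G ⧸ H) = k • ((Quotient.out q₀ : G) : G ⧸ H) := rfl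
    rw [h4, h2, hk]
  rw [mul_assoc, ← QuotientGroup.eq]
  exact h3.symm

theorem mackey_mem (H K : Subgroup G) (q₀ : G ⧸ H) (d : MulAction.stabilizer K q₀) :
    (Quotient.out q₀ : G)⁻¹ * ((d : K) : G) * (Quotient.out q₀ : G) ∈ H :=
  mackey_mem_aux H K q₀ (d : K) d.2

/-- the conjugated homomorphism on a point stabilizer -/
noncomputable def mackeyHom (H K : Subgroup G) (φ : H →* A) (q₀ : G ⧸ H) :
    MulAction.stabilizer K q₀ →* A where
  toFun d := φ ⟨(Quotient.out q₀ : G)⁻¹ * ((d : K) : G) * (Quotient.out q₀ : G), mackey_mem H K q₀ d⟩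
  map_one' := by
    rw [← map_one φ]
    congr 1
    apply Subtype.ext
    simp
  map_mul' := by
    intro a b
    rw [← map_mul φ]
    congr 1
    apply Subtype.ext
    simp only [Subgroup.coe_mul]
    group

theorem mackeyHom_apply (H K : Subgroup G) (φ : H →* A) (q₀ : G ⧸ H)
    (d : MulAction.stabilizer K q₀) :
    mackeyHom H K φ q₀ d =
      φ ⟨(Quotient.out q₀ : G)⁻¹ * ((d : K) : G) * (Quotient.out q₀ : G), mackey_mem H K q₀ d⟩ :=
  rfl

set_option maxHeartbeats 800000 in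
theorem mackey_transfer [Finite G] (H K : Subgroup G) (φ : H →* A) (u : K)
    [Fintype (Quotient (MulAction.orbitRel K (G ⧸ H)))] :
    MonoidHom.transfer φ (u : G) =
      ∏ ω : Quotient (MulAction.orbitRel K (G ⧸ H)),
        MonoidHom.transfer (mackeyHom H K φ (Quotient.out ω)) u := by
  classical
  let _ : Fintype (G ⧸ H) := Fintype.ofFinite _
  -- choice of orbit representatives
  have hex : ∀ q : G ⧸ H, ∃ k : K,
      k • (Quotient.out (Quotient.mk'' q : Quotient (MulAction.orbitRel K (G ⧸ H)))) = q := by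
    intro q
    obtain ⟨y, hy⟩ := Quotient.exact'
      (Quotient.out_eq' (Quotient.mk'' q : Quotient (MulAction.orbitRel K (G ⧸ H))))
    refine ⟨y⁻¹, ?_⟩
    rw [← hy]
    exact inv_smul_smul y q
  choose kk hkk using hex
  obtain ⟨s, hsdef⟩ : ∃ s : G ⧸ H → G, ∀ q, s q = (kk q : G) *
      (Quotient.out (Quotient.out (Quotient.mk'' q : Quotient (MulAction.orbitRel K (G ⧸ H)))) : G) :=
    ⟨_, fun q => rfl⟩
  have hs : ∀ q, ((s q : G) : G ⧸ H) = q := by
    intro q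
    rw [hsdef]
    have h1 : ((((kk q : K) : G) * (Quotient.out (Quotient.out
        (Quotient.mk'' q : Quotient (MulAction.orbitRel K (G ⧸ H)))) : G) : G) : G ⧸ H) =
        (kk q) • (((Quotient.out (Quotient.out
        (Quotient.mk'' q : Quotient (MulAction.orbitRel K (G ⧸ H)))) : G) : G) : G ⧸ H) := rfl
    rw [h1]
    have h2 : (((Quotient.out (Quotient.out
        (Quotient.mk'' q : Quotient (MulAction.orbitRel K (G ⧸ H)))) : G) : G) : G ⧸ H) =
        Quotient.out (Quotient.mk'' q : Quotient (MulAction.orbitRel K (G ⧸ H))) :=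
      Quotient.out_eq' _
    rw [h2, hkk]
  rw [transfer_eq_prod_sec H φ s hs]
  rw [← Fintype.prod_fiberwise (fun q : G ⧸ H =>
    (Quotient.mk'' q : Quotient (MulAction.orbitRel K (G ⧸ H))))]
  refine Finset.prod_congr rfl (fun ω _ => ?_)
  -- the orbit equivalence
  obtain ⟨q₀, hq₀⟩ : ∃ q₀ : G ⧸ H, q₀ = Quotient.out ω := ⟨_, rfl⟩
  rw [← hq₀]
  have hωq₀ : (Quotient.mk'' q₀ : Quotient (MulAction.orbitRel K (G ⧸ H))) = ω := by
    rw [hq₀]; exact Quotient.out_eq' ω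
  have hmem : ∀ q : G ⧸ H, q ∈ MulAction.orbit K q₀ ↔
      (Quotient.mk'' q : Quotient (MulAction.orbitRel K (G ⧸ H))) = ω := by
    intro q
    rw [← hωq₀, Quotient.eq'']
    rfl
  let e : (K ⧸ MulAction.stabilizer K q₀) ≃
      {q : G ⧸ H // (Quotient.mk'' q : Quotient (MulAction.orbitRel K (G ⧸ H))) = ω} :=
    (MulAction.orbitEquivQuotientStabilizer K q₀).symm.trans (Equiv.subtypeEquivRight hmem)
  have he : ∀ k : K, ((e (k : K ⧸ MulAction.stabilizer K q₀)) : G ⧸ H) = k • q₀ := fun k => rfl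
  have heu : ∀ r, ((e (u • r)) : G ⧸ H) = (u : G) • ((e r) : G ⧸ H) := by
    intro r
    induction r using Quotient.inductionOn' with
    | h k =>
      show ((e ((u * k : K) : K ⧸ MulAction.stabilizer K q₀)) : G ⧸ H) =
        (u : G) • ((e ((k : K) : K ⧸ MulAction.stabilizer K q₀)) : G ⧸ H)
      rw [he, he, mul_smul]
      rfl
  have hkke : ∀ r, kk (e r : G ⧸ H) • q₀ = (e r : G ⧸ H) := by
    intro r
    have h1 := hkk (e r : G ⧸ H)
    rw [(e r).2, ← hq₀] at h1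
    exact h1
  obtain ⟨s', hs'def⟩ : ∃ s' : K ⧸ MulAction.stabilizer K q₀ → K, ∀ r, s' r = kk (e r : G ⧸ H) :=
    ⟨_, fun r => rfl⟩
  have hs' : ∀ r, ((s' r : K) : K ⧸ MulAction.stabilizer K q₀) = r := by
    intro r
    apply e.injective
    apply Subtype.ext
    rw [he, hs'def, hkke]
  let _ : Fintype (K ⧸ MulAction.stabilizer K q₀) := Fintype.ofFinite _
  rw [transfer_eq_prod_sec (MulAction.stabilizer K q₀) (mackeyHom H K φ q₀) s' hs' u]
  refine (Fintype.prod_equiv e _ _ ?_).symm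
  intro r
  rw [mackeyHom_apply]
  congr 1
  apply Subtype.ext
  show (Quotient.out q₀ : G)⁻¹ * (((s' (u • r))⁻¹ * u * s' r : K) : G) * (Quotient.out q₀ : G) =
    (s ((u : G) • (e r : G ⧸ H)))⁻¹ * (u : G) * s (e r : G ⧸ H)
  have hω1 : (Quotient.mk'' (e r : G ⧸ H) : Quotient (MulAction.orbitRel K (G ⧸ H))) = ω := (e r).2
  have hω2 : (Quotient.mk'' ((u : G) • (e r : G ⧸ H)) :
      Quotient (MulAction.orbitRel K (G ⧸ H))) = ω := by
    rw [← heu]; exact (e (u • r)).2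
  rw [hsdef, hsdef, hω1, hω2, ← hq₀, hs'def, hs'def, heu]
  simp only [Subgroup.coe_mul, Subgroup.coe_inv]
  group



set_option maxHeartbeats 800000 in
/-- transitivity of the transfer -/
theorem transfer_trans [Finite G] (D K : Subgroup G) (hDK : D ≤ K) (φ : D →* A) (g : G) :
    MonoidHom.transfer φ g =
      MonoidHom.transfer (MonoidHom.transfer
        (φ.comp (Subgroup.subgroupOfEquivOfLe hDK).toMonoidHom)) g := by
  classical
  let _ : Fintype (G ⧸ D) := Fintype.ofFinite _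
  let _ : Fintype (G ⧸ K) := Fintype.ofFinite _
  let _ : Fintype (K ⧸ D.subgroupOf K) := Fintype.ofFinite _
  obtain ⟨s₁, hs₁⟩ : ∃ s₁ : G ⧸ K → G, ∀ c, ((s₁ c : G) : G ⧸ K) = c :=
    ⟨Quotient.out, Quotient.out_eq'⟩
  obtain ⟨s₂, hs₂⟩ : ∃ s₂ : K ⧸ D.subgroupOf K → K, ∀ r, ((s₂ r : K) : K ⧸ D.subgroupOf K) = r :=
    ⟨Quotient.out, Quotient.out_eq'⟩
  obtain ⟨E, hE⟩ : ∃ E : G ⧸ D ≃ (G ⧸ K) × (K ⧸ D.subgroupOf K),
      E = Subgroup.quotientEquivProdOfLE' hDK s₁ hs₁ := ⟨_, rfl⟩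
  have hEmk : ∀ a : G, E (a : G ⧸ D) = ((a : G ⧸ K),
      ((⟨(s₁ (a : G ⧸ K))⁻¹ * a, QuotientGroup.leftRel_apply.mp (Quotient.exact' (hs₁ (a : G ⧸ K)))⟩ : K) :
        K ⧸ D.subgroupOf K)) := by
    intro a
    rw [hE]
    rfl
  have hEsymm : ∀ (c : G ⧸ K) (k : K), E.symm (c, (k : K ⧸ D.subgroupOf K)) =
      ((s₁ c * (k : G) : G) : G ⧸ D) := by
    intro c k
    rw [hE]
    rfl
  obtain ⟨s, hsdef⟩ : ∃ s : G ⧸ D → G, ∀ q, s q = s₁ (E q).1 * ((s₂ (E q).2 : K) : G) :=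
    ⟨_, fun q => rfl⟩
  have hs : ∀ q, ((s q : G) : G ⧸ D) = q := by
    intro q
    rw [hsdef, ← hEsymm, hs₂]
    simp
  -- the key equivariance
  have hkmem : ∀ c : G ⧸ K, (s₁ (g • c))⁻¹ * g * s₁ c ∈ K := fun c => sec_mem K s₁ hs₁ g c
  have hEg : ∀ q, E (g • q) = (g • (E q).1,
      (⟨(s₁ (g • (E q).1))⁻¹ * g * s₁ (E q).1, hkmem _⟩ : K) • (E q).2) := by
    intro q
    obtain ⟨a, rfl⟩ := QuotientGroup.mk_surjective q
    · have h1 : g • ((a : G) : G ⧸ D) = ((g * a : G) : G ⧸ D) := rfl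
      rw [h1, hEmk, hEmk]
      apply Prod.ext
      · rfl
      · show (((⟨(s₁ ((g * a : G) : G ⧸ K))⁻¹ * (g * a), _⟩ : K)) : K ⧸ D.subgroupOf K) =
          (((⟨(s₁ (g • ((a : G) : G ⧸ K)))⁻¹ * g * s₁ ((a : G) : G ⧸ K), _⟩ : K) *
            (⟨(s₁ ((a : G) : G ⧸ K))⁻¹ * a, _⟩ : K) : K) : K ⧸ D.subgroupOf K)
        congr 1
        apply Subtype.ext
        show (s₁ ((g * a : G) : G ⧸ K))⁻¹ * (g * a) =
          ((s₁ (g • ((a : G) : G ⧸ K)))⁻¹ * g * s₁ ((a : G) : G ⧸ K)) *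
            ((s₁ ((a : G) : G ⧸ K))⁻¹ * a)
        have h3 : g • ((a : G) : G ⧸ K) = ((g * a : G) : G ⧸ K) := rfl
        rw [h3]
        group
  rw [transfer_eq_prod_sec D φ s hs g, transfer_eq_prod_sec K _ s₁ hs₁ g]
  have hinner : ∀ k : K,
      MonoidHom.transfer (φ.comp (Subgroup.subgroupOfEquivOfLe hDK).toMonoidHom) k =
      ∏ r, (φ.comp (Subgroup.subgroupOfEquivOfLe hDK).toMonoidHom)
        ⟨(s₂ (k • r))⁻¹ * k * s₂ r, sec_mem _ s₂ hs₂ k r⟩ :=
    fun k => transfer_eq_prod_sec (D.subgroupOf K) _ s₂ hs₂ k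
  simp_rw [hinner]
  rw [← Fintype.prod_prod_type']
  refine Fintype.prod_equiv E _ _ ?_
  intro q
  show φ _ = φ _
  congr 1
  apply Subtype.ext
  show (s (g • q))⁻¹ * g * s q =
    ((((s₂ ((⟨(s₁ (g • (E q).1))⁻¹ * g * s₁ (E q).1, hkmem _⟩ : K) • (E q).2))⁻¹ *
      (⟨(s₁ (g • (E q).1))⁻¹ * g * s₁ (E q).1, hkmem _⟩ : K) * s₂ (E q).2 : K)) : G)
  rw [hsdef, hsdef, hEg]
  simp only [Subgroup.coe_mul, Subgroup.coe_inv]
  group

end Cfsg.Agent.Lib.Helper34.Yoshida
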