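import Mathlib
import Cfsg.Agent.Lib.Helper34.TransferMackey
import Cfsg.Agent.S1952

/-!
Yoshida-type vanishing lemma (helper34): in a `p`-group without wreath quotient, transfers of
exponent-`p` characters into proper subgroups vanish on the subgroup.
-/

set_option autoImplicit false

namespace Cfsg.Agent.Lib.Helper34.Yoshida

open Cfsg.Agent.Lib.Helper34.Witt
open scoped Pointwise

theorem conj_pow_mem {P : Type*} [Group P] (A : Subgroup P) [A.Normal] (y : P) {d : P}
    (hd : d ∈ A) (i : ℕ) : (y ^ i)⁻¹ * d * y ^ i ∈ A := by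
  simpa using ‹A.Normal›.conj_mem d hd (y ^ i)⁻¹

/-- transfer into a normal subgroup of prime index, evaluated on the subgroup -/
theorem transfer_normal_prime_index {P : Type*} [Group P] [Finite P] {p : ℕ} [Fact p.Prime]
    {T : Type*} [CommGroup T]
    (A : Subgroup P) [A.Normal] (hidx : A.index = p) (y : P) (hy : y ∉ A)
    (ν : A →* T) (d : P) (hd : d ∈ A) :
    MonoidHom.transfer ν d = ∏ i ∈ Finset.range p, ν ⟨(y ^ i)⁻¹ * d * y ^ i, conj_pow_mem A y hd i⟩ := by
  classical
  have hp : p.Prime := Fact.out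
  let _ : Fintype (P ⧸ A) := Fintype.ofFinite _
  have hcard : Fintype.card (P ⧸ A) = p := by
    rw [← Nat.card_eq_fintype_card, ← Subgroup.index_eq_card, hidx]
  -- the generator of the quotient
  have hy1 : ((y : P) : P ⧸ A) ≠ 1 := by
    intro h
    exact hy ((QuotientGroup.eq_one_iff y).mp h)
  have hyp : ((y : P) : P ⧸ A) ^ p = 1 := by
    rw [← hcard]; exact pow_card_eq_one
  have hord : orderOf ((y : P) : P ⧸ A) = p := orderOf_eq_prime hyp hy1
  have hinj : Set.InjOn (fun i : ℕ => ((y : P) : P ⧸ A) ^ i) (Finset.range p : Set ℕ) := by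
    have := pow_injOn_Iio_orderOf (x := ((y : P) : P ⧸ A))
    rw [hord] at this
    intro i hi j hj hij
    exact this (by simpa using hi) (by simpa using hj) hij
  have himage : (Finset.range p).image (fun i : ℕ => ((y : P) : P ⧸ A) ^ i) = Finset.univ := by
    apply Finset.eq_univ_of_card
    rw [Finset.card_image_of_injOn hinj, Finset.card_range, hcard]
  have hsurj : ∀ q : P ⧸ A, ∃ i, i < p ∧ ((y : P) : P ⧸ A) ^ i = q := by
    intro q
    have : q ∈ (Finset.range p).image (fun i : ℕ => ((y : P) : P ⧸ A) ^ i) := by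
      rw [himage]; exact Finset.mem_univ q
    obtain ⟨i, hi, hiq⟩ := Finset.mem_image.mp this
    exact ⟨i, Finset.mem_range.mp hi, hiq⟩
  choose k hk hkq using hsurj
  have hkpow : ∀ i, i < p → k (((y : P) : P ⧸ A) ^ i) = i := by
    intro i hi
    apply hinj (by simpa using hk _) (by simpa using hi)
    exact hkq _
  have hs : ∀ q : P ⧸ A, ((y ^ k q : P) : P ⧸ A) = q := by
    intro q
    rw [QuotientGroup.mk_pow, hkq]
  rw [transfer_eq_prod_sec A ν (fun q => y ^ k q) hs d]
  have hfix : ∀ q : P ⧸ A, d • q = q := by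
    intro q
    obtain ⟨a, rfl⟩ := QuotientGroup.mk_surjective q
    show ((d * a : P) : P ⧸ A) = ((a : P) : P ⧸ A)
    rw [QuotientGroup.eq]
    have := ‹A.Normal›.conj_mem d⁻¹ (A.inv_mem hd) a⁻¹
    simpa [mul_assoc] using this
  rw [← himage, Finset.prod_image hinj]
  refine Finset.prod_congr rfl (fun i hi => ?_)
  congr 1
  apply Subtype.ext
  show (y ^ k (d • (((y : P) : P ⧸ A) ^ i)))⁻¹ * d * y ^ k (((y : P) : P ⧸ A) ^ i) =
    (y ^ i)⁻¹ * d * y ^ i
  rw [hfix, hkpow i (Finset.mem_range.mp hi)]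

/-- "no wreath quotient" -/
def NoWreath (p : ℕ) [Fact p.Prime] (P : Type*) [Group P] : Prop :=
  ¬ ∃ (Q : Sylow p (Equiv.Perm (Fin (p ^ 2))))
    (f : P →* ↥(Q : Subgroup (Equiv.Perm (Fin (p ^ 2))))), Function.Surjective f

theorem prod_range_eq_list {P T : Type*} [Group P] [CommGroup T] (A : Subgroup P) (ν : A →* T)
    (c : ℕ → P) (hc : ∀ i, c i ∈ A) (n : ℕ) :
    ∃ h : ((List.range n).map c).prod ∈ A,
      ∏ i ∈ Finset.range n, ν ⟨c i, hc i⟩ = ν ⟨((List.range n).map c).prod, h⟩ := by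
  induction n with
  | zero =>
    refine ⟨by simp, ?_⟩
    simp
    rw [← map_one ν]
    rfl
  | succ n ih =>
    obtain ⟨h, ih⟩ := ih
    have hmem : ((List.range (n + 1)).map c).prod ∈ A := by
      rw [List.prod_range_succ]
      exact A.mul_mem h (hc n)
    refine ⟨hmem, ?_⟩
    rw [Finset.prod_range_succ, ih, ← map_mul]
    congr 1
    apply Subtype.ext
    show ((List.range n).map c).prod * c n = ((List.range (n + 1)).map c).prod
    rw [List.prod_range_succ]

set_option maxHeartbeats 800000 in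
/-- norm products of characters of exponent `p` vanish when there is no wreath quotient -/
theorem ns_max {P : Type*} [Group P] [Finite P] {p : ℕ} [Fact p.Prime] (hP : IsPGroup p P)
    (hno : NoWreath p P) {T : Type*} [CommGroup T]
    (A : Subgroup P) [A.Normal] (hidx : A.index = p) (y : P) (hy : y ∉ A)
    (ν : A →* T) (hν : ∀ a, ν a ^ p = 1) (d : P) (hd : d ∈ A) :
    ∏ i ∈ Finset.range p, ν ⟨(y ^ i)⁻¹ * d * y ^ i, conj_pow_mem A y hd i⟩ = 1 := by
  classical
  by_contra hne
  apply hno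
  -- the core of the kernel
  have hconj : ∀ (g a : P), a ∈ A → g⁻¹ * a * g ∈ A := by
    intro g a ha
    simpa using ‹A.Normal›.conj_mem a ha g⁻¹
  let K₀ : Subgroup P :=
    { carrier := {a | ∃ ha : a ∈ A, ∀ g : P, ν ⟨g⁻¹ * a * g, hconj g a ha⟩ = 1}
      one_mem' := by
        refine ⟨A.one_mem, fun g => ?_⟩
        rw [← map_one ν]
        congr 1
        apply Subtype.ext
        simp
      mul_mem' := by
        rintro a b ⟨ha, ha'⟩ ⟨hb, hb'⟩
        refine ⟨A.mul_mem ha hb, fun g => ?_⟩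
        have : (⟨g⁻¹ * (a * b) * g, hconj g (a * b) (A.mul_mem ha hb)⟩ : A) =
            ⟨g⁻¹ * a * g, hconj g a ha⟩ * ⟨g⁻¹ * b * g, hconj g b hb⟩ := by
          apply Subtype.ext
          simp only [Subgroup.coe_mul]
          group
        rw [this, map_mul, ha', hb', one_mul]
      inv_mem' := by
        rintro a ⟨ha, ha'⟩
        refine ⟨A.inv_mem ha, fun g => ?_⟩
        have : (⟨g⁻¹ * a⁻¹ * g, hconj g a⁻¹ (A.inv_mem ha)⟩ : A) =
            (⟨g⁻¹ * a * g, hconj g a ha⟩ : A)⁻¹ := by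
          apply Subtype.ext
          simp only [Subgroup.coe_inv]
          group
        rw [this, map_inv, ha', inv_one] }
  have hK₀mem : ∀ a, a ∈ K₀ ↔ ∃ ha : a ∈ A, ∀ g : P, ν ⟨g⁻¹ * a * g, hconj g a ha⟩ = 1 :=
    fun a => Iff.rfl
  have hK₀A : K₀ ≤ A := fun a ha => ha.1
  have hK₀n : K₀.Normal := by
    refine ⟨fun a ha h => ?_⟩
    obtain ⟨ha1, ha2⟩ := ha
    have hmem : h * a * h⁻¹ ∈ A := ‹A.Normal›.conj_mem a ha1 h
    refine ⟨hmem, fun g => ?_⟩
    have := ha2 (h⁻¹ * g)
    rw [← this]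
    congr 1
    apply Subtype.ext
    show g⁻¹ * (h * a * h⁻¹) * g = (h⁻¹ * g)⁻¹ * a * (h⁻¹ * g)
    group
  -- the quotient
  obtain ⟨π, hπdef⟩ : ∃ π : P →* P ⧸ K₀, π = QuotientGroup.mk' K₀ := ⟨_, rfl⟩
  have hπsurj : Function.Surjective π := by rw [hπdef]; exact QuotientGroup.mk'_surjective K₀
  have hπker : π.ker = K₀ := by rw [hπdef]; exact QuotientGroup.ker_mk' K₀
  have hπeq : ∀ a b : P, π a = π b ↔ a⁻¹ * b ∈ K₀ := by
    intro a b; rw [hπdef]; exact QuotientGroup.eq
  have hπone : ∀ a : P, π a = 1 ↔ a ∈ K₀ := by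
    intro a; rw [← MonoidHom.mem_ker, hπker]
  have hĀn : (A.map π).Normal := Subgroup.Normal.map ‹A.Normal› π hπsurj
  have hĀidx : (A.map π).index = p := by
    rw [Subgroup.index_map_eq _ hπsurj (by rw [hπker]; exact hK₀A), hidx]
  have hPbar : IsPGroup p (P ⧸ K₀) := hP.to_quotient K₀
  have hĀel : Cfsg.IsElementaryAbelian p (A.map π) := by
    constructor
    · refine ⟨⟨?_⟩⟩
      rintro ⟨_, a, ha, rfl⟩ ⟨_, b, hb, rfl⟩
      apply Subtype.ext
      show π a * π b = π b * π a
      rw [← map_mul, ← map_mul, hπeq]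
      refine ⟨A.mul_mem (A.inv_mem (A.mul_mem ha hb)) (A.mul_mem hb ha), fun g => ?_⟩
      have h1 : (⟨g⁻¹ * ((a * b)⁻¹ * (b * a)) * g, hconj g _
          (A.mul_mem (A.inv_mem (A.mul_mem ha hb)) (A.mul_mem hb ha))⟩ : A) =
          ((⟨g⁻¹ * a * g, hconj g a ha⟩ : A) * ⟨g⁻¹ * b * g, hconj g b hb⟩)⁻¹ *
            ((⟨g⁻¹ * b * g, hconj g b hb⟩ : A) * ⟨g⁻¹ * a * g, hconj g a ha⟩) := by
        apply Subtype.ext
        simp only [Subgroup.coe_mul, Subgroup.coe_inv]
        group
      rw [h1, map_mul, map_inv, map_mul, map_mul, mul_comm (ν ⟨g⁻¹ * a * g, hconj g a ha⟩),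
        inv_mul_cancel]
    · rintro _ ⟨a, ha, rfl⟩
      rw [← map_pow, hπone]
      refine ⟨A.pow_mem ha p, fun g => ?_⟩
      have h1 : (⟨g⁻¹ * a ^ p * g, hconj g _ (A.pow_mem ha p)⟩ : A) =
          (⟨g⁻¹ * a * g, hconj g a ha⟩ : A) ^ p := by
        apply Subtype.ext
        simp only [Subgroup.coe_pow]
        have h2 := conj_pow (a := g⁻¹) (b := a) (i := p)
        rw [inv_inv] at h2
        exact h2.symm
      rw [h1, map_pow, hν]
  have hx : π d ∈ A.map π := Subgroup.mem_map_of_mem π hd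
  have hyĀ : π y ∉ A.map π := by
    rintro ⟨a, ha, hay⟩
    have h1 : a⁻¹ * y ∈ K₀ := (hπeq a y).mp hay
    have h2 := A.mul_mem ha (hK₀A h1)
    apply hy
    simpa using h2
  have hprod : ((List.range p).map (fun i => (π y ^ i)⁻¹ * π d * π y ^ i)).prod ≠ 1 := by
    have h1 : ((List.range p).map (fun i => (π y ^ i)⁻¹ * π d * π y ^ i)).prod =
        π (((List.range p).map (fun i => (y ^ i)⁻¹ * d * y ^ i)).prod) := by
      rw [map_list_prod, List.map_map]
      congr 1
      apply List.map_congr_left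
      intro i _
      simp
    rw [h1]
    intro h
    obtain ⟨hA, hg⟩ := (hπone _).mp h
    apply hne
    obtain ⟨h2, h3⟩ := prod_range_eq_list A ν (fun i => (y ^ i)⁻¹ * d * y ^ i)
      (fun i => conj_pow_mem A y hd i) p
    rw [h3, ← hg 1]
    congr 1
    apply Subtype.ext
    simp
  obtain ⟨Q, f, hf⟩ := Cfsg.Agent.S1952.result hPbar (A.map π) hĀel hĀidx (π d) (π y) hx hyĀ hprod
  exact ⟨Q, f.comp π, hf.comp hπsurj⟩

set_option maxHeartbeats 800000 in
/-- transfers of characters of exponent `p` into proper subgroups vanish on the subgroup,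
when there is no wreath quotient -/
theorem ns_general {P : Type*} [Group P] [Finite P] {p : ℕ} [Fact p.Prime] (hP : IsPGroup p P)
    (hno : NoWreath p P) {T : Type*} [CommGroup T]
    (D : Subgroup P) (hD : D ≠ ⊤) (μ : D →* T) (hμ : ∀ d, μ d ^ p = 1) (d : P) (hd : d ∈ D) :
    MonoidHom.transfer μ d = 1 := by
  classical
  have hp : p.Prime := Fact.out
  obtain ⟨N, hN⟩ := IsPGroup.iff_card.mp hP
  obtain ⟨n, hn⟩ := IsPGroup.iff_card.mp (hP.to_subgroup D)
  have hlt : n < N := by
    have h1 : Nat.card D < Nat.card P := by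
      refine lt_of_le_of_ne (Subgroup.card_le_card_group D) ?_
      intro h
      exact hD (Subgroup.eq_top_of_card_eq D h)
    rw [hn, hN] at h1
    exact (Nat.pow_lt_pow_iff_right hp.one_lt).mp h1
  have hdvd : p ^ (N - 1) ∣ Nat.card P := by
    rw [hN]; exact pow_dvd_pow p (Nat.sub_le N 1)
  obtain ⟨A, hAcard, hDA⟩ := Sylow.exists_subgroup_card_pow_prime_le p hdvd D hn (by omega)
  have hAidx : A.index = p := by
    have h1 := A.card_mul_index
    rw [hAcard, hN] at h1
    have h2 : p ^ N = p ^ (N - 1) * p := by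
      rw [← pow_succ]; congr 1; omega
    rw [h2] at h1
    exact Nat.eq_of_mul_eq_mul_left (pow_pos hp.pos _) h1
  have hAn : A.Normal := by
    apply Subgroup.normal_of_index_eq_minFac_card
    rw [hAidx, hN, Nat.Prime.pow_minFac hp (by omega)]
  obtain ⟨y, hy⟩ : ∃ y : P, y ∉ A := by
    by_contra hcon
    push Not at hcon
    have : A = ⊤ := by
      rw [eq_top_iff]; intro x _; exact hcon x
    rw [this, Subgroup.index_top] at hAidx
    exact hp.one_lt.ne hAidx
  rw [transfer_trans D A hDA μ d]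
  have hν : ∀ a : A, (MonoidHom.transfer
      (μ.comp (Subgroup.subgroupOfEquivOfLe hDA).toMonoidHom)) a ^ p = 1 := by
    intro a
    let _ : Fintype (A ⧸ D.subgroupOf A) := Fintype.ofFinite _
    have hs : ∀ r : A ⧸ D.subgroupOf A, ((Quotient.out r : A) : A ⧸ D.subgroupOf A) = r :=
      fun r => Quotient.out_eq' r
    rw [transfer_eq_prod_sec (D.subgroupOf A) _ _ hs a, ← Finset.prod_pow]
    refine Finset.prod_eq_one (fun r _ => ?_)
    exact hμ _
  rw [transfer_normal_prime_index A hAidx y hy _ d (hDA hd)]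
  exact ns_max hP hno A hAidx y hy _ hν d (hDA hd)

end Cfsg.Agent.Lib.Helper34.Yoshida
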