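import Mathlib
import Cfsg.Agent.Lib.Helper34.YoshidaNS

set_option autoImplicit false

namespace Cfsg.Agent.Lib.Helper34.Yoshida

open Cfsg.Agent.Lib.Helper34.Witt
open scoped Pointwise

theorem mem_normalizer_of_conj_le {G : Type*} [Group G] [Finite G] (P : Subgroup G) (x : G)
    (h : ∀ k ∈ P, x⁻¹ * k * x ∈ P) : x ∈ Subgroup.normalizer (P : Set G) := by
  rw [Subgroup.mem_set_normalizer_iff'']
  intro k
  constructor
  · exact h k
  · intro hk
    let c : P → P := fun k' => ⟨x⁻¹ * k' * x, h k' k'.2⟩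
    have hinj : Function.Injective c := by
      intro a b hab
      have h1 : x⁻¹ * (a : G) * x = x⁻¹ * (b : G) * x := congrArg Subtype.val hab
      apply Subtype.ext
      have h2 := congrArg (fun z => x * z * x⁻¹) h1
      simpa [mul_assoc] using h2
    obtain ⟨k', hk'⟩ := Finite.surjective_of_injective hinj ⟨x⁻¹ * k * x, hk⟩
    have h1 : x⁻¹ * (k' : G) * x = x⁻¹ * k * x := congrArg Subtype.val hk'
    have h2 : (k' : G) = k := by
      have h3 := congrArg (fun z => x * z * x⁻¹) h1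
      simpa [mul_assoc] using h3
    rw [← h2]
    exact k'.2

theorem transfer_one_hom {G : Type*} [Group G] (H : Subgroup G) [H.FiniteIndex] {T : Type*}
    [CommGroup T] (g : G) : MonoidHom.transfer (1 : H →* T) g = 1 := by
  classical
  letI : Fintype (G ⧸ H) := H.fintypeQuotientOfFiniteIndex
  have hs : ∀ q : G ⧸ H, ((Quotient.out q : G) : G ⧸ H) = q := fun q => Quotient.out_eq' q
  rw [transfer_eq_prod_sec H _ _ hs]
  simp

theorem sum_index_stabilizer {G : Type*} [Group G] [Finite G] (H K : Subgroup G)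
    [Fintype (Quotient (MulAction.orbitRel K (G ⧸ H)))] :
    ∑ ω : Quotient (MulAction.orbitRel K (G ⧸ H)), (MulAction.stabilizer K (Quotient.out ω)).index =
      H.index := by
  classical
  letI : Fintype (G ⧸ H) := Fintype.ofFinite _
  letI : ∀ ω : Quotient (MulAction.orbitRel K (G ⧸ H)),
      Fintype (K ⧸ MulAction.stabilizer K (Quotient.out ω)) := fun ω => Fintype.ofFinite _
  rw [Subgroup.index_eq_card, Nat.card_eq_fintype_card,
    Fintype.card_congr (MulAction.selfEquivSigmaOrbitsQuotientStabilizer K (G ⧸ H)),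
    Fintype.card_sigma]
  refine Finset.sum_congr rfl (fun ω _ => ?_)
  rw [Subgroup.index_eq_card, Nat.card_eq_fintype_card]

set_option maxHeartbeats 1600000 in
theorem factor_lemma {G : Type*} [Group G] [Finite G] {p : ℕ} [Fact p.Prime] (P : Subgroup G)
    (hP : IsPGroup p P) (hno : NoWreath p ↥P) {T : Type*} [CommGroup T] (lam : P →* T)
    (hinv : ∀ n ∈ Subgroup.normalizer (P : Set G), ∀ (u : G) (hu : u ∈ P) (hu' : n⁻¹ * u * n ∈ P),
      lam ⟨n⁻¹ * u * n, hu'⟩ = lam ⟨u, hu⟩)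
    (hstab : ∀ (g u : G) (hu : u ∈ P) (hu' : g⁻¹ * u * g ∈ P),
      (lam ⟨g⁻¹ * u * g, hu'⟩) ^ p = (lam ⟨u, hu⟩) ^ p)
    (u : G) (hu : u ∈ P)
    (IH : ∀ (w : G) (hw : w ∈ P), orderOf w < orderOf u → ∀ (g : G) (hg : g⁻¹ * w * g ∈ P),
      lam ⟨g⁻¹ * w * g, hg⟩ = lam ⟨w, hw⟩)
    (q₀ : G ⧸ P) :
    MonoidHom.transfer (mackeyHom P P lam q₀) ⟨u, hu⟩ =
      lam ⟨u, hu⟩ ^ (MulAction.stabilizer P q₀).index := by
  classical
  obtain ⟨x, hx⟩ : ∃ x : G, x = (Quotient.out q₀ : G) := ⟨_, rfl⟩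
  obtain ⟨ρ, hρdef⟩ : ∃ ρ : MulAction.stabilizer P q₀ →* T,
      ρ = mackeyHom P P lam q₀ / lam.comp (MulAction.stabilizer P q₀).subtype := ⟨_, rfl⟩
  have hdecomp : mackeyHom P P lam q₀ = ρ * lam.comp (MulAction.stabilizer P q₀).subtype := by
    rw [hρdef, div_mul_cancel]
  have hρ : ∀ d : MulAction.stabilizer P q₀, ρ d =
      lam ⟨x⁻¹ * ((d : P) : G) * x, by rw [hx]; exact mackey_mem P P q₀ d⟩ / lam (d : P) := by
    intro d
    rw [hρdef, MonoidHom.div_apply, mackeyHom_apply]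
    simp only [hx]
    rfl
  rw [hdecomp, transfer_mul, transfer_restrict]
  suffices h : MonoidHom.transfer ρ ⟨u, hu⟩ = 1 by rw [h, one_mul]
  by_cases htop : MulAction.stabilizer P q₀ = ⊤
  · -- `ρ = 1`
    have hxN : x ∈ Subgroup.normalizer (P : Set G) := by
      apply mem_normalizer_of_conj_le P x
      intro k hk
      have h1 : (⟨k, hk⟩ : P) ∈ MulAction.stabilizer P q₀ := by rw [htop]; trivial
      rw [hx]
      exact mackey_mem_aux P P q₀ ⟨k, hk⟩ h1
    have hρ1 : ρ = 1 := by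
      ext d
      rw [hρ, MonoidHom.one_apply, div_eq_one]
      exact hinv x hxN _ (d : P).2 _
    rw [hρ1, transfer_one_hom]
  · by_cases hfix : ∃ t : P, t⁻¹ * ⟨u, hu⟩ * t ∈ MulAction.stabilizer P q₀
    · obtain ⟨t, ht⟩ := hfix
      have h1 : MonoidHom.transfer ρ ⟨u, hu⟩ = MonoidHom.transfer ρ (t⁻¹ * ⟨u, hu⟩ * t) := by
        rw [map_mul, map_mul, map_inv, mul_comm, mul_inv_cancel_left]
      rw [h1]
      have hP' : IsPGroup p ↥P := hP
      refine ns_general hP' hno (MulAction.stabilizer P q₀) htop ρ ?_ _ ht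
      intro d
      rw [hρ, div_pow, div_eq_one]
      exact hstab x _ (d : P).2 _
    · push Not at hfix
      have hρval : ∀ (d : P) (hd : d ∈ MulAction.stabilizer P q₀) (w : G) (hw : w ∈ P) (g₁ : G)
          (hdw : (d : G) = g₁⁻¹ * w * g₁) (hlt : orderOf w < orderOf u), ρ ⟨d, hd⟩ = 1 := by
        intro d hd w hw g₁ hdw hlt
        rw [hρ, div_eq_one]
        have h1 : x⁻¹ * (d : G) * x ∈ P := by rw [hx]; exact mackey_mem P P q₀ ⟨d, hd⟩
        have heq : x⁻¹ * (d : G) * x = (g₁ * x)⁻¹ * w * (g₁ * x) := by rw [hdw]; group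
        have h2 : (g₁ * x)⁻¹ * w * (g₁ * x) ∈ P := heq ▸ h1
        have h3 : g₁⁻¹ * w * g₁ ∈ P := hdw ▸ d.2
        have e1 : lam ⟨x⁻¹ * (d : G) * x, h1⟩ = lam ⟨(g₁ * x)⁻¹ * w * (g₁ * x), h2⟩ := by
          congr 1
          exact Subtype.ext heq
        have e2 : lam d = lam ⟨g₁⁻¹ * w * g₁, h3⟩ := by
          congr 1
          exact Subtype.ext hdw
        show lam ⟨x⁻¹ * (d : G) * x, h1⟩ = lam d
        rw [e1, e2, IH w hw hlt (g₁ * x) h2, IH w hw hlt g₁ h3]
      letI : Fintype (Quotient (MulAction.orbitRel (Subgroup.zpowers (⟨u, hu⟩ : P))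
        (P ⧸ MulAction.stabilizer P q₀))) := Fintype.ofFinite _
      rw [MonoidHom.transfer_eq_prod_quotient_orbitRel_zpowers_quot]
      refine Finset.prod_eq_one (fun q _ => ?_)
      have hmdvd : Function.minimalPeriod ((⟨u, hu⟩ : P) • ·) (Quotient.out q) ∣ orderOf u := by
        have h1 := MulAction.period_dvd_orderOf (⟨u, hu⟩ : P) (Quotient.out q)
        have h2 : orderOf (⟨u, hu⟩ : P) = orderOf u := Subgroup.orderOf_mk u hu
        rw [← h2]
        exact h1
      have hupos : 0 < orderOf u := orderOf_pos u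
      have hm0 : Function.minimalPeriod ((⟨u, hu⟩ : P) • ·) (Quotient.out q) ≠ 0 := fun h0 => by
        rw [h0, zero_dvd_iff] at hmdvd; omega
      have hm1 : Function.minimalPeriod ((⟨u, hu⟩ : P) • ·) (Quotient.out q) ≠ 1 := by
        intro h1
        have h2 : (⟨u, hu⟩ : P) • (Quotient.out q) = Quotient.out q :=
          Function.minimalPeriod_eq_one_iff_isFixedPt.mp h1
        have h3 : (((Quotient.out (Quotient.out q) : P) : P) : P ⧸ MulAction.stabilizer P q₀) =
            Quotient.out q := Quotient.out_eq' _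
        rw [← h3] at h2
        have h4 : (((⟨u, hu⟩ : P) * (Quotient.out (Quotient.out q) : P) : P) :
            P ⧸ MulAction.stabilizer P q₀) =
            (((Quotient.out (Quotient.out q) : P) : P) : P ⧸ MulAction.stabilizer P q₀) := h2
        rw [QuotientGroup.eq] at h4
        apply hfix (Quotient.out (Quotient.out q) : P)
        have h5 := (MulAction.stabilizer P q₀).inv_mem h4
        have h6 : ((⟨u, hu⟩ : P) * (Quotient.out (Quotient.out q) : P))⁻¹ *
            (Quotient.out (Quotient.out q) : P) =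
            ((Quotient.out (Quotient.out q) : P)⁻¹ * ⟨u, hu⟩ * (Quotient.out (Quotient.out q) : P))⁻¹ := by
          group
        rw [h6, inv_inv] at h5
        exact h5
      have hwlt : orderOf (u ^ Function.minimalPeriod ((⟨u, hu⟩ : P) • ·) (Quotient.out q)) <
          orderOf u := by
        rw [orderOf_pow_of_dvd hm0 hmdvd]
        exact Nat.div_lt_self hupos (by omega)
      refine hρval _ _ (u ^ Function.minimalPeriod ((⟨u, hu⟩ : P) • ·) (Quotient.out q))
        (P.pow_mem hu _) ((Quotient.out (Quotient.out q) : P) : G) ?_ hwlt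
      simp

theorem key_lemma {G : Type*} [Group G] [Finite G] {p : ℕ} [Fact p.Prime] (P : Subgroup G)
    (hP : IsPGroup p P) (hno : NoWreath p ↥P) {T : Type*} [CommGroup T] (lam : P →* T)
    (hinv : ∀ n ∈ Subgroup.normalizer (P : Set G), ∀ (u : G) (hu : u ∈ P) (hu' : n⁻¹ * u * n ∈ P),
      lam ⟨n⁻¹ * u * n, hu'⟩ = lam ⟨u, hu⟩)
    (hstab : ∀ (g u : G) (hu : u ∈ P) (hu' : g⁻¹ * u * g ∈ P),
      (lam ⟨g⁻¹ * u * g, hu'⟩) ^ p = (lam ⟨u, hu⟩) ^ p)
    (u : G) (hu : u ∈ P)
    (IH : ∀ (w : G) (hw : w ∈ P), orderOf w < orderOf u → ∀ (g : G) (hg : g⁻¹ * w * g ∈ P),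
      lam ⟨g⁻¹ * w * g, hg⟩ = lam ⟨w, hw⟩) :
    MonoidHom.transfer lam u = lam ⟨u, hu⟩ ^ P.index := by
  classical
  letI : Fintype (Quotient (MulAction.orbitRel P (G ⧸ P))) := Fintype.ofFinite _
  have hmack := mackey_transfer P P lam ⟨u, hu⟩
  have h1 : MonoidHom.transfer lam u = MonoidHom.transfer lam ((⟨u, hu⟩ : P) : G) := rfl
  rw [h1, hmack, Finset.prod_congr rfl
    (fun ω _ => factor_lemma P hP hno lam hinv hstab u hu IH (Quotient.out ω)),
    Finset.prod_pow_eq_pow_sum, sum_index_stabilizer]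

/-- one step: stability of the `p`-th power gives stability -/
theorem step_lemma {G : Type*} [Group G] [Finite G] {p : ℕ} [Fact p.Prime] (P : Subgroup G)
    (hP : IsPGroup p P) (hidx : ¬ p ∣ P.index) (hno : NoWreath p ↥P) {T : Type*} [CommGroup T]
    (lam : P →* T)
    (hinv : ∀ n ∈ Subgroup.normalizer (P : Set G), ∀ (u : G) (hu : u ∈ P) (hu' : n⁻¹ * u * n ∈ P),
      lam ⟨n⁻¹ * u * n, hu'⟩ = lam ⟨u, hu⟩)
    (hstab : ∀ (g u : G) (hu : u ∈ P) (hu' : g⁻¹ * u * g ∈ P),
      (lam ⟨g⁻¹ * u * g, hu'⟩) ^ p = (lam ⟨u, hu⟩) ^ p) :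
    ∀ (g u : G) (hu : u ∈ P) (hu' : g⁻¹ * u * g ∈ P), lam ⟨g⁻¹ * u * g, hu'⟩ = lam ⟨u, hu⟩ := by
  have hp : p.Prime := Fact.out
  have main : ∀ n : ℕ, ∀ (u : G) (hu : u ∈ P), orderOf u = n → ∀ (g : G) (hu' : g⁻¹ * u * g ∈ P),
      lam ⟨g⁻¹ * u * g, hu'⟩ = lam ⟨u, hu⟩ := by
    intro n
    induction n using Nat.strong_induction_on with
    | _ n ih =>
      intro u hu hun g hu'
      have IH : ∀ (w : G) (hw : w ∈ P), orderOf w < orderOf u → ∀ (g : G) (hg : g⁻¹ * w * g ∈ P),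
          lam ⟨g⁻¹ * w * g, hg⟩ = lam ⟨w, hw⟩ := by
        intro w hw hlt g' hg'
        exact ih (orderOf w) (by rw [← hun]; exact hlt) w hw rfl g' hg'
      have hord : orderOf (g⁻¹ * u * g) = orderOf u := by
        have := MulEquiv.orderOf_eq (MulAut.conj g⁻¹) u
        simpa [MulAut.conj_apply] using this
      have IH' : ∀ (w : G) (hw : w ∈ P), orderOf w < orderOf (g⁻¹ * u * g) →
          ∀ (g' : G) (hg : g'⁻¹ * w * g' ∈ P), lam ⟨g'⁻¹ * w * g', hg⟩ = lam ⟨w, hw⟩ := by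
        rw [hord]; exact IH
      have k1 := key_lemma P hP hno lam hinv hstab u hu IH
      have k2 := key_lemma P hP hno lam hinv hstab (g⁻¹ * u * g) hu' IH'
      have k3 : MonoidHom.transfer lam (g⁻¹ * u * g) = MonoidHom.transfer lam u := by
        rw [map_mul, map_mul, map_inv, mul_comm, mul_inv_cancel_left]
      rw [k3, k1] at k2
      -- coprimality
      have hq : (lam ⟨g⁻¹ * u * g, hu'⟩ / lam ⟨u, hu⟩) ^ P.index = 1 := by
        rw [div_pow, ← k2, div_self']
      have hq2 : (lam ⟨g⁻¹ * u * g, hu'⟩ / lam ⟨u, hu⟩) ^ Nat.card P = 1 := by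
        rw [div_pow, ← map_pow, ← map_pow, pow_card_eq_one', pow_card_eq_one', map_one, div_one]
      obtain ⟨k, hk⟩ := IsPGroup.iff_card.mp hP
      have hcop : Nat.Coprime P.index (Nat.card P) := by
        rw [hk]
        exact Nat.Coprime.pow_right k ((Nat.Prime.coprime_iff_not_dvd hp).mpr hidx).symm
      have hone : orderOf (lam ⟨g⁻¹ * u * g, hu'⟩ / lam ⟨u, hu⟩) = 1 := by
        have d1 := orderOf_dvd_of_pow_eq_one hq
        have d2 := orderOf_dvd_of_pow_eq_one hq2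
        exact Nat.eq_one_of_dvd_coprimes hcop d1 d2
      rw [orderOf_eq_one_iff, div_eq_one] at hone
      exact hone
  intro g u hu hu'
  exact main (orderOf u) u hu rfl g hu'

/-- downward induction: `N`-invariance alone gives stability -/
theorem stable_of_inv {G : Type*} [Group G] [Finite G] {p : ℕ} [Fact p.Prime] (P : Subgroup G)
    (hP : IsPGroup p P) (hidx : ¬ p ∣ P.index) (hno : NoWreath p ↥P) {T : Type*} [CommGroup T]
    (lam : P →* T)
    (hinv : ∀ n ∈ Subgroup.normalizer (P : Set G), ∀ (u : G) (hu : u ∈ P) (hu' : n⁻¹ * u * n ∈ P),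
      lam ⟨n⁻¹ * u * n, hu'⟩ = lam ⟨u, hu⟩) :
    ∀ (g u : G) (hu : u ∈ P) (hu' : g⁻¹ * u * g ∈ P), lam ⟨g⁻¹ * u * g, hu'⟩ = lam ⟨u, hu⟩ := by
  obtain ⟨J, hJ⟩ := IsPGroup.iff_card.mp hP
  have claim : ∀ k : ℕ, k ≤ J → ∀ (g u : G) (hu : u ∈ P) (hu' : g⁻¹ * u * g ∈ P),
      ((powMonoidHom (p ^ (J - k)) : T →* T).comp lam) ⟨g⁻¹ * u * g, hu'⟩ =
        ((powMonoidHom (p ^ (J - k)) : T →* T).comp lam) ⟨u, hu⟩ := by
    intro k
    induction k with
    | zero =>
      intro _ g u hu hu'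
      rw [Nat.sub_zero, MonoidHom.comp_apply, MonoidHom.comp_apply, powMonoidHom_apply,
        powMonoidHom_apply, ← map_pow, ← map_pow, ← hJ, pow_card_eq_one', pow_card_eq_one']
    | succ k ih =>
      intro hk g u hu hu'
      refine step_lemma P hP hidx hno ((powMonoidHom (p ^ (J - (k + 1))) : T →* T).comp lam)
        ?_ ?_ g u hu hu'
      · intro n hn u hu hu'
        rw [MonoidHom.comp_apply, MonoidHom.comp_apply, hinv n hn u hu hu']
      · intro g u hu hu'
        have h1 := ih (by omega) g u hu hu'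
        have e : p ^ (J - k) = p ^ (J - (k + 1)) * p := by
          rw [← pow_succ]; congr 1; omega
        rw [e] at h1
        simpa [MonoidHom.comp_apply, powMonoidHom_apply, pow_mul] using h1
  intro g u hu hu'
  have h1 := claim J le_rfl g u hu hu'
  simpa [MonoidHom.comp_apply, powMonoidHom_apply] using h1

/-- Yoshida core: an `N_G(P)`-invariant hom of `P` to an abelian group kills `P ∩ G'` -/
theorem yoshida_core {G : Type*} [Group G] [Finite G] {p : ℕ} [Fact p.Prime] (P : Subgroup G)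
    (hP : IsPGroup p P) (hidx : ¬ p ∣ P.index) (hno : NoWreath p ↥P) {T : Type*} [CommGroup T]
    (lam : P →* T)
    (hinv : ∀ n ∈ Subgroup.normalizer (P : Set G), ∀ (u : G) (hu : u ∈ P) (hu' : n⁻¹ * u * n ∈ P),
      lam ⟨n⁻¹ * u * n, hu'⟩ = lam ⟨u, hu⟩)
    (u : G) (hu : u ∈ P) (huc : u ∈ commutator G) : lam ⟨u, hu⟩ = 1 := by
  have hp : p.Prime := Fact.out
  have stab := stable_of_inv P hP hidx hno lam hinv
  have k1 := key_lemma P hP hno lam hinv (fun g u hu hu' => by rw [stab g u hu hu']) u hu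
    (fun w hw _ g hg => stab g w hw hg)
  have k2 : MonoidHom.transfer lam u = 1 :=
    Abelianization.commutator_subset_ker (MonoidHom.transfer lam) huc
  rw [k2] at k1
  have hq2 : (lam ⟨u, hu⟩) ^ Nat.card P = 1 := by
    rw [← map_pow, pow_card_eq_one', map_one]
  obtain ⟨k, hk⟩ := IsPGroup.iff_card.mp hP
  have hcop : Nat.Coprime P.index (Nat.card P) := by
    rw [hk]
    exact Nat.Coprime.pow_right k ((Nat.Prime.coprime_iff_not_dvd hp).mpr hidx).symm
  have hone : orderOf (lam ⟨u, hu⟩) = 1 := by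
    have d1 := orderOf_dvd_of_pow_eq_one k1.symm
    have d2 := orderOf_dvd_of_pow_eq_one hq2
    exact Nat.eq_one_of_dvd_coprimes hcop d1 d2
  rwa [orderOf_eq_one_iff] at hone

end Cfsg.Agent.Lib.Helper34.Yoshida
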