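import Mathlib
import Cfsg.Agent.Lib.Helper34.YoshidaMain

set_option autoImplicit false

/-!
# An abstract form of the factor lemma in Yoshida's theorem

`P` is a finite `p`-group without quotient `Z_p ≀ Z_p`, `lam : P →* T` a homomorphism to an abelian
group, `D ≤ P` and `μ : D →* T` a homomorphism that agrees with `lam` up to `p`-th powers, agrees with
`lam` on elements of order less than that of `u`, and agrees with `lam` when `D = P`.  Then the transfer
of `μ` to `P` takes the value `lam u ^ |P : D|` at `u`.
-/

namespace Cfsg.Agent.Lib.Helper34.Yoshida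

open Cfsg.Agent.Lib.Helper34.Witt

set_option maxHeartbeats 1600000 in
theorem factor_abs {P : Type*} [Group P] [Finite P] {p : ℕ} [Fact p.Prime] (hP : IsPGroup p P)
    (hno : NoWreath p P) {T : Type*} [CommGroup T] (lam : P →* T)
    (D : Subgroup P) (μ : D →* T)
    (h1 : D = ⊤ → ∀ d : D, μ d = lam d)
    (h2 : ∀ d : D, μ d ^ p = lam d ^ p)
    (u : P)
    (h3 : ∀ d : D, orderOf (d : P) < orderOf u → μ d = lam d) :
    MonoidHom.transfer μ u = lam u ^ D.index := by
  classical
  obtain ⟨ρ, hρdef⟩ : ∃ ρ : D →* T, ρ = μ / lam.comp D.subtype := ⟨_, rfl⟩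
  have hdecomp : μ = ρ * lam.comp D.subtype := by
    rw [hρdef, div_mul_cancel]
  have hρ : ∀ d : D, ρ d = μ d / lam (d : P) := by
    intro d
    rw [hρdef, MonoidHom.div_apply]
    rfl
  rw [hdecomp, transfer_mul, transfer_restrict]
  suffices h : MonoidHom.transfer ρ u = 1 by rw [h, one_mul]
  by_cases htop : D = ⊤
  · have hρ1 : ρ = 1 := by
      ext d
      rw [hρ, MonoidHom.one_apply, div_eq_one]
      exact h1 htop d
    rw [hρ1, transfer_one_hom]
  · by_cases hfix : ∃ t : P, t⁻¹ * u * t ∈ D
    · obtain ⟨t, ht⟩ := hfix
      have e1 : MonoidHom.transfer ρ u = MonoidHom.transfer ρ (t⁻¹ * u * t) := by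
        rw [map_mul, map_mul, map_inv, mul_comm, mul_inv_cancel_left]
      rw [e1]
      refine ns_general hP hno D htop ρ ?_ _ ht
      intro d
      rw [hρ, div_pow, div_eq_one]
      exact h2 d
    · push Not at hfix
      letI : Fintype (Quotient (MulAction.orbitRel (Subgroup.zpowers u) (P ⧸ D))) :=
        Fintype.ofFinite _
      rw [MonoidHom.transfer_eq_prod_quotient_orbitRel_zpowers_quot]
      refine Finset.prod_eq_one (fun q _ => ?_)
      have hmdvd : Function.minimalPeriod (u • ·) (Quotient.out q) ∣ orderOf u :=
        MulAction.period_dvd_orderOf u (Quotient.out q)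
      have hupos : 0 < orderOf u := orderOf_pos u
      have hm0 : Function.minimalPeriod (u • ·) (Quotient.out q) ≠ 0 := fun h0 => by
        rw [h0, zero_dvd_iff] at hmdvd; omega
      have hm1 : Function.minimalPeriod (u • ·) (Quotient.out q) ≠ 1 := by
        intro h1'
        have h2' : u • (Quotient.out q) = Quotient.out q :=
          Function.minimalPeriod_eq_one_iff_isFixedPt.mp h1'
        have h3' : (((Quotient.out (Quotient.out q) : P) : P) : P ⧸ D) =
            Quotient.out q := Quotient.out_eq' _
        rw [← h3'] at h2'
        have h4 : ((u * (Quotient.out (Quotient.out q) : P) : P) : P ⧸ D) =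
            (((Quotient.out (Quotient.out q) : P) : P) : P ⧸ D) := h2'
        rw [QuotientGroup.eq] at h4
        apply hfix (Quotient.out (Quotient.out q) : P)
        have h5 := D.inv_mem h4
        have h6 : (u * (Quotient.out (Quotient.out q) : P))⁻¹ *
            (Quotient.out (Quotient.out q) : P) =
            ((Quotient.out (Quotient.out q) : P)⁻¹ * u * (Quotient.out (Quotient.out q) : P))⁻¹ := by
          group
        rw [h6, inv_inv] at h5
        exact h5
      have hwlt : orderOf (u ^ Function.minimalPeriod (u • ·) (Quotient.out q)) < orderOf u := by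
        rw [orderOf_pow_of_dvd hm0 hmdvd]
        exact Nat.div_lt_self hupos (by omega)
      rw [hρ, div_eq_one]
      apply h3
      have hord : orderOf ((Quotient.out (Quotient.out q) : P)⁻¹ *
          u ^ Function.minimalPeriod (u • ·) (Quotient.out q) *
          (Quotient.out (Quotient.out q) : P)) =
          orderOf (u ^ Function.minimalPeriod (u • ·) (Quotient.out q)) := by
        have := MulEquiv.orderOf_eq (MulAut.conj (Quotient.out (Quotient.out q) : P)⁻¹)
          (u ^ Function.minimalPeriod (u • ·) (Quotient.out q))
        simpa [MulAut.conj_apply] using this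
      show orderOf ((Quotient.out (Quotient.out q) : P)⁻¹ *
          u ^ Function.minimalPeriod (u • ·) (Quotient.out q) *
          (Quotient.out (Quotient.out q) : P)) < orderOf u
      rw [hord]
      exact hwlt

end Cfsg.Agent.Lib.Helper34.Yoshida
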